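import Groth.Agent.H20OT.Cotan
import Mathlib.RingTheory.MvPolynomial.Homogeneous
import Mathlib.RingTheory.MvPolynomial.Ideal
import Mathlib.RingTheory.MvPolynomial.Basic
import Mathlib.Algebra.MvPolynomial.PDeriv
import Mathlib.RingTheory.Noetherian.Basic
import Mathlib.Data.Nat.Prime.Factorial
import Mathlib.RingTheory.MvPolynomial.EulerIdentity
import Mathlib.LinearAlgebra.FiniteDimensional.Lemmas
import Mathlib.RingTheory.Ideal.Quotient.Operations

/-!
Monomials in a lift of a cotangent basis of a commutative Hopf algebra over a field: linear independence in the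
graded ring, and the truncated polynomial presentation of the first Frobenius kernel.
-/

set_option autoImplicit false

universe u v w

open MvPolynomial

namespace Groth.Agent.H20OT

noncomputable section

theorem derivation_aeval {R A σ : Type*} [CommRing R] [CommRing A] [Algebra R A] [Fintype σ]
    (D : Derivation R A A) (x : σ → A) (P : MvPolynomial σ R) :
    D (aeval x P) = ∑ j, aeval x (pderiv j P) * D (x j) := by
  classical
  induction P using MvPolynomial.induction_on with
  | C a => simp
  | add p q hp hq => simp only [map_add, hp, hq, add_mul, Finset.sum_add_distrib]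
  | mul_X p i hp =>
    simp only [map_mul, aeval_X, Derivation.leibniz, smul_eq_mul, hp, map_add, pderiv_X, Finset.mul_sum]
    simp only [add_mul, Finset.sum_add_distrib]
    congr 1
    · rw [Finset.sum_eq_single i (fun b _ hb => by simp [Pi.single_eq_of_ne hb.symm]) (by simp), Pi.single_eq_same, map_one,
        mul_one]
    · exact Finset.sum_congr rfl fun j _ => by ring

theorem der_mem_pow' {R A : Type*} [CommRing R] [CommRing A] [Algebra R A] (D : Derivation R A A) {I : Ideal A} :
    ∀ (n : ℕ) {f : A}, f ∈ I ^ (n + 1) → D f ∈ I ^ n := by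
  intro n
  induction n with
  | zero => intro f _; simp
  | succ n ih =>
    intro f hf
    rw [pow_succ] at hf
    refine Submodule.mul_induction_on hf (fun r hr s hs => ?_) (fun a b ha hb => by rw [map_add]; exact add_mem ha hb)
    rw [Derivation.leibniz, smul_eq_mul, smul_eq_mul]
    exact add_mem (Ideal.mul_mem_right _ _ hr) (by rw [mul_comm, pow_succ]; exact Ideal.mul_mem_mul (ih hr) hs)

variable {k : Type u} [Field k] {A : Type v} [CommRing A] [HopfAlgebra k A]

theorem sub_algebraMap_counit_mem (a : A) :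
    a - algebraMap k A (Coalgebra.counit (R := k) a) ∈ augIdeal k A := (augPr k A a).2

variable (k A) in
open scoped Classical in
/-- a lift of a cotangent basis with dual derivations -/
structure CotLift (σ : Type w) where
  /-- the elements -/
  x : σ → A
  /-- the derivations -/
  D : σ → Derivation k A A
  mem : ∀ i, x i ∈ augIdeal k A
  dual : ∀ i j, D i (x j) - (if i = j then 1 else 0 : A) ∈ augIdeal k A
  span : ∀ a ∈ augIdeal k A, ∃ c : σ →₀ k, a - c.sum (fun j r => r • x j) ∈ augIdeal k A ^ 2

theorem finite_cotangent [IsNoetherianRing A] : Module.Finite k (augIdeal k A).Cotangent := by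
  classical
  obtain ⟨s, hs⟩ := (IsNoetherian.noetherian (augIdeal k A) : (augIdeal k A).FG)
  have hmem : ∀ g : s, (g : A) ∈ augIdeal k A := fun g => hs ▸ Ideal.subset_span g.2
  refine ⟨⟨Finset.univ.image fun g : s => (augIdeal k A).toCotangent ⟨g, hmem g⟩, ?_⟩⟩
  rw [eq_top_iff]
  intro c _
  obtain ⟨⟨a, ha⟩, rfl⟩ := Ideal.toCotangent_surjective _ c
  have ha' : a ∈ Ideal.span (s : Set A) := by rw [show Ideal.span (s : Set A) = augIdeal k A from hs]; exact ha
  obtain ⟨c, hc⟩ := Submodule.mem_span_finset'.mp ha'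
  have he : (⟨a, ha⟩ : augIdeal k A) = ∑ g : s, c g • (⟨g, hmem g⟩ : augIdeal k A) := by
    refine Subtype.ext ?_
    simp only [Submodule.coe_sum, SetLike.val_smul]
    exact hc.symm
  rw [he, map_sum]
  refine Submodule.sum_mem _ fun g _ => ?_
  rw [map_smul]
  have h0 : c g • (augIdeal k A).toCotangent ⟨g, hmem g⟩ =
      Coalgebra.counit (R := k) (c g) • (augIdeal k A).toCotangent ⟨g, hmem g⟩ := by
    rw [← algebraMap_smul A (Coalgebra.counit (R := k) (c g)), ← sub_eq_zero, ← sub_smul, ← map_smul,
      Ideal.toCotangent_eq_zero, SetLike.val_smul, smul_eq_mul, pow_two]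
    exact Ideal.mul_mem_mul (sub_algebraMap_counit_mem _) (hmem g)
  rw [h0]
  exact Submodule.smul_mem _ _ (Submodule.subset_span (by simp))

theorem exists_cotLift {σ : Type w} [Finite σ] (b : Module.Basis σ k (augIdeal k A).Cotangent) :
    Nonempty (CotLift k A σ) := by
  classical
  haveI : Fintype σ := Fintype.ofFinite σ
  obtain ⟨hπI, hπ1⟩ := augPr_toCotangent_spec (R := k) (A := A)
  have hd := fun i => isCounitDer_comp _ hπI hπ1 ((Algebra.linearMap k A) ∘ₗ b.coord i)
  choose x hx using fun i => Ideal.toCotangent_surjective _ (b i)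
  refine ⟨⟨fun i => (x i : A), fun i => tauDer (hd i), fun i => (x i).2, fun i j => ?_, fun a ha => ?_⟩⟩
  · rw [RingHom.mem_ker, map_sub, Bialgebra.counitAlgHom_apply,
      show tauDer (hd i) (x j : A) = tau _ (x j : A) from rfl, tau_apply _ (Coalgebra.Repr.arbitrary k (x j : A)), map_sum]
    have e : ∀ y : A, Coalgebra.counit (R := k) ((Algebra.linearMap k A) (b.coord i
        (((augIdeal k A).toCotangent.restrictScalars k ∘ₗ augPr k A) y))) =
        b.coord i (((augIdeal k A).toCotangent.restrictScalars k ∘ₗ augPr k A) y) := fun y => by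
      simp [Bialgebra.counit_algebraMap]
    simp only [smul_eq_mul, Bialgebra.counit_mul, LinearMap.coe_comp, Function.comp_apply, e]
    simp only [← smul_eq_mul, ← map_smul, ← map_sum, Coalgebra.sum_counit_smul]
    have hxj := hπI (x j)
    simp only [LinearMap.coe_comp, Function.comp_apply] at hxj
    rw [hxj, hx, Module.Basis.coord_apply, Module.Basis.repr_self, Finsupp.single_apply]
    by_cases hij : j = i
    · subst hij; simp [Bialgebra.counit_algebraMap]
    · simp [hij, Ne.symm hij, Bialgebra.counit_algebraMap]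
  · refine ⟨b.repr ((augIdeal k A).toCotangent ⟨a, ha⟩), ?_⟩
    let c := b.repr ((augIdeal k A).toCotangent ⟨a, ha⟩)
    have h : (augIdeal k A).toCotangent ⟨a, ha⟩ =
        (augIdeal k A).toCotangent (∑ j, c j • x j) := by
      rw [map_sum]
      conv_lhs => rw [← b.sum_repr ((augIdeal k A).toCotangent ⟨a, ha⟩)]
      exact Finset.sum_congr rfl fun j _ => by
        rw [LinearMap.map_smul_of_tower, hx]
    rw [Ideal.toCotangent_eq] at h
    rw [Finsupp.sum_fintype _ _ (fun j => by simp)]
    simpa [Submodule.coe_sum, Submodule.coe_smul_of_tower] using h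

namespace CotLift

variable {σ : Type w} (L : CotLift k A σ)

theorem aeval_mem_pow {n : ℕ} {P : MvPolynomial σ k} (hP : P.IsHomogeneous n) :
    aeval L.x P ∈ augIdeal k A ^ n := by
  classical
  rw [P.as_sum, map_sum]
  refine Submodule.sum_mem _ fun β hβ => ?_
  rw [aeval_monomial]
  refine Ideal.mul_mem_left _ _ ?_
  have hdeg : β.sum (fun _ e => e) = n := by
    have := hP (mem_support_iff.mp hβ)
    rw [Finsupp.weight_apply] at this
    simpa using this
  rw [← hdeg, Finsupp.prod, Finsupp.sum, ← Finset.prod_pow_eq_pow_sum]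
  exact Ideal.prod_mem_prod fun i _ => Ideal.pow_mem_pow (L.mem i) _

theorem pow_le_aeval (n : ℕ) : ∀ a ∈ augIdeal k A ^ n,
    ∃ P : MvPolynomial σ k, P.IsHomogeneous n ∧ a - aeval L.x P ∈ augIdeal k A ^ (n + 1) := by
  induction n with
  | zero =>
    intro a _
    refine ⟨C (Coalgebra.counit (R := k) a), isHomogeneous_C _ _, ?_⟩
    rw [pow_one, aeval_C]
    exact sub_algebraMap_counit_mem a
  | succ n ih =>
    intro a ha
    rw [pow_succ] at ha
    induction ha using Submodule.mul_induction_on' with
    | mem_mul_mem r hr s hs =>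
      obtain ⟨P, hP, hPr⟩ := ih r hr
      obtain ⟨c, hc⟩ := L.span s hs
      let Q : MvPolynomial σ k := c.sum fun j e => C e * X j
      have hQ : aeval L.x Q = c.sum fun j e => e • L.x j := by
        simp [Q, Finsupp.sum, Algebra.smul_def]
      have hQh : Q.IsHomogeneous 1 := MvPolynomial.IsHomogeneous.sum _ _ _ fun j _ => (isHomogeneous_X k j).C_mul _
      refine ⟨P * Q, hP.mul hQh, ?_⟩
      rw [map_mul, show r * s - aeval L.x P * aeval L.x Q =
        (r - aeval L.x P) * s + aeval L.x P * (s - aeval L.x Q) by ring]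
      refine add_mem (by rw [pow_succ]; exact Ideal.mul_mem_mul hPr hs) ?_
      rw [show n + 1 + 1 = n + 2 from rfl, pow_add]
      exact Ideal.mul_mem_mul (L.aeval_mem_pow hP) (hQ ▸ hc)
    | add a _ b _ ha hb =>
      obtain ⟨P, hP, hPa⟩ := ha
      obtain ⟨Q, hQ, hQb⟩ := hb
      refine ⟨P + Q, hP.add hQ, ?_⟩
      rw [map_add, add_sub_add_comm]
      exact add_mem hPa hQb

theorem exists_sub_aeval_mem (n : ℕ) (a : A) : ∃ P : MvPolynomial σ k, a - aeval L.x P ∈ augIdeal k A ^ n := by
  induction n with
  | zero => exact ⟨0, by simp⟩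
  | succ n ih =>
    obtain ⟨P, hP⟩ := ih
    obtain ⟨Q, -, hQ⟩ := L.pow_le_aeval n _ hP
    exact ⟨P + Q, by rw [map_add, ← sub_sub]; exact hQ⟩

theorem aeval_surjective {n : ℕ} (hn : augIdeal k A ^ n = ⊥) : Function.Surjective (aeval L.x (R := k)) := by
  intro a
  obtain ⟨P, hP⟩ := L.exists_sub_aeval_mem n a
  rw [hn, Ideal.mem_bot, sub_eq_zero] at hP
  exact ⟨P, hP.symm⟩

variable [Fintype σ]

theorem eq_zero_of_aeval_mem (J : Ideal A) (hJI : J ≤ augIdeal k A) (hJD : ∀ i, ∀ z ∈ J, L.D i z ∈ J) :
    ∀ (m : ℕ) (P : MvPolynomial σ k), P.IsHomogeneous m →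
      (∀ β ∈ P.support, ∀ i, ((β i).factorial : k) ≠ 0) →
      aeval L.x P ∈ J ⊔ augIdeal k A ^ (m + 1) → P = 0 := by
  classical
  intro m
  induction m with
  | zero =>
    intro P hP _ hmem
    rw [pow_one, sup_eq_right.mpr hJI] at hmem
    have hC : P = C (coeff 0 P) := by
      refine MvPolynomial.ext _ _ fun β => ?_
      rw [coeff_C]
      split_ifs with h
      · rw [← h]
      · exact hP.coeff_eq_zero (fun hd => h (Finsupp.degree_eq_zero_iff β |>.mp hd).symm)
    rw [hC, aeval_C, RingHom.mem_ker, AlgHom.commutes] at hmem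
    rw [hC, show coeff 0 P = 0 from hmem, map_zero]
  | succ m ih =>
    intro P hP hfac hmem
    have hzero : ∀ i, pderiv i P = 0 := by
      intro i
      refine ih _ (hP.pderiv) (fun β hβ l => ?_) ?_
      · have h' : coeff (β + Finsupp.single i 1) P ≠ 0 := fun h0 => by
          rw [mem_support_iff, coeff_pderiv, h0, zero_mul] at hβ
          exact hβ rfl
        have h2 := hfac _ (mem_support_iff.mpr h') l
        intro h0
        obtain ⟨q, hq⟩ := Nat.factorial_dvd_factorial (show β l ≤ (β + Finsupp.single i 1 : σ →₀ ℕ) l by simp)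
        exact h2 (by rw [hq, Nat.cast_mul, h0, zero_mul])
      · obtain ⟨z, hz, w, hw, hzw⟩ := Submodule.mem_sup.mp hmem
        have hDP := derivation_aeval (L.D i) L.x P
        have h1 : L.D i (aeval L.x P) ∈ J ⊔ augIdeal k A ^ (m + 1) := by
          rw [← hzw, map_add]
          exact Submodule.add_mem_sup (hJD i z hz) (der_mem_pow' _ _ hw)
        have h2 : ∀ j, aeval L.x (pderiv j P) * (L.D i (L.x j) - if i = j then 1 else 0) ∈ augIdeal k A ^ (m + 1) := by
          intro j
          rw [pow_succ]
          exact Ideal.mul_mem_mul (L.aeval_mem_pow hP.pderiv) (L.dual i j)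
        have h3 : aeval L.x (pderiv i P) =
            L.D i (aeval L.x P) - ∑ j, aeval L.x (pderiv j P) * (L.D i (L.x j) - if i = j then 1 else 0) := by
          rw [hDP]
          simp [mul_sub, Finset.sum_sub_distrib, mul_ite, Finset.sum_ite_eq]
        rw [h3]
        exact sub_mem h1 (Ideal.mem_sup_right (Submodule.sum_mem _ fun j _ => h2 j))
    refine MvPolynomial.ext _ _ fun β => ?_
    rw [coeff_zero]
    by_contra hc
    have hdeg := hP hc
    obtain ⟨i, hi⟩ : ∃ i, β i ≠ 0 := by
      by_contra h
      push Not at h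
      have : β = 0 := Finsupp.ext h
      rw [this, map_zero] at hdeg
      exact Nat.succ_ne_zero m hdeg.symm
    let γ := β - Finsupp.single i 1
    have hγ : γ + Finsupp.single i 1 = β := by
      ext l; by_cases hl : l = i
      · subst hl; simp [γ]; omega
      · simp [γ, Finsupp.single_eq_of_ne hl]
    have := congrArg (coeff γ) (hzero i)
    rw [coeff_pderiv, hγ, coeff_zero] at this
    rcases mul_eq_zero.mp this with h | h
    · exact hc h
    · have hf := hfac β (mem_support_iff.mpr hc) i
      refine hf ?_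
      have hb : β i = γ i + 1 := by rw [← hγ]; simp
      rw [hb, Nat.factorial_succ, Nat.cast_mul, Nat.cast_add, Nat.cast_one, h, zero_mul]

theorem eq_zero_of_aeval_mem' (J : Ideal A) (hJI : J ≤ augIdeal k A) (hJD : ∀ i, ∀ z ∈ J, L.D i z ∈ J)
    (P : MvPolynomial σ k) (hfac : ∀ β ∈ P.support, ∀ i, ((β i).factorial : k) ≠ 0)
    (hmem : aeval L.x P ∈ J) : P = 0 := by
  classical
  have h : ∀ m, homogeneousComponent m P = 0 := by
    intro m
    induction m using Nat.strong_induction_on with
    | _ m ih =>
      refine L.eq_zero_of_aeval_mem J hJI hJD m _ (homogeneousComponent_isHomogeneous m P) (fun β hβ i => ?_) ?_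
      · refine hfac β ?_ i
        rw [mem_support_iff, coeff_homogeneousComponent] at hβ
        rw [mem_support_iff]
        intro h0
        rw [h0, ite_self] at hβ
        exact hβ rfl
      · have hs : aeval L.x P = ∑ l ∈ Finset.range (P.totalDegree + 1), aeval L.x (homogeneousComponent l P) := by
          rw [← map_sum, sum_homogeneousComponent]
        by_cases hm : m ∈ Finset.range (P.totalDegree + 1)
        · rw [← Finset.add_sum_erase _ _ hm] at hs
          rw [show aeval L.x (homogeneousComponent m P) = aeval L.x P -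
            ∑ l ∈ (Finset.range (P.totalDegree + 1)).erase m, aeval L.x (homogeneousComponent l P) by
              rw [hs]; ring]
          refine sub_mem (Ideal.mem_sup_left hmem) (Submodule.sum_mem _ fun l hl => ?_)
          rcases lt_or_gt_of_ne (Finset.ne_of_mem_erase hl) with hlt | hgt
          · rw [ih l hlt, map_zero]; exact zero_mem _
          · exact Ideal.mem_sup_right (Ideal.pow_le_pow_right hgt
              (L.aeval_mem_pow (homogeneousComponent_isHomogeneous l P)))
        · rw [homogeneousComponent_eq_zero m P (by simpa using hm), map_zero]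
          exact zero_mem _
  rw [← sum_homogeneousComponent P]
  exact Finset.sum_eq_zero fun m _ => h m

variable (p : ℕ) [hp : Fact p.Prime] [CharP k p]

/-- the ideal of `p`-th powers of the variables -/
abbrev truncIdeal (k : Type u) [Field k] (σ : Type w) (p : ℕ) : Ideal (MvPolynomial σ k) :=
  Ideal.span (Set.range fun i : σ => (X i : MvPolynomial σ k) ^ p)

omit [Fintype σ] in
theorem mem_truncIdeal_iff {P : MvPolynomial σ k} :
    P ∈ truncIdeal k σ p ↔ ∀ β ∈ P.support, ∃ i, p ≤ β i := by
  classical
  have : (Set.range fun i : σ => (X i : MvPolynomial σ k) ^ p) =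
      (fun s => monomial s (1 : k)) '' (Set.range fun i : σ => Finsupp.single i p) := by
    rw [← Set.range_comp]
    exact congrArg Set.range (funext fun i => X_pow_eq_monomial)
  rw [truncIdeal, this, mem_ideal_span_monomial_image]
  refine forall₂_congr fun β _ => ⟨?_, ?_⟩
  · rintro ⟨_, ⟨i, rfl⟩, h⟩; exact ⟨i, by simpa using h i⟩
  · rintro ⟨i, h⟩; exact ⟨_, ⟨i, rfl⟩, Finsupp.single_le_iff.mpr h⟩

omit [Fintype σ] in
theorem exists_restrictDegree (P : MvPolynomial σ k) :
    ∃ Q ∈ restrictDegree σ k (p - 1), P - Q ∈ truncIdeal k σ p := by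
  classical
  refine ⟨∑ β ∈ P.support.filter (fun β => ∀ i, β i ≤ p - 1), monomial β (coeff β P), ?_, ?_⟩
  · refine Submodule.sum_mem _ fun β hβ => ?_
    rw [mem_restrictDegree]
    intro s hs i
    rw [Finset.mem_singleton.mp (support_monomial_subset hs)]
    exact (Finset.mem_filter.mp hβ).2 i
  · rw [mem_truncIdeal_iff]
    intro β hβ
    rw [mem_support_iff, coeff_sub, coeff_sum] at hβ
    simp only [coeff_monomial, Finset.sum_ite_eq'] at hβ
    by_contra h
    push Not at h
    refine hβ ?_
    by_cases hb : β ∈ P.support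
    · rw [if_pos (Finset.mem_filter.mpr ⟨hb, fun i => by have := h i; omega⟩), sub_self]
    · rw [if_neg (fun hh => hb (Finset.mem_filter.mp hh).1), notMem_support_iff.mp hb, sub_zero]

theorem der_pow_char (D : Derivation k A A) (a : A) : D (a ^ p) = 0 := by
  rw [Derivation.leibniz_pow, ← Nat.cast_smul_eq_nsmul k, CharP.cast_eq_zero, zero_smul]

omit [Fintype σ] in
/-- the ideal of `p`-th powers is stable under the derivations -/
theorem der_mem_span_pow (i : σ) : ∀ z ∈ Ideal.span ((fun a : A => a ^ p) '' (augIdeal k A : Set A)),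
    L.D i z ∈ Ideal.span ((fun a : A => a ^ p) '' (augIdeal k A : Set A)) := by
  intro z hz
  induction hz using Submodule.span_induction with
  | mem y hy =>
    obtain ⟨a, -, rfl⟩ := hy
    rw [der_pow_char p]
    exact zero_mem _
  | zero => rw [map_zero]; exact zero_mem _
  | add a b _ _ ha hb => rw [map_add]; exact add_mem ha hb
  | smul c a ha' ha =>
    rw [smul_eq_mul, Derivation.leibniz, smul_eq_mul, smul_eq_mul]
    exact add_mem (Ideal.mul_mem_left _ _ ha) (Ideal.mul_mem_right _ _ ha')

variable {n : ℕ} (hn : augIdeal k A ^ n = ⊥)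
include L hn

/-- restricted polynomials present the first Frobenius kernel -/
theorem bijective_restrict : Function.Bijective
    ((Ideal.Quotient.mkₐ k (Ideal.span ((fun a : A => a ^ p) '' (augIdeal k A : Set A)))).toLinearMap ∘ₗ
      (aeval L.x).toLinearMap ∘ₗ (restrictDegree σ k (p - 1)).subtype) := by
  classical
  let J := Ideal.span ((fun a : A => a ^ p) '' (augIdeal k A : Set A))
  have hJI : J ≤ augIdeal k A := by
    refine Ideal.span_le.mpr ?_
    rintro _ ⟨a, ha, rfl⟩
    exact Ideal.pow_mem_of_mem _ ha p hp.out.pos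
  constructor
  · refine (injective_iff_map_eq_zero _).mpr fun Q hQ => Subtype.ext ?_
    refine L.eq_zero_of_aeval_mem' J hJI (L.der_mem_span_pow p) _ (fun β hβ i => ?_) (Ideal.Quotient.eq_zero_iff_mem.mp hQ)
    have h1 := (mem_restrictDegree σ (Q : MvPolynomial σ k) (p - 1)).mp Q.2 β hβ i
    rw [Ne, CharP.cast_eq_zero_iff k p, hp.out.dvd_factorial]
    have := hp.out.pos
    omega
  · intro z
    obtain ⟨a, rfl⟩ := Ideal.Quotient.mk_surjective z
    obtain ⟨P, rfl⟩ := L.aeval_surjective hn a
    obtain ⟨Q, hQ, hPQ⟩ := exists_restrictDegree (σ := σ) p P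
    refine ⟨⟨Q, hQ⟩, (Ideal.Quotient.eq.mpr ?_).symm⟩
    show (aeval L.x) P - (aeval L.x) Q ∈ J
    rw [← map_sub]
    have hle : truncIdeal k σ p ≤ J.comap (aeval L.x).toRingHom := by
      refine Ideal.span_le.mpr ?_
      rintro _ ⟨i, rfl⟩
      refine Ideal.subset_span ⟨L.x i, L.mem i, ?_⟩
      show L.x i ^ p = aeval L.x ((X i : MvPolynomial σ k) ^ p)
      rw [map_pow, aeval_X]
    exact hle hPQ

theorem finrank_quotient : Module.finrank k (A ⧸ Ideal.span ((fun a : A => a ^ p) '' (augIdeal k A : Set A))) =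
    p ^ Fintype.card σ := by
  classical
  rw [← (LinearEquiv.ofBijective _ (L.bijective_restrict p hn)).finrank_eq]
  let S : Set (σ →₀ ℕ) := {β | ∀ i, β i ≤ p - 1}
  have hpos := hp.out.pos
  let e : (σ → Fin p) ≃ S :=
    { toFun := fun f => ⟨Finsupp.equivFunOnFinite.symm fun i => (f i : ℕ), fun i => by
        simp only [Finsupp.equivFunOnFinite_symm_apply_apply]; have := (f i).2; omega⟩
      invFun := fun β i => ⟨(β.1 : σ →₀ ℕ) i, by have := β.2 i; omega⟩
      left_inv := fun f => by funext i; exact Fin.ext (by simp)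
      right_inv := fun β => Subtype.ext (Finsupp.ext fun i => by simp) }
  rw [show Module.finrank k (restrictDegree σ k (p - 1)) = Module.finrank k (restrictSupport k S) from rfl,
    Module.finrank_eq_card_basis ((basisRestrictSupport k S).reindex e.symm), Fintype.card_fun, Fintype.card_fin]

theorem nonempty_algEquiv : Nonempty
    ((A ⧸ Ideal.span ((fun a : A => a ^ p) '' (augIdeal k A : Set A))) ≃ₐ[k] (MvPolynomial σ k ⧸ truncIdeal k σ p)) := by
  classical
  let J := Ideal.span ((fun a : A => a ^ p) '' (augIdeal k A : Set A))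
  let f : MvPolynomial σ k →ₐ[k] A ⧸ J := (Ideal.Quotient.mkₐ k J).comp (aeval L.x)
  have hb := L.bijective_restrict p hn
  have hsurj : Function.Surjective f := fun z => by
    obtain ⟨Q, hQ⟩ := hb.2 z
    exact ⟨Q, hQ⟩
  have hker : RingHom.ker f = truncIdeal k σ p := by
    refine le_antisymm (fun P hP => ?_) (Ideal.span_le.mpr ?_)
    · obtain ⟨Q, hQ, hPQ⟩ := exists_restrictDegree (σ := σ) p P
      have hz : f (P - Q) = 0 := by
        have hle : truncIdeal k σ p ≤ RingHom.ker f := by
          refine Ideal.span_le.mpr ?_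
          rintro _ ⟨i, rfl⟩
          refine Ideal.Quotient.eq_zero_iff_mem.mpr (Ideal.subset_span ⟨L.x i, L.mem i, ?_⟩)
          show L.x i ^ p = aeval L.x ((X i : MvPolynomial σ k) ^ p)
          rw [map_pow, aeval_X]
        exact hle hPQ
      rw [map_sub, show f P = 0 from hP, zero_sub, neg_eq_zero] at hz
      have : (⟨Q, hQ⟩ : restrictDegree σ k (p - 1)) = 0 := hb.1 (hz.trans (map_zero _).symm)
      rw [show Q = 0 from congrArg Subtype.val this, sub_zero] at hPQ
      exact hPQ
    · rintro _ ⟨i, rfl⟩
      refine Ideal.Quotient.eq_zero_iff_mem.mpr (Ideal.subset_span ⟨L.x i, L.mem i, ?_⟩)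
      show L.x i ^ p = aeval L.x ((X i : MvPolynomial σ k) ^ p)
      rw [map_pow, aeval_X]
  exact ⟨((Ideal.quotientEquivAlgOfEq k hker.symm).trans (Ideal.quotientKerAlgEquivOfSurjective hsurj)).symm⟩

end CotLift

end

end Groth.Agent.H20OT
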