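import Groth.Agent.H20OT.Ring
import Groth.Prelude.Def_W4c5ffgsreadingcourseOT
import Mathlib.RingTheory.IntegralDomain
import Mathlib.Algebra.Ring.GeomSum

/-!
The eigen decomposition of the augmentation ideal of a group of prime order (Oort–Tate).
-/

set_option autoImplicit false

universe u

open TensorProduct WithConv Coalgebra OortTate

namespace Groth.Agent.H20OT

noncomputable section

section General

variable {R : Type u} [CommRing R] {A : Type u} [CommRing A] [HopfAlgebra R A]

theorem algHom_powConv {S : Type u} [CommRing S] [Algebra R S] (g : A →ₐ[R] S) (n : ℕ) (b : A) :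
    g (SGA3b.powConv R A n b) = (toConv g ^ n).ofConv b := by
  induction n generalizing b with
  | zero => exact g.commutes _
  | succ n ih =>
    have h := AlgHom.congr_fun
      (AlgHom.comp_convMul_distrib g (toConv (AlgHom.id R A) ^ n) (toConv (AlgHom.id R A))) b
    rw [pow_succ]
    refine (Eq.trans ?_ h).trans ?_
    · simp [SGA3b.powConv, pow_succ]
    · congr 2
      rw [ofConv_toConv, AlgHom.comp_id]
      congr 2
      exact AlgHom.ext fun c => ih c

theorem powConv_powConv (m n : ℕ) (b : A) :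
    SGA3b.powConv R A m (SGA3b.powConv R A n b) = SGA3b.powConv R A (m * n) b := by
  rw [algHom_powConv, SGA3b.powConv, toConv_ofConv, ← pow_mul]
  rfl

theorem powConv_one_apply (b : A) : SGA3b.powConv R A 1 b = b := by
  rw [SGA3b.powConv, pow_one]; rfl

theorem counit_powConv (n : ℕ) (b : A) : counit (R := R) (SGA3b.powConv R A n b) = counit (R := R) b := by
  rw [← Bialgebra.counitAlgHom_apply, algHom_powConv,
    show toConv (Bialgebra.counitAlgHom R A) = (1 : WithConv (A →ₐ[R] R)) from
      WithConv.ofConv_injective (AlgHom.ext fun d => by simp), one_pow, AlgHom.convOne_apply]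
  simp

variable (R A) in
/-- Removing the constant part. -/
def augProj : A →ₗ[R] A := LinearMap.id - (Algebra.linearMap R A) ∘ₗ Coalgebra.counit

theorem augProj_apply (b : A) : augProj R A b = b - algebraMap R A (counit (R := R) b) := rfl

theorem counit_augProj (b : A) : counit (R := R) (augProj R A b) = 0 := by
  simp [augProj_apply]

theorem augProj_of_mem {b : A} (hb : counit (R := R) b = 0) : augProj R A b = b := by
  simp [augProj_apply, hb]

variable {p : ℕ} [Fact p.Prime] {χ : (ZMod p)ˣ →* Rˣ}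

theorem mem_eigenAug {i : ℕ} {b : A} :
    b ∈ eigenAug R A p χ i ↔ counit (R := R) b = 0 ∧
      ∀ m : (ZMod p)ˣ, SGA3b.powConv R A (m : ZMod p).val b = (χ m : R) ^ i • b := by
  simp [eigenAug, Module.End.mem_eigenspace_iff]

theorem exists_generator_units : ∃ g : (ZMod p)ˣ, orderOf g = p - 1 := by
  obtain ⟨g, hg⟩ := IsCyclic.exists_generator (α := (ZMod p)ˣ)
  refine ⟨g, ?_⟩
  rw [orderOf_eq_card_of_forall_mem_zpowers hg, Nat.card_eq_fintype_card, ZMod.card_units]

theorem pow_card_chi (m : (ZMod p)ˣ) : χ m ^ (p - 1) = 1 := by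
  rw [← map_pow, ZMod.units_pow_card_sub_one_eq_one, map_one]

variable (hχ : ∀ m : (ZMod p)ˣ, m ≠ 1 → IsUnit ((χ m : R) - 1))
include hχ

theorem sum_chi_zpow_eq_zero {e : ℤ} (he : ¬((p - 1 : ℕ) : ℤ) ∣ e) :
    ∑ m : (ZMod p)ˣ, (χ (m ^ e) : R) = 0 := by
  obtain ⟨g, hg⟩ := exists_generator_units (p := p)
  have hge : g ^ e ≠ 1 := fun h => he (hg ▸ orderOf_dvd_iff_zpow_eq_one.mpr h)
  have h : (χ (g ^ e) : R) * ∑ m : (ZMod p)ˣ, (χ (m ^ e) : R) = ∑ m : (ZMod p)ˣ, (χ (m ^ e) : R) := by
    rw [Finset.mul_sum]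
    exact Fintype.sum_equiv (Equiv.mulLeft g) _ _ fun m => by
      rw [Equiv.coe_mulLeft, mul_zpow, map_mul, Units.val_mul]
  have h2 : ((χ (g ^ e) : R) - 1) * ∑ m : (ZMod p)ˣ, (χ (m ^ e) : R) = 0 := by
    rw [sub_mul, one_mul, h, sub_self]
  exact (hχ _ hge).mul_right_eq_zero.mp h2

theorem sum_chi_pow_eq_zero {m : (ZMod p)ˣ} (hm : m ≠ 1) :
    ∑ i ∈ Finset.range (p - 1), (χ m : R) ^ i = 0 := by
  refine (hχ m hm).mul_right_eq_zero.mp ?_
  rw [mul_comm, geom_sum_mul, ← Units.val_pow_eq_pow_val, pow_card_chi, Units.val_one, sub_self]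

end General

section Kill

variable {R : Type u} [CommRing R] {A : Type u} [CommRing A] [HopfAlgebra R A] {p : ℕ} [Fact p.Prime]
  {χ : (ZMod p)ˣ →* Rˣ} {u : R} (hp : toConv (AlgHom.id R A) ^ p = 1)
include hp

theorem powConv_congr {a b : ℕ} (hab : (a : ZMod p) = b) : SGA3b.powConv R A a = SGA3b.powConv R A b := by
  rw [ZMod.natCast_eq_natCast_iff'] at hab
  unfold SGA3b.powConv
  rw [← Nat.mod_add_div a p, ← Nat.mod_add_div b p, pow_add, pow_add, pow_mul, pow_mul, hp, one_pow, one_pow,
    mul_one, mul_one, hab]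

theorem powConv_units_mul (m n : (ZMod p)ˣ) (b : A) :
    SGA3b.powConv R A (m : ZMod p).val (SGA3b.powConv R A (n : ZMod p).val b) =
      SGA3b.powConv R A ((m * n : (ZMod p)ˣ) : ZMod p).val b := by
  rw [powConv_powConv, powConv_congr hp (b := ((m * n : (ZMod p)ˣ) : ZMod p).val) (by simp)]

theorem powConv_proj (i : ℕ) (m : (ZMod p)ˣ) (b : A) :
    SGA3b.powConv R A (m : ZMod p).val (proj R A p u χ i b) = (χ m : R) ^ i • proj R A p u χ i b := by
  simp only [proj, LinearMap.smul_apply, LinearMap.sum_apply, AlgHom.toLinearMap_apply, map_smul, map_sum,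
    powConv_units_mul hp]
  rw [smul_comm ((χ m : R) ^ i) u]
  congr 1
  rw [Finset.smul_sum]
  refine Fintype.sum_equiv (Equiv.mulLeft m) _ _ fun n => ?_
  rw [Equiv.coe_mulLeft, smul_smul, ← mul_pow, ← Units.val_mul (χ m), ← map_mul, mul_inv_rev,
    mul_left_comm, mul_inv_cancel, mul_one]

theorem proj_mem (i : ℕ) {b : A} (hb : counit (R := R) b = 0) : proj R A p u χ i b ∈ eigenAug R A p χ i := by
  refine mem_eigenAug.mpr ⟨?_, fun m => powConv_proj hp i m b⟩
  simp [proj, counit_powConv, hb]

variable (hu : u * ((p - 1 : ℕ) : R) = 1) (hχ : ∀ m : (ZMod p)ˣ, m ≠ 1 → IsUnit ((χ m : R) - 1))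
include hu hχ

omit hp in
theorem proj_of_mem {i j : ℕ} {b : A} (hb : b ∈ eigenAug R A p χ j) :
    proj R A p u χ i b = if i % (p - 1) = j % (p - 1) then b else 0 := by
  have h : proj R A p u χ i b = (u * ∑ m : (ZMod p)ˣ, (χ (m ^ ((j : ℤ) - i)) : R)) • b := by
    simp only [proj, LinearMap.smul_apply, LinearMap.sum_apply, AlgHom.toLinearMap_apply,
      (mem_eigenAug.mp hb).2, smul_smul, mul_smul u, Finset.sum_smul]
    congr 1
    refine Finset.sum_congr rfl fun m _ => ?_
    congr 1
    rw [← Units.val_pow_eq_pow_val, ← Units.val_pow_eq_pow_val, ← Units.val_mul, ← map_pow, ← map_pow, ← map_mul,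
      zpow_sub, zpow_natCast, zpow_natCast, mul_comm, inv_pow]
  rw [h]
  split_ifs with hij
  · have hdvd : ((p - 1 : ℕ) : ℤ) ∣ (j : ℤ) - i := Nat.modEq_iff_dvd.mp hij
    have h1 : ∀ m : (ZMod p)ˣ, (χ (m ^ ((j : ℤ) - i)) : R) = 1 := fun m => by
      obtain ⟨c, hc⟩ := hdvd
      rw [hc, zpow_mul, zpow_natCast, ZMod.units_pow_card_sub_one_eq_one, one_zpow, map_one, Units.val_one]
    simp only [h1, Finset.sum_const, Finset.card_univ, ZMod.card_units p, nsmul_eq_mul, mul_one, hu, one_smul]
  · rw [sum_chi_zpow_eq_zero hχ (fun h => hij (Nat.modEq_iff_dvd.mpr h)), mul_zero, zero_smul]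

omit hp in
theorem sum_proj (b : A) : ∑ i ∈ Finset.range (p - 1), proj R A p u χ i b = b := by
  simp only [proj, LinearMap.smul_apply, LinearMap.sum_apply, AlgHom.toLinearMap_apply]
  rw [← Finset.smul_sum, Finset.sum_comm]
  simp only [← Finset.sum_smul]
  rw [Fintype.sum_eq_single 1 fun m hm => by
    rw [sum_chi_pow_eq_zero hχ (inv_ne_one.mpr hm), zero_smul]]
  simp only [inv_one, map_one, Units.val_one, one_pow, Finset.sum_const, Finset.card_range, nsmul_eq_mul,
    mul_one, smul_smul, hu, one_smul, ZMod.val_one, powConv_one_apply]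

theorem eigenAug_eq_map (i : ℕ) :
    eigenAug R A p χ i = Submodule.map (proj R A p u χ i)
      (LinearMap.ker (Bialgebra.counitAlgHom R A).toLinearMap) := by
  refine le_antisymm (fun b hb => ⟨b, by simpa using (mem_eigenAug.mp hb).1,
    by rw [proj_of_mem hu hχ hb, if_pos rfl]⟩) ?_
  · rintro _ ⟨b, hb, rfl⟩
    exact proj_mem hp i (by simpa using hb)

theorem iSup_eigenAug :
    (⨆ i : Fin (p - 1), eigenAug R A p χ (i : ℕ)) = LinearMap.ker (Bialgebra.counitAlgHom R A).toLinearMap := by
  refine le_antisymm (iSup_le fun i b hb => by simpa using (mem_eigenAug.mp hb).1) fun b hb => ?_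
  rw [← sum_proj hu hχ (A := A) b, Finset.sum_range]
  exact sum_mem fun i _ => le_iSup (fun i : Fin (p - 1) => eigenAug R A p χ (i : ℕ)) i
    (proj_mem hp _ (by simpa using hb))

omit hp in
theorem iSupIndep_eigenAug : iSupIndep fun i : Fin (p - 1) => eigenAug R A p χ (i : ℕ) := by
  intro i
  rw [Submodule.disjoint_def]
  intro b hb hb'
  have h1 := proj_of_mem hu hχ (i := (i : ℕ)) hb
  rw [if_pos rfl] at h1
  rw [← h1]
  refine Submodule.iSup_induction (fun j : Fin (p - 1) => ⨆ _ : j ≠ i, eigenAug R A p χ (j : ℕ))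
    (motive := fun x => proj R A p u χ (i : ℕ) x = 0) hb' (fun j x hx => ?_) (map_zero _)
    (fun x y hx hy => by rw [map_add, hx, hy, add_zero])
  by_cases hj : j = i
  · simp [hj] at hx; simp [hx]
  · rw [iSup_pos hj] at hx
    rw [proj_of_mem hu hχ hx, if_neg]
    rw [Nat.mod_eq_of_lt i.2, Nat.mod_eq_of_lt j.2]
    exact fun h => hj (Fin.ext h.symm)

variable (R A) in
/-- The retraction onto an eigen submodule. -/
def retract (u : R) (i : ℕ) : A →ₗ[R] eigenAug R A p χ i :=
  (proj R A p u χ i ∘ₗ augProj R A).codRestrict _ fun b => proj_mem hp i (counit_augProj b)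

theorem retract_coe (i : ℕ) (b : eigenAug R A p χ i) : retract R A hp u i (b : A) = b :=
  Subtype.ext (by
    show proj R A p u χ i (augProj R A (b : A)) = b
    rw [augProj_of_mem (mem_eigenAug.mp b.2).1, proj_of_mem hu hχ b.2, if_pos rfl])

theorem baseChange_subtype_injective (K : Type u) [CommRing K] [Algebra R K] (i : ℕ) :
    Function.Injective ((eigenAug R A p χ i).subtype.baseChange K) := by
  have h : (retract R A hp u i).baseChange K ∘ₗ (eigenAug R A p χ i).subtype.baseChange K = LinearMap.id := by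
    rw [← LinearMap.baseChange_comp, show retract R A hp u i ∘ₗ (eigenAug R A p χ i).subtype = LinearMap.id from
      LinearMap.ext (retract_coe hp hu hχ i), LinearMap.baseChange_id]
  exact fun a b hab => ((LinearMap.congr_fun h a).symm.trans (congrArg ((retract R A hp u i).baseChange K) hab)).trans (LinearMap.congr_fun h b)

theorem eigenAug_finite [Module.Finite R A] (i : ℕ) : Module.Finite R (eigenAug R A p χ i) :=
  Module.Finite.of_surjective (retract R A hp u i) fun b => ⟨b, retract_coe hp hu hχ i b⟩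

theorem eigenAug_projective [Module.Projective R A] (i : ℕ) : Module.Projective R (eigenAug R A p χ i) :=
  Module.Projective.of_split (eigenAug R A p χ i).subtype (retract R A hp u i)
    (LinearMap.ext (retract_coe hp hu hχ i))

end Kill

/-- A submodule containing everything after every geometric base change is everything. -/
theorem eq_top_of_forall_field {R : Type u} [CommRing R] {M : Type u} [AddCommGroup M] [Module R M] [Module.Finite R M]
    (N : Submodule R M)
    (h : ∀ (K : Type u) [Field K] [IsAlgClosed K] [Algebra R K], Function.Surjective (N.subtype.baseChange K)) :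
    N = ⊤ := by
  by_contra hne
  have hann : (⊤ : Submodule R (M ⧸ N)).annihilator ≠ ⊤ := fun hA => hne (by
    rw [Submodule.annihilator_eq_top_iff] at hA
    rw [eq_top_iff]
    intro x _
    have : (Submodule.Quotient.mk x : M ⧸ N) ∈ (⊥ : Submodule R (M ⧸ N)) := hA ▸ Submodule.mem_top
    simpa [Submodule.Quotient.mk_eq_zero] using this)
  obtain ⟨m, hm, hle⟩ := Ideal.exists_le_maximal _ hann
  obtain ⟨q, hq⟩ : ∃ q : M ⧸ N, q ∉ m • (⊤ : Submodule R (M ⧸ N)) := by
    by_contra! hall
    obtain ⟨r, hr1, hr⟩ := Submodule.exists_sub_one_mem_and_smul_eq_zero_of_fg_of_le_smul m ⊤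
      Module.Finite.fg_top (fun x _ => hall x)
    have hrm : r ∈ m := hle (Submodule.mem_annihilator.mpr fun x _ => hr x trivial)
    exact hm.ne_top ((Ideal.eq_top_iff_one m).mpr (by simpa using sub_mem hrm hr1))
  letI : Field (R ⧸ m) := Ideal.Quotient.field m
  obtain ⟨ψ, hψ⟩ : ∃ ψ : ((M ⧸ N) ⧸ m • (⊤ : Submodule R (M ⧸ N))) →ₗ[R ⧸ m] (R ⧸ m),
      ψ (Submodule.Quotient.mk q) ≠ 0 := by
    by_contra! hall
    exact hq ((Submodule.Quotient.mk_eq_zero _).mp ((Module.forall_dual_apply_eq_zero_iff (R ⧸ m) _).mp hall))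
  let K := AlgebraicClosure (R ⧸ m)
  let ℓ : M →ₗ[R] K := ((Algebra.linearMap (R ⧸ m) K).restrictScalars R ∘ₗ ψ.restrictScalars R) ∘ₗ
    (m • (⊤ : Submodule R (M ⧸ N))).mkQ ∘ₗ N.mkQ
  obtain ⟨x, rfl⟩ := Submodule.Quotient.mk_surjective N q
  obtain ⟨t, ht⟩ := h K ((1 : K) ⊗ₜ[R] x)
  have hzero : ∀ t : K ⊗[R] N, LinearMap.liftBaseChange K ℓ (N.subtype.baseChange K t) = 0 := by
    intro t
    induction t using TensorProduct.induction_on with
    | zero => simp
    | tmul c y => simp [ℓ, (Submodule.Quotient.mk_eq_zero N).mpr y.2]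
    | add a b ha hb => simp [map_add, ha, hb]
  have h1 := hzero t
  rw [ht, LinearMap.liftBaseChange_tmul, one_smul] at h1
  have h2 : algebraMap (R ⧸ m) K (ψ (Submodule.Quotient.mk (Submodule.Quotient.mk x))) = 0 := h1
  exact hψ ((map_eq_zero_iff _ (algebraMap (R ⧸ m) K).injective).mp h2)

section Order

variable {R : Type u} [CommRing R] {A : Type u} [CommRing A] [HopfAlgebra R A] [Module.Finite R A]
  [Module.Projective R A] {p : ℕ} [Fact p.Prime] {u : R} {χ : (ZMod p)ˣ →* Rˣ}
  (hrk : ∀ q : PrimeSpectrum R, Module.rankAtStalk A q = p)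
  (hu : u * ((p - 1 : ℕ) : R) = 1) (hχ : ∀ m : (ZMod p)ˣ, m ≠ 1 → IsUnit ((χ m : R) - 1))
  (hχp : ∀ m : (ZMod p)ˣ, ((χ m : Rˣ) : R) - (((m : ZMod p).val : ℕ) : R) ∈ Ideal.span ({(p : R)} : Set R))

/-- the exponent in `[1, p-1]` of a residue -/
def rep1 (p i : ℕ) : ℕ := if i % (p - 1) = 0 then p - 1 else i % (p - 1)

omit [Fact p.Prime] in
theorem rep1_mod (i : ℕ) : rep1 p i % (p - 1) = i % (p - 1) := by
  unfold rep1
  split_ifs with h
  · rw [h, Nat.mod_self]
  · rw [Nat.mod_mod]

theorem rep1_bounds (i : ℕ) : 1 ≤ rep1 p i ∧ rep1 p i ≤ p - 1 := by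
  have := (Fact.out : p.Prime).two_le
  have h1 : i % (p - 1) < p - 1 := Nat.mod_lt _ (by omega)
  unfold rep1
  split_ifs <;> omega

omit [Fact p.Prime] in
theorem rep1_unique {i t : ℕ} (h1 : 1 ≤ t) (h2 : t ≤ p - 1) (h : t % (p - 1) = i % (p - 1)) :
    t = rep1 p i := by
  unfold rep1
  rcases eq_or_lt_of_le h2 with rfl | hlt
  · rw [Nat.mod_self] at h; rw [if_pos h.symm]
  · rw [Nat.mod_eq_of_lt hlt] at h; rw [if_neg (by omega), h]

theorem map_proj {K : Type u} [CommRing K] [Algebra R K] (i : ℕ) (z : K ⊗[R] A) :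
    proj K (K ⊗[R] A) p (algebraMap R K u) ((Units.map (algebraMap R K).toMonoidHom).comp χ) i z =
      (proj R A p u χ i).baseChange K z := by
  induction z using TensorProduct.induction_on with
  | zero => simp
  | add a b ha hb => rw [map_add, map_add, ha, hb]
  | tmul c b =>
    rw [show c ⊗ₜ[R] b = c • ((1 : K) ⊗ₜ[R] b) by rw [smul_tmul', smul_eq_mul, mul_one], map_smul, map_smul]
    congr 1
    simp only [proj, LinearMap.smul_apply, LinearMap.sum_apply, AlgHom.toLinearMap_apply,
      powConv_one_tmul, LinearMap.baseChange_tmul]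
    rw [TensorProduct.tmul_smul, tmul_sum, ← algebraMap_smul K u, Finset.smul_sum, Finset.smul_sum]
    refine Finset.sum_congr rfl fun m _ => ?_
    rw [TensorProduct.tmul_smul, ← algebraMap_smul K ((χ m⁻¹ : R) ^ i), map_pow]
    rfl

theorem map_augProj {K : Type u} [CommRing K] [Algebra R K] (z : K ⊗[R] A) :
    augProj K (K ⊗[R] A) z = (augProj R A).baseChange K z := by
  induction z using TensorProduct.induction_on with
  | zero => simp
  | add a b ha hb => rw [map_add, map_add, ha, hb]
  | tmul c b =>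
    rw [show c ⊗ₜ[R] b = c • ((1 : K) ⊗ₜ[R] b) by rw [smul_tmul', smul_eq_mul, mul_one], map_smul, map_smul]
    congr 1
    rw [augProj_apply, LinearMap.baseChange_tmul, augProj_apply, tmul_sub, counit_one_tmul,
      ← IsScalarTower.algebraMap_apply]
    congr 1
    exact ((Algebra.TensorProduct.includeRight : A →ₐ[R] K ⊗[R] A).commutes _).symm

include hrk hu hχ hχp

/-- The eigen generator over a geometric point, and what it spans. -/
theorem exists_point_generator (K : Type u) [Field K] [IsAlgClosed K] [Algebra R K] :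
    ∃ y : K ⊗[R] A,
      (∀ t, 1 ≤ t → y ^ t ∈ LinearMap.range ((eigenAug R A p χ t).subtype.baseChange K)) ∧
      (∀ t, 1 ≤ t → t ≤ p - 1 → y ^ t ≠ 0) ∧
      (∀ i, ∀ z ∈ LinearMap.range ((eigenAug R A p χ i).subtype.baseChange K),
        z ∈ Submodule.span K {y ^ rep1 p i}) ∧
      Submodule.span K (Set.range fun i : Fin p => y ^ (i : ℕ)) = ⊤ := by
  have hp := convPow_id_eq_one hrk
  have hfr := finrank_baseChange hrk K
  haveI : Module.Finite K (K ⊗[R] A) := inferInstance
  set χK := (Units.map (algebraMap R K).toMonoidHom).comp χ with hχK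
  set uK := algebraMap R K u with huKdef
  have huK : uK * ((p - 1 : ℕ) : K) = 1 := by
    rw [huKdef, ← map_natCast (algebraMap R K), ← map_mul, hu, map_one]
  have hχK1 : ∀ m : (ZMod p)ˣ, m ≠ 1 → IsUnit ((χK m : K) - 1) := fun m hm => by
    have := (hχ m hm).map (algebraMap R K)
    rwa [map_sub, map_one] at this
  obtain ⟨y, hy0, hym, hspan⟩ := exists_eigen_generator (k := K) (A := K ⊗[R] A) hfr uK huK χK hχK1
    (fun hc m => by
      obtain ⟨r, hr⟩ := Ideal.mem_span_singleton.mp (hχp m)
      have h := congrArg (algebraMap R K) hr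
      rw [map_sub, map_mul, map_natCast, map_natCast, CharP.cast_eq_zero K p, zero_mul, sub_eq_zero] at h
      exact h)
  have hymem : ∀ t : ℕ, 1 ≤ t → y ^ t ∈ eigenAug K (K ⊗[R] A) p χK t := fun t ht =>
    mem_eigenAug.mpr ⟨by rw [Bialgebra.counit_pow, hy0, zero_pow (by omega)],
      fun m => by rw [map_pow, hym, smul_pow]⟩
  have hKp := convPow_id_prime_eq_one hfr
  have hrange : ∀ i z, z ∈ eigenAug K (K ⊗[R] A) p χK i →
      z ∈ LinearMap.range ((eigenAug R A p χ i).subtype.baseChange K) := by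
    intro i z hz
    refine ⟨(retract R A hp u i).baseChange K z, ?_⟩
    rw [← LinearMap.comp_apply, ← LinearMap.baseChange_comp,
      show (eigenAug R A p χ i).subtype ∘ₗ retract R A hp u i = proj R A p u χ i ∘ₗ augProj R A from rfl,
      LinearMap.baseChange_comp, LinearMap.comp_apply, ← map_augProj, augProj_of_mem (mem_eigenAug.mp hz).1,
      ← map_proj, proj_of_mem huK hχK1 hz, if_pos rfl]
  have hli : LinearIndependent K fun i : Fin p => y ^ (i : ℕ) :=
    linearIndependent_of_top_le_span_of_card_eq_finrank hspan.ge (by rw [Fintype.card_fin, hfr])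
  refine ⟨y, fun t ht => hrange t _ (hymem t ht),
    fun t h1 h2 => hli.ne_zero ⟨t, by have := (Fact.out : p.Prime).pos; omega⟩, fun i z hz => ?_, hspan⟩
  have hzK : z ∈ eigenAug K (K ⊗[R] A) p χK i := by
    obtain ⟨w, rfl⟩ := hz
    induction w using TensorProduct.induction_on with
    | zero => simp
    | add a b ha hb => rw [map_add]; exact add_mem ha hb
    | tmul c b =>
      rw [LinearMap.baseChange_tmul, show c ⊗ₜ[R] ((eigenAug R A p χ i).subtype b) = c • ((1 : K) ⊗ₜ[R] (b : A)) by
        rw [smul_tmul', smul_eq_mul, mul_one]; rfl]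
      refine Submodule.smul_mem _ _ (mem_eigenAug.mpr ⟨?_, fun m => ?_⟩)
      · rw [counit_one_tmul, (mem_eigenAug.mp b.2).1, map_zero]
      · rw [powConv_one_tmul, (mem_eigenAug.mp b.2).2 m, TensorProduct.tmul_smul, ← algebraMap_smul K ((χ m : R) ^ i), map_pow]
        rfl
  obtain ⟨c, hc⟩ := (Submodule.mem_span_range_iff_exists_fun K).mp (hspan.ge (Submodule.mem_top : z ∈ ⊤))
  have hc0 : c ⟨0, (Fact.out : p.Prime).pos⟩ = 0 := by
    have h := congrArg (counit (R := K)) hc
    simp only [map_sum, map_smul, Bialgebra.counit_pow, hy0, smul_eq_mul, (mem_eigenAug.mp hzK).1] at h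
    rw [Finset.sum_eq_single ⟨0, (Fact.out : p.Prime).pos⟩ (fun b _ hb => by
      rw [zero_pow (fun h0 => hb (Fin.ext h0)), mul_zero]) (fun h => absurd (Finset.mem_univ _) h)] at h
    simpa using h
  have hz' : proj K (K ⊗[R] A) p uK χK i z = z := by rw [proj_of_mem huK hχK1 hzK, if_pos rfl]
  rw [← hz', ← hc, map_sum]
  refine sum_mem fun j _ => ?_
  rw [map_smul]
  by_cases hj : (j : ℕ) = 0
  · rw [show c j = 0 by rw [← hc0]; congr 1; exact Fin.ext hj, zero_smul]
    exact zero_mem _
  · rw [proj_of_mem huK hχK1 (hymem _ (by omega))]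
    split_ifs with h
    · rw [← rep1_unique (p := p) (by omega) (by have := j.2; omega) h.symm]
      exact Submodule.smul_mem _ _ (Submodule.mem_span_singleton_self _)
    · rw [smul_zero]; exact zero_mem _

theorem rank_eigenAug (i : ℕ) (q : PrimeSpectrum R) :
    Module.rankAtStalk (eigenAug R A p χ i) q = 1 := by
  have hp := convPow_id_eq_one hrk
  haveI := eigenAug_finite (A := A) hp hu hχ i
  haveI := eigenAug_projective (A := A) hp hu hχ i
  let K := AlgebraicClosure q.asIdeal.ResidueField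
  have hq : (⟨⊥, Ideal.isPrime_bot⟩ : PrimeSpectrum K).comap (algebraMap R K) = q := by
    ext x
    simp [IsScalarTower.algebraMap_apply R q.asIdeal.ResidueField K]
  have h := Module.rankAtStalk_baseChange (R := R) (M := eigenAug R A p χ i) (S := K) ⟨⊥, Ideal.isPrime_bot⟩
  rw [hq, Module.rankAtStalk_eq_finrank_of_free] at h
  obtain ⟨y, hmem, hne, hsp, -⟩ := exists_point_generator hrk hu hχ hχp K
  rw [← h, ← LinearMap.finrank_range_of_inj (baseChange_subtype_injective hp hu hχ K i)]
  have hrg : LinearMap.range ((eigenAug R A p χ i).subtype.baseChange K) = Submodule.span K {y ^ rep1 p i} := by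
    refine le_antisymm (hsp i) (Submodule.span_singleton_le_iff_mem _ _ |>.mpr ?_)
    have heq : eigenAug R A p χ (rep1 p i) = eigenAug R A p χ i := by
      ext b
      simp only [mem_eigenAug, ← Units.val_pow_eq_pow_val]
      rw [forall_congr' fun m => by
        rw [← Nat.mod_add_div (rep1 p i) (p - 1), pow_add, pow_mul, pow_card_chi, one_pow, mul_one, rep1_mod]]
      refine and_congr_right fun _ => forall_congr' fun m => ?_
      conv_rhs => rw [← Nat.mod_add_div i (p - 1), pow_add, pow_mul, pow_card_chi, one_pow, mul_one]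
    exact heq ▸ hmem _ (rep1_bounds i).1
  rw [hrg]
  exact finrank_span_singleton (hne _ (rep1_bounds i).1 (rep1_bounds i).2)

omit hrk hu hχp [Module.Finite R A] [Module.Projective R A] in
theorem mul_le_eigenAug (s t : ℕ) :
    eigenAug R A p χ s * eigenAug R A p χ t ≤ eigenAug R A p χ (s + t) := by
  refine Submodule.mul_le.mpr fun a ha b hb => mem_eigenAug.mpr ⟨?_, fun m => ?_⟩
  · rw [Bialgebra.counit_mul, (mem_eigenAug.mp ha).1, zero_mul]
  · rw [map_mul, (mem_eigenAug.mp ha).2, (mem_eigenAug.mp hb).2, smul_mul_smul_comm, pow_add]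

omit hrk hu hχp [Module.Finite R A] [Module.Projective R A] in
theorem pow_le_eigenAug : ∀ t : ℕ, 1 ≤ t → eigenAug R A p χ 1 ^ t ≤ eigenAug R A p χ t := by
  intro t ht
  induction t, ht using Nat.le_induction with
  | base => rw [pow_one]
  | succ t _ ih => rw [pow_succ]; exact (mul_le_mul' ih le_rfl).trans (mul_le_eigenAug hχ t 1)

theorem pow_eigenAug_eq {t : ℕ} (h1 : 1 ≤ t) (h2 : t ≤ p - 1) :
    eigenAug R A p χ 1 ^ t = eigenAug R A p χ t := by
  have hp := convPow_id_eq_one hrk
  haveI := eigenAug_finite (A := A) hp hu hχ t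
  have hle := pow_le_eigenAug (A := A) hχ t h1
  refine le_antisymm hle ?_
  suffices h : Submodule.comap (eigenAug R A p χ t).subtype (eigenAug R A p χ 1 ^ t) = ⊤ by
    intro b hb
    have : (⟨b, hb⟩ : eigenAug R A p χ t) ∈ Submodule.comap (eigenAug R A p χ t).subtype (eigenAug R A p χ 1 ^ t) :=
      h ▸ Submodule.mem_top
    exact this
  refine eq_top_of_forall_field _ fun K _ _ _ z => ?_
  obtain ⟨y, hmem, hne, hsp, -⟩ := exists_point_generator hrk hu hχ hχp K
  have hprod : ∀ s : ℕ, 1 ≤ s → y ^ s ∈ LinearMap.range ((eigenAug R A p χ 1 ^ s).subtype.baseChange K) := by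
    intro s hs
    induction s, hs using Nat.le_induction with
    | base => rw [pow_one, pow_one]; have := hmem 1 le_rfl; rwa [pow_one] at this
    | succ s _ ih =>
      obtain ⟨a, ha⟩ := ih
      obtain ⟨b, hb⟩ := hmem 1 le_rfl
      rw [pow_one] at hb
      rw [pow_succ y, ← ha, ← hb]
      clear ha hb
      induction a using TensorProduct.induction_on with
      | zero => simp
      | add a₁ a₂ h₁ h₂ =>
        rw [map_add, add_mul]; exact add_mem h₁ h₂
      | tmul c a =>
        induction b using TensorProduct.induction_on with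
        | zero => simp
        | add b₁ b₂ h₁ h₂ =>
          rw [map_add, mul_add]; exact add_mem h₁ h₂
        | tmul d b =>
          refine ⟨(c * d) ⊗ₜ[R] ⟨(a : A) * b, ?_⟩, ?_⟩
          · rw [pow_succ]; exact Submodule.mul_mem_mul a.2 b.2
          · simp
  obtain ⟨w, hw⟩ := hprod t h1
  obtain ⟨c, hc⟩ := Submodule.mem_span_singleton.mp (hsp t _ ⟨z, rfl⟩)
  rw [← rep1_unique h1 h2 rfl] at hc
  refine ⟨c • (LinearMap.codRestrict (Submodule.comap (eigenAug R A p χ t).subtype (eigenAug R A p χ 1 ^ t))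
    (Submodule.inclusion hle) (fun b => b.2)).baseChange K w, baseChange_subtype_injective hp hu hχ K t ?_⟩
  rw [map_smul, map_smul, ← hc, ← hw]
  congr 1
  rw [← LinearMap.comp_apply, ← LinearMap.baseChange_comp, ← LinearMap.comp_apply, ← LinearMap.baseChange_comp]
  rfl

theorem adjoin_eigenAug_one : Algebra.adjoin R (eigenAug R A p χ 1 : Set A) = ⊤ := by
  have hp := convPow_id_eq_one hrk
  refine eq_top_iff.mpr fun b _ => ?_
  rw [← sub_add_cancel b (algebraMap R A (counit (R := R) b))]
  refine add_mem ?_ (Subalgebra.algebraMap_mem _ _)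
  rw [← augProj_apply, ← sum_proj hu hχ (A := A) (augProj R A b)]
  refine sum_mem fun i _ => ?_
  have hmem := proj_mem (u := u) (χ := χ) hp i (counit_augProj (R := R) b)
  have heq : eigenAug R A p χ i = eigenAug R A p χ 1 ^ rep1 p i := by
    rw [pow_eigenAug_eq hrk hu hχ hχp (rep1_bounds i).1 (rep1_bounds i).2]
    ext x
    simp only [mem_eigenAug, ← Units.val_pow_eq_pow_val]
    refine and_congr_right fun _ => forall_congr' fun m => ?_
    rw [← Nat.mod_add_div (rep1 p i) (p - 1), pow_add, pow_mul, pow_card_chi, one_pow, mul_one, rep1_mod]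
    conv_lhs => rw [← Nat.mod_add_div i (p - 1), pow_add, pow_mul, pow_card_chi, one_pow, mul_one]
  rw [heq] at hmem
  exact (show eigenAug R A p χ 1 ^ rep1 p i ≤ (Algebra.adjoin R (eigenAug R A p χ 1 : Set A)).toSubmodule from by
    refine (pow_le_pow_left' (show eigenAug R A p χ 1 ≤ (Algebra.adjoin R (eigenAug R A p χ 1 : Set A)).toSubmodule
      from fun x hx => Algebra.subset_adjoin hx) _).trans ?_
    clear heq hmem
    generalize rep1 p i = n
    induction n with
    | zero => rw [pow_zero]; exact Submodule.one_le.mpr (one_mem (Algebra.adjoin R _))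
    | succ n ih => rw [pow_succ]; exact (mul_le_mul' ih le_rfl).trans (Submodule.mul_le.mpr fun a ha b hb => mul_mem (S := Subalgebra R A) ha hb)) hmem

end Order

end

end Groth.Agent.H20OT
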