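import Groth.Agent.H20OT.OrderP
import Groth.Prelude.Def_CartDual2

/-!
Elementary facts about the dual Hopf algebra of a finite projective Hopf algebra.
-/

set_option autoImplicit false

universe u v w

open TensorProduct WithConv Coalgebra

namespace Groth.Agent.H20OT

noncomputable section

section General

variable {R : Type u} [CommRing R] {A : Type v} [CommRing A] [Bialgebra R A]
  [Module.Finite R A] [Module.Projective R A]

theorem dual_tensor_ext {s t : CartDual.D R A ⊗[R] CartDual.D R A}
    (h : ∀ a b : A, CartDual.ev₂ R A s (a ⊗ₜ b) = CartDual.ev₂ R A t (a ⊗ₜ b)) : s = t :=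
  (CartDual.ev₂ R A).injective (TensorProduct.ext' h)

theorem comul_dual_primitive {d : CartDual.D R A}
    (hd : ∀ x y : A, d.ofConv (x * y) = counit (R := R) x * d.ofConv y + counit (R := R) y * d.ofConv x) :
    comul (R := R) d = d ⊗ₜ[R] 1 + 1 ⊗ₜ[R] d := by
  refine dual_tensor_ext fun a b => ?_
  rw [CartDual.ev₂_coalgebra_comul_tmul, map_add, LinearMap.add_apply, CartDual.ev₂_tmul, CartDual.ev₂_tmul,
    CartDual.coe_apply, CartDual.coe_apply, CartDual.coe_apply, CartDual.coe_apply, CartDual.coe_apply, hd,
    LinearMap.convOne_apply, LinearMap.convOne_apply, Algebra.algebraMap_self, RingHom.id_apply, RingHom.id_apply]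
  ring

theorem bijective_eval : Function.Bijective (CartDual.eval R A) := by
  constructor
  · intro a b h
    refine dual_eval_ext (R := R) fun f => ?_
    exact DFunLike.congr_fun (congrArg WithConv.ofConv h) f
  · intro Φ
    obtain ⟨a, ha⟩ := exists_eval_eq Φ.ofConv
    exact ⟨a, WithConv.ofConv_injective (LinearMap.ext fun f => (ha f).symm)⟩

set_option maxHeartbeats 1600000 in
theorem transpose_bijective {B : Type w} [CommRing B] [Bialgebra R B] [Module.Finite R B] [Module.Projective R B] :
    Function.Bijective (fun f : A →ₐc[R] B => CartDual.transpose R f) := by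
  constructor
  · intro f f' h
    refine DFunLike.ext _ _ fun a => dual_eval_ext (R := R) fun x => ?_
    exact DFunLike.congr_fun (congrArg WithConv.ofConv (DFunLike.congr_fun h x)) a
  · intro g
    have hex : ∀ a : A, ∃ b : B, ∀ x : CartDual.D R B, (g x).ofConv a = x.ofConv b := fun a =>
      exists_eval_eq (((CartDual.toDual R A).toLinearMap.flip a) ∘ₗ (g : CartDual.D R B →ₗ[R] CartDual.D R A))
    choose f hf using hex
    have hc : ∀ (a : A) (t : CartDual.D R B ⊗[R] CartDual.D R B) (a' : A),
        CartDual.ev₂ R B t (f a ⊗ₜ f a') =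
          CartDual.ev₂ R A (TensorProduct.map (g : CartDual.D R B →ₗ[R] CartDual.D R A)
            (g : CartDual.D R B →ₗ[R] CartDual.D R A) t) (a ⊗ₜ a') := by
      intro a t a'
      induction t using TensorProduct.induction_on with
      | zero => simp
      | add s t hs ht => simp only [map_add, LinearMap.add_apply, hs, ht]
      | tmul x y =>
        rw [TensorProduct.map_tmul, CartDual.ev₂_tmul, CartDual.ev₂_tmul]
        exact congrArg₂ (· * ·) (hf a x).symm (hf a' y).symm
    let fl : A →ₗ[R] B :=
      { toFun := f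
        map_add' := fun a a' => dual_eval_ext (R := R) fun x => by
          rw [← hf, map_add (g x).ofConv, map_add x.ofConv, hf, hf]
        map_smul' := fun r a => dual_eval_ext (R := R) fun x => by
          rw [← hf, map_smul (g x).ofConv, RingHom.id_apply, map_smul x.ofConv, hf] }
    let fa : A →ₐ[R] B := AlgHom.ofLinearMap fl
      (dual_eval_ext (R := R) fun x => (hf 1 x).symm.trans (CoalgHomClass.counit_comp_apply g x))
      (fun a a' => dual_eval_ext (R := R) fun x => by
        show x.ofConv (f (a * a')) = x.ofConv (f a * f a')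
        refine Eq.trans ?_ (CartDual.ev₂_coalgebra_comul_tmul R B x (f a) (f a'))
        rw [hc, ← hf]
        erw [CoalgHomClass.map_comp_comul_apply g x]
        exact (CartDual.ev₂_coalgebra_comul_tmul R A (g x) a a').symm)
    refine ⟨BialgHom.ofAlgHom fa ?_ ?_, DFunLike.ext _ _ fun x => WithConv.ofConv_injective (LinearMap.ext fun a => (hf a x).symm)⟩
    · refine AlgHom.ext fun a => ?_
      have h1 := hf a 1
      rw [map_one, LinearMap.convOne_apply, LinearMap.convOne_apply, Algebra.algebraMap_self, RingHom.id_apply,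
        RingHom.id_apply] at h1
      exact h1.symm
    · refine AlgHom.ext fun a => ?_
      show Algebra.TensorProduct.map fa fa (comul (R := R) a) = comul (R := R) (f a)
      refine tensor_eval_ext fun x y => ?_
      rw [← dual_mul_apply, ← hf, map_mul g, dual_mul_apply]
      induction comul (R := R) a using TensorProduct.induction_on with
      | zero => simp
      | add s t hs ht => simp only [map_add, hs, ht]
      | tmul c c' =>
        rw [Algebra.TensorProduct.map_tmul, CartDual.ev₂_tmul, CartDual.ev₂_tmul]
        exact congrArg₂ (· * ·) (hf c x).symm (hf c' y).symm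

end General

section ConstGrp

variable (R : Type u) [CommRing R] (G : Type v) [Group G] [Fintype G] [DecidableEq G]

theorem exists_bialgEquiv_dual_monoidAlgebra :
    ∃ e : CartDual.D R (MonoidAlgebra R G) ≃ₐc[R] ConstGrp.F R G,
      ∀ (y : CartDual.D R (MonoidAlgebra R G)) (g : G), e y g = y (MonoidAlgebra.single g 1) := by
  haveI : Module.Finite R (MonoidAlgebra R G) := Module.Finite.of_basis (MonoidAlgebra.basis G R)
  haveI : Module.Projective R (MonoidAlgebra R G) := Module.Projective.of_basis (MonoidAlgebra.basis G R)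
  let Φ : CartDual.D R (MonoidAlgebra R G) →ₐ[R] ConstGrp.F R G :=
    { toFun := fun y g => y.ofConv (MonoidAlgebra.single g 1)
      map_one' := by
        ext g
        simp [LinearMap.convOne_apply]
      map_mul' := fun y z => by
        funext g
        show (y * z).ofConv (MonoidAlgebra.single g 1) = y.ofConv _ * z.ofConv _
        rw [LinearMap.convMul_apply, MonoidAlgebra.comul_single, CommSemiring.comul_apply, TensorProduct.map_tmul,
          MonoidAlgebra.lsingle_apply, TensorProduct.map_tmul, LinearMap.mul'_apply]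
      map_zero' := by ext g; rfl
      map_add' := fun y z => by ext g; rfl
      commutes' := fun r => by
        ext g
        simp [LinearMap.convAlgebraMap_apply] }
  have hΦ : ∀ y g, Φ y g = y.ofConv (MonoidAlgebra.single g 1) := fun y g => rfl
  have key : ∀ t, Algebra.TensorProduct.map Φ Φ t = ∑ a : G, ∑ b : G,
      CartDual.ev₂ R _ t (MonoidAlgebra.single a 1 ⊗ₜ MonoidAlgebra.single b 1) • (ConstGrp.e R a ⊗ₜ[R] ConstGrp.e R b) := by
    intro t
    induction t using TensorProduct.induction_on with
    | zero => simp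
    | add s t hs ht => simp only [map_add, LinearMap.add_apply, add_smul, Finset.sum_add_distrib, hs, ht]
    | tmul y z =>
      rw [Algebra.TensorProduct.map_tmul]
      conv_lhs => rw [ConstGrp.eq_sum_smul_e (Φ y), ConstGrp.eq_sum_smul_e (Φ z), TensorProduct.sum_tmul]
      simp only [TensorProduct.tmul_sum, smul_tmul_smul, CartDual.ev₂_tmul]
      rfl
  let ψ : CartDual.D R (MonoidAlgebra R G) →ₐc[R] ConstGrp.F R G := BialgHom.ofAlgHom Φ (by
      refine AlgHom.ext fun y => ?_
      show Φ y 1 = y.ofConv 1
      rw [hΦ, MonoidAlgebra.one_def]) (by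
      refine AlgHom.ext fun y => ?_
      simp only [AlgHom.comp_apply, Bialgebra.comulAlgHom_apply]
      rw [key, ConstGrp.comul_eq_sum]
      refine Finset.sum_congr rfl fun a _ => Finset.sum_congr rfl fun b _ => ?_
      rw [hΦ, CartDual.ev₂_coalgebra_comul_tmul, MonoidAlgebra.single_mul_single, one_mul])
  refine ⟨BialgEquiv.ofBijective ψ ⟨fun y z h => ?_, fun f => ?_⟩, fun y g => rfl⟩
  · refine WithConv.ofConv_injective ((MonoidAlgebra.basis G R).ext fun g => ?_)
    rw [MonoidAlgebra.basis_apply]
    exact congrFun h g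
  · refine ⟨toConv ((MonoidAlgebra.basis G R).constr R f), funext fun g => ?_⟩
    show (MonoidAlgebra.basis G R).constr R (fun h => f h) (MonoidAlgebra.single g 1) = f g
    rw [← MonoidAlgebra.basis_apply]
    exact Module.Basis.constr_basis (S := R) (MonoidAlgebra.basis G R) (fun h => f h) g

theorem exists_bialgEquiv_dual_constGrp :
    ∃ e : CartDual.D R (ConstGrp.F R G) ≃ₐc[R] MonoidAlgebra R G,
      ∀ y : CartDual.D R (ConstGrp.F R G), e y = ∑ g : G, MonoidAlgebra.single g (y (ConstGrp.e R g)) := by
  haveI : Module.Projective R (ConstGrp.F R G) := inferInstance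
  let μ : G →* CartDual.D R (ConstGrp.F R G) :=
    { toFun := fun g => toConv (ConstGrp.ev R g).toLinearMap
      map_one' := WithConv.ofConv_injective (LinearMap.ext fun f => by simp [LinearMap.convOne_apply])
      map_mul' := fun g h => WithConv.ofConv_injective (LinearMap.ext fun f => by
        rw [dual_mul_apply, ConstGrp.comul_eq_sum]
        simp only [map_sum, map_smul, CartDual.ev₂_tmul, CartDual.coe_apply, ofConv_toConv, AlgHom.toLinearMap_apply,
          ConstGrp.ev_apply, smul_eq_mul]
        rw [Finset.sum_eq_single g (fun x _ hx => Finset.sum_eq_zero fun y _ => by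
            rw [ConstGrp.e_apply_of_ne (Ne.symm hx), zero_mul, mul_zero]) (by simp),
          Finset.sum_eq_single h (fun y _ hy => by
            rw [ConstGrp.e_apply_of_ne (Ne.symm hy), mul_zero, mul_zero]) (by simp)]
        simp) }
  let Φ : MonoidAlgebra R G →ₐ[R] CartDual.D R (ConstGrp.F R G) := MonoidAlgebra.lift R _ G μ
  have hΦ : ∀ g r (f : ConstGrp.F R G), (Φ (MonoidAlgebra.single g r)).ofConv f = r * f g := fun g r f => by
    rw [show Φ (MonoidAlgebra.single g r) = r • μ g from MonoidAlgebra.lift_single μ g r, WithConv.ofConv_smul,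
      LinearMap.smul_apply, smul_eq_mul]
    rfl
  let ψ : MonoidAlgebra R G →ₐc[R] CartDual.D R (ConstGrp.F R G) := BialgHom.ofAlgHom Φ (by
      refine MonoidAlgebra.algHom_ext (fun g => ?_) (Subsingleton.elim _ _)
      simp only [AlgHom.comp_apply, Bialgebra.counitAlgHom_apply, MonoidAlgebra.counit_single]
      show (Φ (MonoidAlgebra.single g 1)).ofConv 1 = _
      rw [hΦ]
      simp) (by
      refine MonoidAlgebra.algHom_ext (fun g => ?_) (Subsingleton.elim _ _)
      simp only [AlgHom.comp_apply, Bialgebra.comulAlgHom_apply, MonoidAlgebra.comul_single,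
        CommSemiring.comul_apply, TensorProduct.map_tmul, MonoidAlgebra.lsingle_apply,
        Algebra.TensorProduct.map_tmul]
      refine (dual_tensor_ext fun a b => ?_).symm
      rw [CartDual.ev₂_coalgebra_comul_tmul, CartDual.ev₂_tmul, CartDual.coe_apply, CartDual.coe_apply,
        CartDual.coe_apply, hΦ, hΦ, hΦ, ConstGrp.mul_apply]
      ring)
  let L : CartDual.D R (ConstGrp.F R G) → MonoidAlgebra R G :=
    fun y => ∑ g : G, MonoidAlgebra.single g (y.ofConv (ConstGrp.e R g))
  have hLψ : ∀ y, ψ (L y) = y := fun y => WithConv.ofConv_injective (ConstGrp.linearMap_ext fun h => by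
    show (Φ (L y)).ofConv (ConstGrp.e R h) = _
    simp only [L, map_sum, WithConv.ofConv_sum, LinearMap.sum_apply, hΦ, ConstGrp.e_apply, mul_ite, mul_one,
      mul_zero, Finset.sum_ite_eq', Finset.mem_univ, if_true])
  have hinj : Function.Injective ψ := by
    refine (injective_iff_map_eq_zero _).mpr fun a ha => ?_
    refine (MonoidAlgebra.basis G R).ext_elem fun g => ?_
    have h1 : ∀ a : MonoidAlgebra R G, (Φ a).ofConv (ConstGrp.e R g) = (MonoidAlgebra.basis G R).coord g a := by
      intro a
      induction a using MonoidAlgebra.induction_linear with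
      | zero => simp
      | add x y hx hy => simp only [map_add, WithConv.ofConv_add, LinearMap.add_apply, hx, hy]
      | single h r =>
        rw [hΦ, show MonoidAlgebra.single h r = r • MonoidAlgebra.single h (1 : R) by simp, map_smul,
          ← MonoidAlgebra.basis_apply, Module.Basis.coord_apply, Module.Basis.repr_self, Finsupp.single_apply,
          smul_eq_mul, ConstGrp.e_apply]
    rw [map_zero, Finsupp.zero_apply, ← Module.Basis.coord_apply, ← h1, show Φ a = 0 from ha]
    rfl
  refine ⟨(BialgEquiv.ofBijective ψ ⟨hinj, fun y => ⟨L y, hLψ y⟩⟩).symm, fun y => ?_⟩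
  refine hinj ?_
  refine Eq.trans ?_ (hLψ y).symm
  exact (BialgEquiv.ofBijective ψ ⟨hinj, fun y => ⟨L y, hLψ y⟩⟩).apply_symm_apply y

end ConstGrp

section AlphaDual

variable (p : ℕ) [hp : Fact p.Prime] (R : Type u) [CommRing R] [CharP R p]

open scoped Classical in
theorem exists_bialgEquiv_dual_alphaP :
    ∃ e : CartDual.D R (AlphaP.A p R) ≃ₐc[R] AlphaP.A p R,
      ∀ i : ℕ, i < p → (e.symm (AlphaP.x p R)) (AlphaP.x p R ^ i) = if i = 1 then 1 else 0 := by
  haveI := nontrivial_of_charP p R
  let b := AlphaP.basis p R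
  let δ : CartDual.D R (AlphaP.A p R) := toConv (b.coord ⟨1, hp.out.one_lt⟩)
  have hδ : ∀ m : ℕ, m < p → δ.ofConv (AlphaP.x p R ^ m) = if m = 1 then 1 else 0 := by
    intro m hm
    rw [← AlphaP.basis_apply p R ⟨m, hm⟩]
    simp only [δ, b, WithConv.ofConv_toConv, Module.Basis.coord_apply, Module.Basis.repr_self, Finsupp.single_apply]
    exact if_congr Fin.ext_iff rfl rfl
  have hpow : ∀ n m : ℕ, m < p →
      (δ ^ n).ofConv (AlphaP.x p R ^ m) = if m = n then (n.factorial : R) else 0 := by
    intro n
    induction n with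
    | zero =>
      intro m _
      rw [pow_zero δ, LinearMap.convOne_apply]
      by_cases hm : m = 0
      · simp [hm]
      · rw [alphaP_counit_pow p hm, map_zero, if_neg hm]
    | succ n ih =>
      intro m hm
      rw [pow_succ δ, dual_mul_apply, alphaP_comul_pow, map_sum]
      rw [Finset.sum_congr rfl fun j hj => by
        rw [map_nsmul, CartDual.ev₂_tmul, CartDual.coe_apply, CartDual.coe_apply,
          ih j (lt_of_le_of_lt (Finset.mem_range_succ_iff.mp hj) hm),
          hδ (m - j) (lt_of_le_of_lt (Nat.sub_le _ _) hm)]]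
      by_cases hmn : m = n + 1
      · subst hmn
        rw [if_pos rfl, Finset.sum_eq_single n]
        · simp [Nat.factorial_succ]
        · intro j _ hj; simp [if_neg hj]
        · intro h; exact absurd (Finset.mem_range.mpr (by omega)) h
      · rw [if_neg hmn]
        refine Finset.sum_eq_zero fun j hj => ?_
        have := Finset.mem_range_succ_iff.mp hj
        by_cases hjn : j = n
        · rw [if_neg (show ¬ m - j = 1 by omega), mul_zero, smul_zero]
        · rw [if_neg hjn, zero_mul, smul_zero]
  have hδp : δ ^ p = 0 := WithConv.ofConv_injective (b.ext fun m => by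
    rw [AlphaP.basis_apply, hpow p _ m.2, if_neg (ne_of_lt m.2)]
    rfl)
  have hδprim : comul (R := R) δ = δ ⊗ₜ[R] 1 + 1 ⊗ₜ[R] δ := by
    refine comul_dual_primitive fun y z => ?_
    suffices h : (LinearMap.mul R (AlphaP.A p R)).compr₂ δ.ofConv =
        (LinearMap.mul R R).compl₁₂ (counit (R := R) (A := AlphaP.A p R)) δ.ofConv +
          (LinearMap.mul R R).compl₁₂ δ.ofConv (counit (R := R) (A := AlphaP.A p R)) by
      have := LinearMap.congr_fun (LinearMap.congr_fun h y) z
      simp only [LinearMap.compr₂_apply, LinearMap.compl₁₂_apply, LinearMap.add_apply, LinearMap.mul_apply'] at this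
      rw [this]; ring
    refine b.ext fun i => b.ext fun j => ?_
    simp only [LinearMap.compr₂_apply, LinearMap.compl₁₂_apply, LinearMap.add_apply, LinearMap.mul_apply',
      AlphaP.basis_apply, b, ← pow_add]
    have hc : ∀ n : ℕ, counit (R := R) (A := AlphaP.A p R) (AlphaP.x p R ^ n) = if n = 0 then 1 else 0 := by
      intro n
      by_cases hn : n = 0
      · simp [hn]
      · rw [alphaP_counit_pow p hn, if_neg hn]
    rw [hc, hc, hδ i i.2, hδ j j.2]
    by_cases hij : (i : ℕ) + j < p
    · rw [hδ _ hij]; split_ifs <;> first | omega | simp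
    · rw [show AlphaP.x p R ^ ((i : ℕ) + j) = 0 from pow_eq_zero_of_le (by omega) (AlphaP.x_pow p R), map_zero]
      have := i.2; have := j.2; have := hp.out.two_le
      split_ifs <;> simp <;> omega
  let Φ : AlphaP.A p R →ₐ[R] CartDual.D R (AlphaP.A p R) := AlphaP.lift p R δ hδp
  have hΦ : Φ (AlphaP.x p R) = δ := AlphaP.lift_x _ _
  have hΦn : ∀ n : ℕ, Φ (AlphaP.x p R ^ n) = δ ^ n := fun n => by
    rw [map_pow, hΦ]
  let ψ : AlphaP.A p R →ₐc[R] CartDual.D R (AlphaP.A p R) := BialgHom.ofAlgHom Φ (by
      apply AlphaP.algHom_ext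
      simp only [AlgHom.comp_apply, Bialgebra.counitAlgHom_apply, hΦ, AlphaP.counit_x]
      show δ.ofConv 1 = 0
      rw [← pow_zero (AlphaP.x p R), hδ 0 hp.out.pos]
      simp) (by
      apply AlphaP.algHom_ext
      simp only [AlgHom.comp_apply, Bialgebra.comulAlgHom_apply, hΦ, AlphaP.comul_x, map_add,
        Algebra.TensorProduct.map_tmul, map_one, hδprim])
  have hu : ∀ n : Fin p, IsUnit (((n : ℕ).factorial : ℕ) : R) := fun n =>
    (CharP.isUnit_natCast_iff (R := R) hp.out).mpr fun hd => absurd (hp.out.dvd_factorial.mp hd) (not_le.mpr n.2)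
  have hval : ∀ (a : AlphaP.A p R) (m : Fin p),
      (Φ a).ofConv (AlphaP.x p R ^ (m : ℕ)) = b.repr a m * ((m : ℕ).factorial : R) := by
    intro a m
    conv_lhs => rw [← b.sum_repr a, map_sum, WithConv.ofConv_sum, LinearMap.sum_apply]
    rw [Finset.sum_eq_single m]
    · rw [map_smul, WithConv.ofConv_smul, LinearMap.smul_apply, AlphaP.basis_apply, hΦn, hpow _ _ m.2, if_pos rfl,
        smul_eq_mul]
    · intro n _ hn
      rw [map_smul, WithConv.ofConv_smul, LinearMap.smul_apply, AlphaP.basis_apply, hΦn, hpow _ _ m.2,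
        if_neg (fun h => hn (Fin.ext h.symm)), smul_zero]
    · simp
  have hinj : Function.Injective ψ := by
    refine (injective_iff_map_eq_zero _).mpr fun a ha => b.ext_elem fun m => ?_
    have := hval a m
    rw [show Φ a = 0 from ha] at this
    rw [map_zero, Finsupp.zero_apply]
    exact (hu m).mul_left_eq_zero.mp this.symm
  have hsurj : Function.Surjective ψ := fun y => by
    refine ⟨∑ m : Fin p, (y.ofConv (AlphaP.x p R ^ (m : ℕ)) * ↑((hu m).unit⁻¹)) • b m, ?_⟩
    refine WithConv.ofConv_injective (b.ext fun m => ?_)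
    rw [AlphaP.basis_apply]
    show (Φ _).ofConv _ = _
    rw [hval, Module.Basis.repr_sum_self, mul_assoc]
    simp
  refine ⟨(BialgEquiv.ofBijective ψ ⟨hinj, hsurj⟩).symm, fun i hi => ?_⟩
  show (Φ (AlphaP.x p R)).ofConv _ = _
  rw [hΦ]
  exact hδ i hi

end AlphaDual

end

end Groth.Agent.H20OT
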