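import Groth.Agent.H20OT.Present
import Mathlib.RingTheory.TensorProduct.Basic
import Mathlib.RingTheory.Bialgebra.Equiv

/-!
The classification of groups of prime order: isomorphism from the eigen data.
-/

set_option autoImplicit false

universe u

open TensorProduct WithConv Coalgebra OortTate

namespace Groth.Agent.H20OT

noncomputable section

section DualRank

variable {R : Type u} [CommRing R] {A : Type u} [CommRing A] [HopfAlgebra R A] [Module.Finite R A]
  [Module.Projective R A]

theorem rankAtStalk_dual (q : PrimeSpectrum R) :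
    Module.rankAtStalk (CartDual.D R A) q = Module.rankAtStalk A q := by
  let K := q.asIdeal.ResidueField
  obtain ⟨n, a, φ, hb⟩ := exists_dual_basis (R := R) (A := A)
  let l : CartDual.D R A →ₗ[R] ET R A K :=
    { toFun := fun f => cst K f.ofConv
      map_add' := fun f g => WithConv.ofConv_injective (LinearMap.ext fun x => by simp [cst])
      map_smul' := fun r f => WithConv.ofConv_injective (LinearMap.ext fun x => by
        show algebraMap R K (r * f.ofConv x) = r • algebraMap R K (f.ofConv x)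
        rw [map_mul, Algebra.smul_def]) }
  haveI : IsScalarTower R K (ET R A K) :=
    ⟨fun r c f => WithConv.ofConv_injective (LinearMap.ext fun x => smul_assoc r c (f.ofConv x))⟩
  let Φ := LinearMap.liftBaseChange K l
  have hinv : ∀ t, ∑ i, (Φ t).ofConv (a i) ⊗ₜ[R] (toConv (φ i) : CartDual.D R A) = t := by
    intro t
    induction t using TensorProduct.induction_on with
    | zero => simp
    | add s t hs ht => simp only [map_add, WithConv.ofConv_add, LinearMap.add_apply, add_tmul, Finset.sum_add_distrib, hs, ht]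
    | tmul c f =>
      have : ∀ i, (Φ (c ⊗ₜ[R] f)).ofConv (a i) = f.ofConv (a i) • c := fun i => by
        show (c • cst K f.ofConv).ofConv (a i) = _
        rw [WithConv.ofConv_smul, LinearMap.smul_apply, smul_eq_mul, Algebra.smul_def (f.ofConv (a i)) c, mul_comm]
        rfl
      simp only [this, TensorProduct.smul_tmul, ← tmul_sum]
      congr 1
      refine WithConv.ofConv_injective (LinearMap.ext fun x => ?_)
      conv_rhs => rw [← hb x, map_sum]
      simp [mul_comm]
  have hΦ : Function.Bijective Φ := by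
    refine ⟨fun s t h => by rw [← hinv s, ← hinv t, h], fun F => ⟨∑ i, F.ofConv (a i) ⊗ₜ[R] (toConv (φ i) : CartDual.D R A), ?_⟩⟩
    rw [map_sum]
    conv_rhs => rw [eq_sum_cst hb F]
    exact Finset.sum_congr rfl fun i _ => LinearMap.liftBaseChange_tmul _ _ _ _
  let e : K ⊗[R] CartDual.D R A ≃ₗ[K] Module.Dual K (K ⊗[R] A) :=
    (LinearEquiv.ofBijective Φ hΦ).trans ((WithConv.linearEquiv K (A →ₗ[R] K)).trans (LinearMap.liftBaseChangeEquiv K))
  have hq : (⟨⊥, Ideal.isPrime_bot⟩ : PrimeSpectrum K).comap (algebraMap R K) = q := by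
    ext x
    simp [K]
  have h1 := Module.rankAtStalk_baseChange (R := R) (M := CartDual.D R A) (S := K) ⟨⊥, Ideal.isPrime_bot⟩
  have h2 := Module.rankAtStalk_baseChange (R := R) (M := A) (S := K) ⟨⊥, Ideal.isPrime_bot⟩
  rw [hq, Module.rankAtStalk_eq_finrank_of_free] at h1 h2
  rw [← h1, ← h2, e.finrank_eq, Subspace.dual_finrank_eq]

end DualRank

section Classify

variable {R : Type u} [CommRing R] {p : ℕ} [Fact p.Prime] {u : R} {χ : (ZMod p)ˣ →* Rˣ}
  (hu : u * ((p - 1 : ℕ) : R) = 1) (hχ : ∀ m : (ZMod p)ˣ, m ≠ 1 → IsUnit ((χ m : R) - 1))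
  (hχp : ∀ m : (ZMod p)ˣ, ((χ m : Rˣ) : R) - (((m : ZMod p).val : ℕ) : R) ∈ Ideal.span ({(p : R)} : Set R))
  {A : Type u} [CommRing A] [HopfAlgebra R A] [Coalgebra.IsCocomm R A] [Module.Finite R A] [Module.Projective R A]
  (hrk : ∀ q : PrimeSpectrum R, Module.rankAtStalk A q = p)
  {A' : Type u} [CommRing A'] [HopfAlgebra R A'] [Coalgebra.IsCocomm R A'] [Module.Finite R A']
  [Module.Projective R A'] (hrk' : ∀ q : PrimeSpectrum R, Module.rankAtStalk A' q = p)

include hu hχ hχp hrk

/-- an element of the augmentation ideal lies in any submodule containing all products of eigen elements -/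
theorem mem_of_forall_prod (S : Submodule R A)
    (hS : ∀ t : ℕ, 1 ≤ t → t ≤ p - 1 → ∀ f : Fin t → eigenAug R A p χ 1, ∏ i, (f i : A) ∈ S)
    {a : A} (ha : counit (R := R) a = 0) : a ∈ S := by
  rw [← sum_proj hu hχ (A := A) a]
  refine sum_mem fun i _ => ?_
  have h := proj_mem (u := u) (χ := χ) (convPow_id_eq_one hrk) i ha
  rw [eigenAug_congr (A := A) (χ := χ) (rep1_mod i).symm,
    ← pow_eigenAug_eq hrk hu hχ hχp (rep1_bounds i).1 (rep1_bounds i).2, Submodule.pow_eq_span_pow_set] at h
  refine Submodule.span_le.mpr ?_ h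
  intro w hw
  obtain ⟨F, rfl⟩ := Set.mem_pow.mp hw
  rw [List.prod_ofFn]
  exact hS _ (rep1_bounds i).1 (rep1_bounds i).2 fun j => ⟨(F j : A), (F j).2⟩

include hrk'

/-- **Classification**: an isomorphism of the eigen lines compatible with both products. -/
theorem nonempty_bialgEquiv (θ : eigenAug R A p χ 1 ≃ₗ[R] eigenAug R A' p χ 1)
    (hθ : ∀ (f : Fin p → eigenAug R A p χ 1) (g : eigenAug R A p χ 1),
      (g : A) = ∏ i, (f i : A) → ((θ g : eigenAug R A' p χ 1) : A') = ∏ i, ((θ (f i)) : A'))
    (hθD : ∀ (φ : Fin p → eigenAug R (CartDual.D R A) p χ 1)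
      (φ' : Fin p → eigenAug R (CartDual.D R A') p χ 1)
      (ψ : eigenAug R (CartDual.D R A) p χ 1) (ψ' : eigenAug R (CartDual.D R A') p χ 1),
      (∀ i, ∀ x : eigenAug R A p χ 1,
        CartDual.toDual R A (φ i : CartDual.D R A) (x : A) =
          CartDual.toDual R A' (φ' i : CartDual.D R A') ((θ x : eigenAug R A' p χ 1) : A')) →
      (ψ : CartDual.D R A) = ∏ i, (φ i : CartDual.D R A) →
      (ψ' : CartDual.D R A') = ∏ i, (φ' i : CartDual.D R A') →
      ∀ x : eigenAug R A p χ 1,
        CartDual.toDual R A (ψ : CartDual.D R A) (x : A) =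
          CartDual.toDual R A' (ψ' : CartDual.D R A') ((θ x : eigenAug R A' p χ 1) : A')) :
    Nonempty (A ≃ₐc[R] A') := by
  have hp := convPow_id_eq_one hrk
  have hp' := convPow_id_eq_one hrk'
  have hrkD' : ∀ q : PrimeSpectrum R, Module.rankAtStalk (CartDual.D R A') q = p := fun q =>
    (rankAtStalk_dual q).trans (hrk' q)
  have hp1 : p % (p - 1) = 1 % (p - 1) := prime_one_mod
  have h1p : 1 ≤ p := (Fact.out : p.Prime).one_le
  -- the algebra map and its inverse
  obtain ⟨φ, hφ⟩ := exists_algHom_of_compat hrk hu hχ hχp ((eigenAug R A' p χ 1).subtype ∘ₗ θ.toLinearMap)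
    fun f g hfg => hθ f g hfg
  obtain ⟨φi, hφi⟩ := exists_algHom_of_compat hrk' hu hχ hχp ((eigenAug R A p χ 1).subtype ∘ₗ θ.symm.toLinearMap)
    fun f g hfg => by
      have hmem := prod_mem_eigenAug hχ h1p fun i => θ.symm (f i)
      rw [eigenAug_congr (A := A) (χ := χ) hp1] at hmem
      have h := hθ (fun i => θ.symm (f i)) ⟨_, hmem⟩ rfl
      simp only [LinearEquiv.apply_symm_apply] at h
      rw [← hfg] at h
      have h' : θ.symm g = ⟨_, hmem⟩ := by rw [← Subtype.ext h, LinearEquiv.symm_apply_apply]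
      exact congrArg Subtype.val h'
  have hinv1 : φi.comp φ = AlgHom.id R A := algHom_ext_eigen hrk hu hχ hχp fun x hx => by
    rw [AlgHom.comp_apply, hφ ⟨x, hx⟩]
    refine (hφi _).trans ?_
    simp
  have hinv2 : φ.comp φi = AlgHom.id R A' := algHom_ext_eigen hrk' hu hχ hχp fun x hx => by
    rw [AlgHom.comp_apply, hφi ⟨x, hx⟩]
    refine (hφ _).trans ?_
    simp
  let e : A ≃ₐ[R] A' := AlgEquiv.ofAlgHom φ φi hinv2 hinv1
  -- the transpose on eigen lines
  let τ : eigenAug R (CartDual.D R A') p χ 1 →ₗ[R] CartDual.D R A :=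
    { toFun := fun ξ => extDual hp u 1
        ((CartDual.toDual R A' (ξ : CartDual.D R A')) ∘ₗ (eigenAug R A' p χ 1).subtype ∘ₗ θ.toLinearMap)
      map_add' := fun ξ η => WithConv.ofConv_injective (LinearMap.ext fun a => rfl)
      map_smul' := fun r ξ => WithConv.ofConv_injective (LinearMap.ext fun a => rfl) }
  have hτmem : ∀ ξ, τ ξ ∈ eigenAug R (CartDual.D R A) p χ 1 := fun ξ => extDual_mem hp 1 _
  have hτapply : ∀ (ξ : eigenAug R (CartDual.D R A') p χ 1) (x : eigenAug R A p χ 1),
      (τ ξ).ofConv (x : A) = (ξ : CartDual.D R A').ofConv (θ x : A') := fun ξ x =>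
    extDual_apply hp hu hχ 1 _ x
  obtain ⟨ψ, hψ⟩ := exists_algHom_of_compat hrkD' hu hχ hχp τ fun f g hfg => by
    have hmem := prod_mem_eigenAug hχ h1p fun i => (⟨τ (f i), hτmem (f i)⟩ : eigenAug R (CartDual.D R A) p χ 1)
    rw [eigenAug_congr (A := CartDual.D R A) (χ := χ) hp1] at hmem
    refine congrArg Subtype.val ((dual_restrict_bijective hp hu hχ 1).1 (a₁ := ⟨τ g, hτmem g⟩) (a₂ := ⟨_, hmem⟩)
      (LinearMap.ext fun x => ?_))
    show (τ g).ofConv (x : A) = (∏ i, τ (f i)).ofConv (x : A)
    rw [hτapply]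
    exact (hθD (fun i => ⟨τ (f i), hτmem (f i)⟩) f ⟨_, hmem⟩ g (fun i y => hτapply (f i) y) rfl hfg x).symm
  -- the transpose of `φ` is `ψ`
  have hclaim : ∀ (F : CartDual.D R A') (a : A), (ψ F).ofConv a = F.ofConv (φ a) := by
    have hε : ∀ a, counit (R := R) a = 0 → ∀ F : CartDual.D R A', counit (R := R) F = 0 →
        (ψ F).ofConv a = F.ofConv (φ a) := by
      intro a ha F hF
      let S : Submodule R (CartDual.D R A') :=
        { carrier := {F | (ψ F).ofConv a = F.ofConv (φ a)}
          add_mem' := fun {x y} hx hy => by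
            show (ψ (x + y)).ofConv a = _
            rw [map_add ψ, WithConv.ofConv_add, WithConv.ofConv_add, LinearMap.add_apply, LinearMap.add_apply, hx, hy]
          zero_mem' := by show (ψ 0).ofConv a = _; rw [map_zero ψ]; rfl
          smul_mem' := fun r x hx => by
            show (ψ (r • x)).ofConv a = _
            rw [show ψ (r • x) = r • ψ x from map_smul ψ.toLinearMap r x, WithConv.ofConv_smul, WithConv.ofConv_smul,
              LinearMap.smul_apply, LinearMap.smul_apply, hx] }
      refine mem_of_forall_prod hu hχ hχp hrkD' S (fun t ht1 ht2 f => ?_) hF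
      show (ψ (∏ i, (f i : CartDual.D R A'))).ofConv a = (∏ i, (f i : CartDual.D R A')).ofConv (φ a)
      let T : Submodule R A := LinearMap.eqLocus (ψ (∏ i, (f i : CartDual.D R A'))).ofConv
        ((∏ i, (f i : CartDual.D R A')).ofConv ∘ₗ φ.toLinearMap)
      refine mem_of_forall_prod hu hχ hχp hrk T (fun s hs1 hs2 g => ?_) ha
      show (ψ _).ofConv (∏ j, (g j : A)) = (∏ i, (f i : CartDual.D R A')).ofConv (φ (∏ j, (g j : A)))
      rw [show ψ (∏ i, (f i : CartDual.D R A')) = ∏ i, τ (f i) by
        rw [algHom_prod (B := CartDual.D R A') (C := CartDual.D R A) ψ]; exact Finset.prod_congr rfl fun i _ => hψ _]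
      rw [map_prod φ, Finset.prod_congr rfl fun j _ => (hφ (g j)).trans rfl]
      obtain ⟨w, hw⟩ := exists_ygen_pow (p := p) hu hχ ht1
      rcases eq_or_ne s t with rfl | hne
      · exact ((pairing_prod hrk hu hχ hχp ht1 hw (fun i => ⟨τ (f i), hτmem (f i)⟩) g).trans
          (by rw [Finset.prod_congr rfl fun i _ => hτapply (f i) (g i)])).trans
          (pairing_prod hrk' hu hχ hχp ht1 hw f (fun i => θ (g i))).symm
      · have hmod : ¬ t % (p - 1) = s % (p - 1) := fun h => hne (by
          rw [rep1_unique (i := t) hs1 hs2 h.symm, ← rep1_unique (i := t) ht1 ht2 rfl])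
        have hl := prod_mem_eigenAug hχ ht1 fun i => (⟨τ (f i), hτmem (f i)⟩ : eigenAug R (CartDual.D R A) p χ 1)
        have hr := prod_mem_eigenAug hχ ht1 f
        have hga := prod_mem_eigenAug hχ hs1 g
        have hgb := prod_mem_eigenAug hχ hs1 fun j => θ (g j)
        rw [← dual_apply_proj hu hχ hl, augProj_of_mem (mem_eigenAug.mp hga).1, proj_of_mem hu hχ hga, if_neg hmod,
          map_zero]
        refine Eq.symm ?_
        show (∏ i, (f i : CartDual.D R A')).ofConv (∏ j, ((θ (g j)) : A')) = 0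
        rw [← dual_apply_proj hu hχ hr, augProj_of_mem (mem_eigenAug.mp hgb).1, proj_of_mem hu hχ hgb, if_neg hmod,
          map_zero]
    have hεφ : ∀ a, counit (R := R) (φ a) = counit (R := R) a := by
      intro a
      have h : (Bialgebra.counitAlgHom R A').comp φ = Bialgebra.counitAlgHom R A :=
        algHom_ext_eigen hrk hu hχ hχp fun x hx => by
          rw [AlgHom.comp_apply, hφ ⟨x, hx⟩]
          show counit (R := R) ((θ ⟨x, hx⟩ : eigenAug R A' p χ 1) : A') = counit (R := R) x
          rw [(mem_eigenAug.mp (θ ⟨x, hx⟩).2).1, (mem_eigenAug.mp hx).1]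
      exact AlgHom.congr_fun h a
    have hψc : ∀ G, (ψ G).ofConv 1 = G.ofConv 1 := by
      intro G
      have h : (Bialgebra.counitAlgHom R (CartDual.D R A)).comp ψ = Bialgebra.counitAlgHom R (CartDual.D R A') :=
        algHom_ext_eigen hrkD' hu hχ hχp fun x hx => by
          rw [AlgHom.comp_apply, hψ ⟨x, hx⟩]
          show (τ ⟨x, hx⟩).ofConv 1 = x.ofConv 1
          rw [(mem_eigenAug_dual.mp (hτmem _)).1, (mem_eigenAug_dual.mp hx).1]
      exact AlgHom.congr_fun h G
    intro F a
    have h := hε _ (counit_augProj a) _ (counit_augProj (R := R) F)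
    rw [augProj_apply, augProj_apply, counit_dual, Algebra.algebraMap_eq_smul_one, Algebra.algebraMap_eq_smul_one,
      map_sub ψ, show ψ (F.ofConv 1 • (1 : CartDual.D R A')) = F.ofConv 1 • (1 : CartDual.D R A) by
        rw [← algHom_one ψ]; exact map_smul ψ.toLinearMap _ _,
      map_sub φ, map_smul φ, map_one φ] at h
    simp only [WithConv.ofConv_sub, WithConv.ofConv_smul, LinearMap.sub_apply, LinearMap.smul_apply, map_sub,
      map_smul, smul_eq_mul] at h
    have h11 : (1 : CartDual.D R A).ofConv (1 : A) = 1 := by simp [LinearMap.convOne_def]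
    have h11' : (1 : CartDual.D R A').ofConv (1 : A') = 1 := by simp [LinearMap.convOne_def]
    have h1a : (1 : CartDual.D R A).ofConv a = counit (R := R) a := by simp [LinearMap.convOne_def]
    have h1φ : (1 : CartDual.D R A').ofConv (φ a) = counit (R := R) a := by simp [LinearMap.convOne_def, hεφ]
    rw [h11, h11', h1a, h1φ, hψc] at h
    linear_combination h
  refine ⟨BialgEquiv.ofAlgEquiv e (algHom_ext_eigen hrk hu hχ hχp fun x hx => ?_) ?_⟩
  · rw [AlgHom.comp_apply]
    show counit (R := R) (φ x) = counit (R := R) x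
    rw [hφ ⟨x, hx⟩, (mem_eigenAug.mp hx).1]
    exact (mem_eigenAug.mp (θ ⟨x, hx⟩).2).1
  · refine AlgHom.ext fun a => ?_
    show Algebra.TensorProduct.map φ φ (comul (R := R) a) = comul (R := R) (φ a)
    refine sub_eq_zero.mp ((Module.forall_dual_apply_eq_zero_iff R _).mp fun Λ => ?_)
    obtain ⟨y, rfl⟩ := (CartDual.ev₂ R A').surjective Λ
    rw [map_sub, sub_eq_zero]
    induction y using TensorProduct.induction_on with
    | zero => simp
    | add y z hy hz => simp only [map_add, LinearMap.add_apply, hy, hz]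
    | tmul F G =>
      have h1 := hclaim (F * G) a
      rw [map_mul ψ] at h1
      rw [CartDual.ev₂_tmul_eq']
      refine Eq.trans ?_ h1
      show LinearMap.mul' R R (TensorProduct.map F.ofConv G.ofConv (TensorProduct.map φ.toLinearMap φ.toLinearMap (comul (R := R) a))) =
        LinearMap.mul' R R (TensorProduct.map (ψ F).ofConv (ψ G).ofConv (comul (R := R) a))
      rw [← (ℛ R a).eq]
      simp [hclaim]

end Classify

end

end Groth.Agent.H20OT
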