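import Mathlib.RingTheory.HopfAlgebra.Basic
import Mathlib.RingTheory.HopfAlgebra.Convolution
import Mathlib.RingTheory.Ideal.Cotangent
import Mathlib.RingTheory.Derivation.Basic
import Mathlib.RingTheory.Kaehler.Basic
import Mathlib.RingTheory.Etale.Basic
import Mathlib.RingTheory.Smooth.Fiber
import Mathlib.RingTheory.Finiteness.ModuleFinitePresentation
import Mathlib.RingTheory.RingHom.Unramified
import Mathlib.LinearAlgebra.TensorProduct.Tower

/-!
Derivations of a commutative Hopf algebra and the cotangent space at the identity; the étale criterion.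
-/

set_option autoImplicit false

universe u v w

open TensorProduct Coalgebra

namespace Groth.Agent.H20OT

noncomputable section

variable {R : Type u} [CommRing R] {A : Type v} [CommRing A] [HopfAlgebra R A]
variable {M : Type w} [AddCommGroup M] [Module R M] [Module A M] [IsScalarTower R A M]

/-- scalar multiplication as a map on the tensor product -/
def act : A ⊗[R] M →ₗ[R] M := ((LinearMap.id (R := R) (M := M)).liftBaseChange A).restrictScalars R

@[simp] theorem act_tmul (a : A) (m : M) : act (R := R) (a ⊗ₜ[R] m) = a • m := by simp [act]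

/-- a derivation at the identity with values in a module -/
def IsCounitDer (f : A →ₗ[R] M) : Prop :=
  ∀ a b, f (a * b) = counit (R := R) a • f b + counit (R := R) b • f a

/-- the invariant derivation -/
def tau (f : A →ₗ[R] M) : A →ₗ[R] M := act (R := R) (A := A) ∘ₗ f.lTensor A ∘ₗ comul (R := R) (A := A)

/-- the value at the identity of a derivation -/
def sigma (f : A →ₗ[R] M) : A →ₗ[R] M :=
  act (R := R) (A := A) ∘ₗ TensorProduct.map (HopfAlgebra.antipode R) f ∘ₗ comul (R := R) (A := A)

theorem tau_apply (f : A →ₗ[R] M) {ι : Type*} {a : A} (r : Coalgebra.Repr R a ι) :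
    tau f a = ∑ i ∈ r.index, r.left i • f (r.right i) := by
  simp [tau, ← r.eq, map_sum]

theorem sigma_apply (f : A →ₗ[R] M) {ι : Type*} {a : A} (r : Coalgebra.Repr R a ι) :
    sigma f a = ∑ i ∈ r.index, HopfAlgebra.antipode R (r.left i) • f (r.right i) := by
  simp [sigma, ← r.eq, map_sum]

/-- the trilinear map used in the two inversions -/
def triple (g h : A →ₗ[R] A) (f : A →ₗ[R] M) : A ⊗[R] (A ⊗[R] A) →ₗ[R] M :=
  act (R := R) (A := A) ∘ₗ TensorProduct.map g (act (R := R) (A := A) ∘ₗ TensorProduct.map h f)

theorem triple_tmul (g h : A →ₗ[R] A) (f : A →ₗ[R] M) (x y z : A) :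
    triple g h f (x ⊗ₜ (y ⊗ₜ z)) = (g x * h y) • f z := by
  simp [triple, mul_smul]

theorem tau_sigma (f : A →ₗ[R] M) : tau (sigma f) = f := by
  ext a
  let r := ℛ R a
  rw [tau_apply _ r]
  have h := congrArg (triple (M := M) LinearMap.id (HopfAlgebra.antipode R) f)
    (sum_tmul_tmul_eq r (fun i => ℛ R (r.left i)) (fun i => ℛ R (r.right i)))
  simp only [map_sum, triple_tmul, LinearMap.id_apply] at h
  rw [Finset.sum_congr rfl fun i _ => by
    rw [sigma_apply f (ℛ R (r.right i)), Finset.smul_sum]]
  simp only [smul_smul]
  rw [← h]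
  simp only [← Finset.sum_smul, HopfAlgebra.sum_mul_antipode_eq_algebraMap_counit, algebraMap_smul,
    ← map_smul, ← map_sum, sum_counit_smul]

theorem sigma_tau (f : A →ₗ[R] M) : sigma (tau f) = f := by
  ext a
  let r := ℛ R a
  rw [sigma_apply _ r]
  have h := congrArg (triple (M := M) (HopfAlgebra.antipode R) LinearMap.id f)
    (sum_tmul_tmul_eq r (fun i => ℛ R (r.left i)) (fun i => ℛ R (r.right i)))
  simp only [map_sum, triple_tmul, LinearMap.id_apply] at h
  rw [Finset.sum_congr rfl fun i _ => by
    rw [tau_apply f (ℛ R (r.right i)), Finset.smul_sum]]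
  simp only [smul_smul]
  rw [← h]
  simp only [← Finset.sum_smul, HopfAlgebra.sum_antipode_mul_eq_algebraMap_counit, algebraMap_smul,
    ← map_smul, ← map_sum, sum_counit_smul]

theorem tau_mul {f : A →ₗ[R] M} (hf : IsCounitDer f) (a b : A) :
    tau f (a * b) = a • tau f b + b • tau f a := by
  have key : ∀ s t : A ⊗[R] A, act (R := R) (f.lTensor A (s * t)) =
      ((TensorProduct.rid R A) ((counit (R := R) (A := A)).lTensor A s)) • act (R := R) (f.lTensor A t) +
      ((TensorProduct.rid R A) ((counit (R := R) (A := A)).lTensor A t)) • act (R := R) (f.lTensor A s) := by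
    intro s t
    induction s using TensorProduct.induction_on with
    | zero => simp
    | add s s' hs hs' => simp only [add_mul, map_add, hs, hs', add_smul, smul_add]; abel
    | tmul x y =>
      induction t using TensorProduct.induction_on with
      | zero => simp
      | add t t' ht ht' => simp only [mul_add, map_add, ht, ht', add_smul, smul_add]; abel
      | tmul z w =>
        simp only [Algebra.TensorProduct.tmul_mul_tmul, LinearMap.lTensor_tmul, act_tmul, TensorProduct.rid_tmul,
          hf y w, smul_add, smul_assoc]
        rw [smul_comm (x * z) (counit (R := R) y), smul_comm (x * z) (counit (R := R) w), mul_smul, mul_smul,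
          smul_comm z x (f y)]
  simp only [tau, LinearMap.coe_comp, Function.comp_apply, Bialgebra.comul_mul]
  rw [key]
  simp [lTensor_counit_comp_comul, Coalgebra.lTensor_counit_comul]

theorem isCounitDer_sigma (D : Derivation R A M) : IsCounitDer (sigma D.toLinearMap) := by
  intro a b
  have key : ∀ s t : A ⊗[R] A,
      act (R := R) (TensorProduct.map (HopfAlgebra.antipode R (A := A)) D.toLinearMap (s * t)) =
        LinearMap.mul' R A ((HopfAlgebra.antipode R (A := A)).rTensor A s) •
          act (R := R) (TensorProduct.map (HopfAlgebra.antipode R (A := A)) D.toLinearMap t) +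
        LinearMap.mul' R A ((HopfAlgebra.antipode R (A := A)).rTensor A t) •
          act (R := R) (TensorProduct.map (HopfAlgebra.antipode R (A := A)) D.toLinearMap s) := by
    intro s t
    induction s using TensorProduct.induction_on with
    | zero => simp
    | add s s' hs hs' => simp only [add_mul, map_add, hs, hs', add_smul, smul_add]; abel
    | tmul x y =>
      induction t using TensorProduct.induction_on with
      | zero => simp
      | add t t' ht ht' => simp only [mul_add, map_add, ht, ht', add_smul, smul_add]; abel
      | tmul z w =>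
        simp only [Algebra.TensorProduct.tmul_mul_tmul, TensorProduct.map_tmul, LinearMap.rTensor_tmul, act_tmul,
          LinearMap.mul'_apply, Derivation.coeFn_coe, Derivation.leibniz, smul_add, smul_smul]
        rw [show HopfAlgebra.antipode R (x * z) = HopfAlgebra.antipode R x * HopfAlgebra.antipode R z from
          map_mul (HopfAlgebra.antipodeAlgHom R A) x z]
        congr 2 <;> ring
  have h1 : ∀ c : A, LinearMap.mul' R A ((HopfAlgebra.antipode R (A := A)).rTensor A (comul (R := R) c)) =
      algebraMap R A (counit (R := R) c) := fun c => HopfAlgebra.mul_antipode_rTensor_comul_apply c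
  simp only [sigma, LinearMap.coe_comp, Function.comp_apply, Bialgebra.comul_mul]
  rw [key, h1, h1, algebraMap_smul, algebraMap_smul]

/-- the invariant derivation, bundled -/
def tauDer {f : A →ₗ[R] M} (hf : IsCounitDer f) : Derivation R A M :=
  Derivation.mk' (tau f) fun a b => tau_mul hf a b

theorem tauDer_toLinearMap {f : A →ₗ[R] M} (hf : IsCounitDer f) : (tauDer hf).toLinearMap = tau f := rfl

section Cot

variable (R A) in
/-- the augmentation ideal -/
abbrev augIdeal : Ideal A := RingHom.ker (Bialgebra.counitAlgHom R A)

variable (R A) in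
/-- the projection to the augmentation ideal -/
def augPr : A →ₗ[R] augIdeal R A :=
  LinearMap.codRestrict ((augIdeal R A).restrictScalars R) (LinearMap.id - (Algebra.linearMap R A) ∘ₗ counit)
    (fun a => by simp [RingHom.mem_ker])

theorem augPr_coe (a : A) : (augPr R A a : A) = a - algebraMap R A (counit (R := R) a) := rfl

variable (π : A →ₗ[R] (augIdeal R A).Cotangent)
  (hπI : ∀ x : augIdeal R A, π (x : A) = (augIdeal R A).toCotangent x) (hπ1 : π 1 = 0)
include hπI hπ1

theorem pi_eq (a : A) : π a = (augIdeal R A).toCotangent (augPr R A a) := by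
  rw [← hπI, augPr_coe, map_sub, Algebra.algebraMap_eq_smul_one, map_smul, hπ1, smul_zero, sub_zero]

theorem pi_surjective : Function.Surjective π := fun c => by
  obtain ⟨x, rfl⟩ := Ideal.toCotangent_surjective _ c
  exact ⟨x, hπI x⟩

theorem isCounitDer_pi : IsCounitDer π := by
  intro a b
  rw [pi_eq π hπI hπ1, pi_eq π hπI hπ1, pi_eq π hπI hπ1, ← LinearMap.map_smul_of_tower (augIdeal R A).toCotangent,
    ← LinearMap.map_smul_of_tower (augIdeal R A).toCotangent, ← map_add, Ideal.toCotangent_eq]
  simp only [Submodule.coe_add, Submodule.coe_smul_of_tower, augPr_coe]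
  have e : a * b - algebraMap R A (counit (R := R) (a * b)) -
      (counit (R := R) a • (b - algebraMap R A (counit (R := R) b)) +
        counit (R := R) b • (a - algebraMap R A (counit (R := R) a))) =
      (a - algebraMap R A (counit (R := R) a)) * (b - algebraMap R A (counit (R := R) b)) := by
    rw [Bialgebra.counit_mul, map_mul]
    simp only [Algebra.smul_def]
    ring
  rw [e, pow_two]
  exact Ideal.mul_mem_mul (augPr R A a).2 (augPr R A b).2

theorem isCounitDer_comp {N : Type*} [AddCommGroup N] [Module R N] [Module A N] [IsScalarTower R A N]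
    (l : (augIdeal R A).Cotangent →ₗ[R] N) : IsCounitDer (l ∘ₗ π) := by
  intro a b
  simp only [LinearMap.coe_comp, Function.comp_apply]
  rw [show π (a * b) = _ from isCounitDer_pi π hπI hπ1 a b, map_add, map_smul, map_smul]

theorem exists_comp_eq {f : A →ₗ[R] M} (hf : IsCounitDer f) :
    ∃ l : (augIdeal R A).Cotangent →ₗ[R] M, l ∘ₗ π = f := by
  have h1 : f 1 = 0 := by
    have := hf 1 1
    simp only [mul_one, Bialgebra.counit_one, one_smul] at this
    exact left_eq_add.mp this
  have h2 : ∀ z ∈ (augIdeal R A) ^ 2, f z = 0 := by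
    intro z hz
    rw [pow_two] at hz
    induction hz using Submodule.mul_induction_on' with
    | mem_mul_mem x hx y hy =>
      rw [hf, show counit (R := R) x = 0 from hx, show counit (R := R) y = 0 from hy, zero_smul, zero_smul, add_zero]
    | add x _ y _ hx hy => rw [map_add, hx, hy, add_zero]
  have hker : LinearMap.ker π ≤ LinearMap.ker f := by
    intro a ha
    rw [LinearMap.mem_ker, pi_eq π hπI hπ1, Ideal.toCotangent_eq_zero] at ha
    have := h2 _ ha
    rw [augPr_coe, map_sub, Algebra.algebraMap_eq_smul_one, map_smul, h1, smul_zero, sub_zero] at this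
    exact LinearMap.mem_ker.mpr this
  refine ⟨(LinearMap.ker π).liftQ f hker ∘ₗ
    (LinearMap.quotKerEquivOfSurjective π (pi_surjective π hπI hπ1)).symm.toLinearMap, ?_⟩
  ext a
  simp only [LinearMap.coe_comp, LinearEquiv.coe_coe, Function.comp_apply]
  rw [show (LinearMap.quotKerEquivOfSurjective π (pi_surjective π hπI hπ1)).symm (π a) = Submodule.Quotient.mk a from
    (LinearEquiv.symm_apply_eq _).mpr (LinearMap.quotKerEquivOfSurjective_apply_mk π _ a).symm]
  rfl

theorem existsUnique_tau (D : Derivation R A M) :
    ∃! l : (augIdeal R A).Cotangent →ₗ[R] M, tau (l ∘ₗ π) = D.toLinearMap := by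
  obtain ⟨l, hl⟩ := exists_comp_eq π hπI hπ1 (isCounitDer_sigma D)
  refine ⟨l, (congrArg tau hl).trans (tau_sigma D.toLinearMap), fun l' hl' => ?_⟩
  refine LinearMap.cancel_right (pi_surjective π hπI hπ1) |>.mp ?_
  rw [hl, ← sigma_tau (l' ∘ₗ π), hl']

end Cot

section Etale

/-- the standard projection -/
theorem augPr_toCotangent_spec :
    (∀ x : augIdeal R A, ((augIdeal R A).toCotangent.restrictScalars R ∘ₗ augPr R A) (x : A) =
      (augIdeal R A).toCotangent x) ∧ ((augIdeal R A).toCotangent.restrictScalars R ∘ₗ augPr R A) 1 = 0 := by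
  constructor
  · intro x
    simp only [LinearMap.coe_comp, Function.comp_apply, LinearMap.coe_restrictScalars]
    refine congrArg _ (Subtype.ext ?_)
    rw [augPr_coe, show counit (R := R) (x : A) = 0 from x.2, map_zero, sub_zero]
  · simp only [LinearMap.coe_comp, Function.comp_apply, LinearMap.coe_restrictScalars]
    rw [show augPr R A 1 = 0 from Subtype.ext (by simp [augPr_coe]), map_zero]

theorem formallyUnramified_iff_sq_augIdeal :
    Algebra.FormallyUnramified R A ↔ augIdeal R A ^ 2 = augIdeal R A := by
  obtain ⟨hπI, hπ1⟩ := augPr_toCotangent_spec (R := R) (A := A)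
  rw [Algebra.formallyUnramified_iff, pow_two]
  constructor
  · intro hΩ
    refine (Ideal.cotangent_subsingleton_iff _).mp (subsingleton_of_forall_eq 0 fun c => ?_)
    obtain ⟨a, rfl⟩ := pi_surjective _ hπI hπ1 c
    have hd := isCounitDer_pi _ hπI hπ1
    have h0 : tauDer hd = 0 := by
      refine Derivation.ext fun b => ?_
      rw [← Derivation.liftKaehlerDifferential_comp_D (tauDer hd) b, Subsingleton.elim (KaehlerDifferential.D R A b) 0,
        map_zero]
      rfl
    have h1 := sigma_tau ((augIdeal R A).toCotangent.restrictScalars R ∘ₗ augPr R A)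
    rw [← tauDer_toLinearMap hd, h0] at h1
    rw [← h1]
    simp [sigma]
  · intro hI
    haveI : Subsingleton (augIdeal R A).Cotangent := (Ideal.cotangent_subsingleton_iff _).mpr hI
    refine subsingleton_of_forall_eq 0 fun ω => ?_
    have hm : ω ∈ Submodule.span A (Set.range (KaehlerDifferential.D R A)) :=
      (KaehlerDifferential.span_range_derivation R A).symm ▸ Submodule.mem_top
    have hD : ∀ a, KaehlerDifferential.D R A a = 0 := by
      intro a
      obtain ⟨l, hl, -⟩ := existsUnique_tau _ hπI hπ1 (KaehlerDifferential.D R A)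
      rw [← Derivation.coeFn_coe, ← hl, Subsingleton.elim l 0, LinearMap.zero_comp]
      simp [tau]
    induction hm using Submodule.span_induction with
    | mem z hz => obtain ⟨a, rfl⟩ := hz; exact hD a
    | zero => rfl
    | add x y _ _ hx hy => rw [hx, hy, add_zero]
    | smul c x _ hx => rw [hx, smul_zero]

theorem etale_iff_sq_augIdeal [Module.Finite R A] [Module.Projective R A] :
    Algebra.Etale R A ↔ augIdeal R A ^ 2 = augIdeal R A := by
  rw [← formallyUnramified_iff_sq_augIdeal]
  refine ⟨fun h => inferInstance, fun h => ?_⟩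
  haveI : Module.FinitePresentation R A := Module.finitePresentation_of_projective R A
  exact Algebra.Etale.of_formallyUnramified_of_flat

end Etale

end

end Groth.Agent.H20OT
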