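import Mathlib.RingTheory.Spectrum.Prime.FreeLocus
import Mathlib.RingTheory.Finiteness.Projective
import Mathlib.RingTheory.LocalProperties.Submodule
import Mathlib.LinearAlgebra.Dual.Lemmas
import Mathlib.LinearAlgebra.Dimension.FreeAndStrongRankCondition

/-!
Projective modules of rank one.
-/

set_option autoImplicit false

universe u v w

open TensorProduct

namespace Groth.Agent.H20OT

variable {R : Type u} [CommRing R] {M : Type v} [AddCommGroup M] [Module R M] [Module.Finite R M]
  [Module.Projective R M] (h1 : ∀ q : PrimeSpectrum R, Module.rankAtStalk M q = 1)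
include h1

theorem exists_span_baseChange (P : Ideal R) [P.IsPrime] :
    ∃ e : Localization.AtPrime P ⊗[R] M, ∀ z, ∃ c : Localization.AtPrime P, z = c • e := by
  haveI : Module.Free (Localization.AtPrime P) (Localization.AtPrime P ⊗[R] M) :=
    Module.free_of_flat_of_isLocalRing
  have hr : Module.finrank (Localization.AtPrime P) (Localization.AtPrime P ⊗[R] M) = 1 :=
    (Module.rankAtStalk_eq_finrank_tensorProduct (R := R) (M := M) ⟨P, inferInstance⟩).symm.trans (h1 _)
  let b := Module.finBasisOfFinrankEq (Localization.AtPrime P) (Localization.AtPrime P ⊗[R] M) hr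
  exact ⟨b 0, fun z => ⟨b.repr z 0, by conv_lhs => rw [← b.sum_repr z, Fin.sum_univ_one]⟩⟩

/-- in rank one, `f a • b = f b • a` -/
theorem rankOne_swap (f : M →ₗ[R] R) (a b : M) : f a • b = f b • a := by
  rw [← sub_eq_zero, ← Module.forall_dual_apply_eq_zero_iff R]
  intro φ
  refine Module.eq_zero_of_localization_maximal (fun P _ => Localization.AtPrime P)
    (fun P _ => Algebra.linearMap R (Localization.AtPrime P)) _ fun P hP => ?_
  obtain ⟨e, he⟩ := exists_span_baseChange h1 P
  let T := Localization.AtPrime P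
  let F : T ⊗[R] M →ₗ[T] T := LinearMap.liftBaseChange T ((Algebra.linearMap R T) ∘ₗ f)
  let Φ : T ⊗[R] M →ₗ[T] T := LinearMap.liftBaseChange T ((Algebra.linearMap R T) ∘ₗ φ)
  obtain ⟨α, hα⟩ := he (1 ⊗ₜ a)
  obtain ⟨β, hβ⟩ := he (1 ⊗ₜ b)
  have hF : ∀ x, F (1 ⊗ₜ x) = algebraMap R T (f x) := fun x => by simp [F]
  have hΦ : ∀ x, Φ (1 ⊗ₜ x) = algebraMap R T (φ x) := fun x => by simp [Φ]
  show algebraMap R T (φ (f a • b - f b • a)) = 0
  rw [map_sub, map_smul, map_smul, smul_eq_mul, smul_eq_mul, map_sub, map_mul, map_mul, ← hF, ← hF, ← hΦ, ← hΦ,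
    hα, hβ, map_smul, map_smul, map_smul, map_smul]
  simp only [smul_eq_mul]
  ring

theorem exists_dual_trace_one :
    ∃ (n : ℕ) (y : Fin n → M) (f : Fin n → M →ₗ[R] R),
      (∀ x, ∑ i, f i x • y i = x) ∧ ∑ i, f i (y i) = 1 := by
  obtain ⟨n, π, g, _, _, hfg⟩ := Module.Finite.exists_comp_eq_id_of_projective R M
  have hsum : ∀ x, ∑ i, (LinearMap.proj i ∘ₗ g) x • π (Pi.single i 1) = x := fun x => by
    conv_rhs => rw [← LinearMap.id_apply (R := R) x, ← hfg, LinearMap.comp_apply, pi_eq_sum_univ' (g x), map_sum]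
    exact Finset.sum_congr rfl fun i _ => by rw [map_smul]; rfl
  refine ⟨n, fun i => π (Pi.single i 1), fun i => LinearMap.proj i ∘ₗ g, hsum, ?_⟩
  set c := ∑ i, (LinearMap.proj i ∘ₗ g) (π (Pi.single i 1)) with hc
  have hcx : ∀ x : M, (c - 1) • x = 0 := fun x => by
    rw [sub_smul, one_smul, hc, Finset.sum_smul, sub_eq_zero]
    conv_rhs => rw [← hsum x]
    exact Finset.sum_congr rfl fun i _ => rankOne_swap h1 _ _ _
  by_contra hne
  have hann : (⊤ : Submodule R M).annihilator ≠ ⊤ := fun hA => by
    rw [Submodule.annihilator_eq_top_iff] at hA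
    have hsub : Subsingleton M := subsingleton_of_forall_eq 0 fun x => by
      have : x ∈ (⊥ : Submodule R M) := hA ▸ Submodule.mem_top
      simpa using this
    rcases subsingleton_or_nontrivial R with hR | hR
    · exact hne (Subsingleton.elim _ _)
    · obtain ⟨m, hm⟩ := Ideal.exists_maximal R
      have := h1 ⟨m, hm.isPrime⟩
      simp at this
  obtain ⟨m, hm, hle⟩ := Ideal.exists_le_maximal _ hann
  have hr := h1 ⟨m, hm.isPrime⟩
  -- trace modulo `m`
  by_cases hu : c - 1 ∈ m
  · -- localise: the annihilator is inside `m`, so `c - 1` dies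
    have : ∀ r : R, (∀ x : M, r • x = 0) → r = 0 := by
      intro r hr0
      refine Module.eq_zero_of_localization_maximal (fun P _ => Localization.AtPrime P)
        (fun P _ => Algebra.linearMap R (Localization.AtPrime P)) _ fun P hP => ?_
      haveI : Module.Free (Localization.AtPrime P) (Localization.AtPrime P ⊗[R] M) :=
        Module.free_of_flat_of_isLocalRing
      have hrP : Module.finrank (Localization.AtPrime P) (Localization.AtPrime P ⊗[R] M) = 1 :=
        (Module.rankAtStalk_eq_finrank_tensorProduct (R := R) (M := M) ⟨P, hP.isPrime⟩).symm.trans (h1 _)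
      let b := Module.finBasisOfFinrankEq (Localization.AtPrime P) (Localization.AtPrime P ⊗[R] M) hrP
      have hz : algebraMap R (Localization.AtPrime P) r • b 0 = 0 := by
        rw [algebraMap_smul]
        induction b 0 using TensorProduct.induction_on with
        | zero => simp
        | tmul t x => rw [← TensorProduct.tmul_smul, hr0, TensorProduct.tmul_zero]
        | add s t hs ht => rw [smul_add, hs, ht, add_zero]
      have := congrArg (fun z => b.repr z 0) hz
      simp only [map_smul, Finsupp.smul_apply, Module.Basis.repr_self, Finsupp.single_eq_same, smul_eq_mul, mul_one,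
        map_zero, Finsupp.zero_apply] at this
      exact this
    exact hne (sub_eq_zero.mp (this _ hcx))
  · exact hu (hle (Submodule.mem_annihilator.mpr fun x _ => hcx x))

theorem eq_zero_of_smul_eq_zero {r : R} (hr : ∀ x : M, r • x = 0) : r = 0 := by
  obtain ⟨n, y, f, _, htr⟩ := exists_dual_trace_one h1
  rw [← mul_one r, ← htr, Finset.mul_sum]
  exact Finset.sum_eq_zero fun i _ => by rw [← smul_eq_mul, ← map_smul, hr, map_zero]

theorem exists_scalar (g : M →ₗ[R] M) : ∃ c : R, ∀ x, g x = c • x := by
  obtain ⟨n, y, f, hsum, _⟩ := exists_dual_trace_one h1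
  refine ⟨∑ i, f i (g (y i)), fun x => ?_⟩
  rw [Finset.sum_smul]
  conv_lhs => rw [← hsum (g x)]
  exact Finset.sum_congr rfl fun i _ => rankOne_swap h1 (f i ∘ₗ g) x (y i)

omit h1 in
theorem bijective_of_surjective {N : Type w} [AddCommGroup N] [Module R N] [Module.Finite R N]
    [Module.Projective R N] (g : M →ₗ[R] N) (hg : Function.Surjective g)
    (hr : ∀ q : PrimeSpectrum R, Module.rankAtStalk M q = Module.rankAtStalk N q) : Function.Bijective g := by
  refine ⟨?_, hg⟩
  obtain ⟨s, hs⟩ := Module.projective_lifting_property g LinearMap.id hg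
  let e : M ≃ₗ[R] (LinearMap.ker g) × N := LinearEquiv.ofBijective
    (LinearMap.prod ((LinearMap.id - s ∘ₗ g).codRestrict (LinearMap.ker g) fun x => by
      simp [show g (s (g x)) = g x from LinearMap.congr_fun hs (g x)]) g)
    ⟨fun a b hab => by
      obtain ⟨h1, h2⟩ := Prod.mk.inj hab
      have h1' := congrArg Subtype.val h1
      simpa [h2] using h1', fun z => ⟨(z.1 : M) + s z.2, Prod.ext (Subtype.ext (by
        simp [show g (s z.2) = z.2 from LinearMap.congr_fun hs z.2, LinearMap.mem_ker.mp z.1.2]))
        (by simp [show g (s z.2) = z.2 from LinearMap.congr_fun hs z.2, LinearMap.mem_ker.mp z.1.2])⟩⟩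
  haveI : Module.Finite R (LinearMap.ker g) :=
    Module.Finite.of_surjective ((LinearMap.fst R _ _) ∘ₗ e.toLinearMap) (Prod.fst_surjective.comp e.surjective)
  haveI : Module.Projective R (LinearMap.ker g) :=
    Module.Projective.of_split (LinearMap.ker g).subtype ((LinearMap.fst R _ _) ∘ₗ e.toLinearMap)
      (LinearMap.ext fun x => Subtype.ext (show (x : M) - s (g (x : M)) = x by rw [LinearMap.mem_ker.mp x.2, map_zero, sub_zero]))
  have h0 : Module.rankAtStalk (R := R) (LinearMap.ker g) = 0 := funext fun q => by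
    have h := congrFun (Module.rankAtStalk_eq_of_equiv e) q
    rw [Module.rankAtStalk_prod, Pi.add_apply, hr] at h
    simpa using h
  haveI := Module.rankAtStalk_eq_zero_iff_subsingleton.mp h0
  rw [← LinearMap.ker_eq_bot]
  exact Submodule.eq_bot_of_subsingleton

end Groth.Agent.H20OT
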