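import Groth.Agent.H20OT.Eigen
import Groth.Agent.H20OT.RankOne
import Groth.Prelude.Def_CartDual
import Mathlib.RingTheory.Bialgebra.MonoidAlgebra

/-!
Cartier duality and the eigen decomposition: restriction, canonical element, the pairing.
-/

set_option autoImplicit false

universe u

open TensorProduct WithConv Coalgebra OortTate

namespace Groth.Agent.H20OT

noncomputable section

theorem algHom_pow {R B C : Type*} [CommSemiring R] [Semiring B] [Semiring C] [Algebra R B] [Algebra R C]
    (f : B →ₐ[R] C) (x : B) (n : ℕ) : f (x ^ n) = f x ^ n := map_pow f x n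

theorem algHom_map_sum_smul_sub {R B C : Type*} [CommRing R] [Ring B] [Ring C] [Algebra R B] [Algebra R C]
    (f : B →ₐ[R] C) {ι : Type*} (s : Finset ι) (u : R) (c : ι → R) (g : ι → B) :
    f (u • ∑ i ∈ s, c i • (g i - 1)) = u • ∑ i ∈ s, c i • (f (g i) - 1) := by
  simp only [map_smul, map_sum, map_sub, map_one]

section DualPow

variable {R : Type u} [CommRing R] {A : Type u} [CommRing A] [HopfAlgebra R A] [Coalgebra.IsCocomm R A]
  [Module.Finite R A] [Module.Projective R A]

theorem powConv_succ_apply {B : Type u} [CommRing B] [HopfAlgebra R B] (n : ℕ) {b : B} {ι : Type*}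
    (r : Coalgebra.Repr R b ι) :
    SGA3b.powConv R B (n + 1) b = ∑ i ∈ r.index, SGA3b.powConv R B n (r.left i) * r.right i := by
  rw [show SGA3b.powConv R B (n + 1) = (toConv (AlgHom.id R B) ^ n * toConv (AlgHom.id R B)).ofConv from
    congrArg WithConv.ofConv (pow_succ _ _)]
  exact r.convMul_apply (toConv (SGA3b.powConv R B n).toLinearMap) (toConv LinearMap.id)

theorem powConv_dual_apply (n : ℕ) : ∀ (f : CartDual.D R A) (a : A),
    (SGA3b.powConv R (CartDual.D R A) n f).ofConv a = f.ofConv (SGA3b.powConv R A n a) := by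
  induction n with
  | zero =>
    intro f a
    show (algebraMap R (CartDual.D R A) (counit (R := R) f)).ofConv a = f.ofConv (algebraMap R A (counit (R := R) a))
    rw [Algebra.algebraMap_eq_smul_one, Algebra.algebraMap_eq_smul_one, map_smul, WithConv.ofConv_smul,
      LinearMap.smul_apply, CartDual.coalgebra_counit_apply]
    show f.ofConv 1 * algebraMap R R (counit (R := R) a) = counit (R := R) a * f.ofConv 1
    rw [Algebra.algebraMap_self, RingHom.id_apply, mul_comm]
  | succ n ih =>
    intro f a
    rw [powConv_succ_apply n (ℛ R f), powConv_succ_apply n (ℛ R a), map_sum, WithConv.ofConv_sum,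
      LinearMap.sum_apply]
    calc ∑ i ∈ (ℛ R f).index, (SGA3b.powConv R (CartDual.D R A) n ((ℛ R f).left i) * (ℛ R f).right i).ofConv a
        = ∑ i ∈ (ℛ R f).index, ∑ j ∈ (ℛ R a).index,
            CartDual.ev₂ R A ((ℛ R f).left i ⊗ₜ[R] (ℛ R f).right i)
              (SGA3b.powConv R A n ((ℛ R a).left j) ⊗ₜ[R] (ℛ R a).right j) := by
          refine Finset.sum_congr rfl fun i _ => ?_
          refine ((ℛ R a).convMul_apply _ _).trans (Finset.sum_congr rfl fun j _ => ?_)
          rw [CartDual.ev₂_tmul]
          exact congrArg (· * _) (ih _ _)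
      _ = ∑ j ∈ (ℛ R a).index, f.ofConv (SGA3b.powConv R A n ((ℛ R a).left j) * (ℛ R a).right j) := by
          rw [Finset.sum_comm]
          refine Finset.sum_congr rfl fun j _ => ?_
          rw [← LinearMap.sum_apply, ← map_sum, (ℛ R f).eq]
          exact CartDual.ev₂_coalgebra_comul_tmul R A f _ _

theorem counit_dual (f : CartDual.D R A) : counit (R := R) f = f.ofConv 1 := rfl

variable {p : ℕ} [Fact p.Prime] {χ : (ZMod p)ˣ →* Rˣ} {u : R}

theorem proj_dual_apply (i : ℕ) (f : CartDual.D R A) (a : A) :
    (proj R (CartDual.D R A) p u χ i f).ofConv a = f.ofConv (proj R A p u χ i a) := by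
  simp only [proj, LinearMap.smul_apply, LinearMap.sum_apply, AlgHom.toLinearMap_apply, WithConv.ofConv_smul,
    WithConv.ofConv_sum, powConv_dual_apply, map_smul, map_sum, smul_eq_mul]

theorem mem_eigenAug_dual {i : ℕ} {f : CartDual.D R A} :
    f ∈ eigenAug R (CartDual.D R A) p χ i ↔ f.ofConv 1 = 0 ∧
      ∀ (m : (ZMod p)ˣ) (a : A), f.ofConv (SGA3b.powConv R A (m : ZMod p).val a) = (χ m : R) ^ i * f.ofConv a := by
  rw [mem_eigenAug, counit_dual]
  refine and_congr_right fun _ => forall_congr' fun m => ⟨fun h a => ?_, fun h => ?_⟩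
  · rw [← powConv_dual_apply, h, WithConv.ofConv_smul, LinearMap.smul_apply, smul_eq_mul]
  · refine WithConv.ofConv_injective (LinearMap.ext fun a => ?_)
    rw [powConv_dual_apply, h, WithConv.ofConv_smul, LinearMap.smul_apply, smul_eq_mul]

section Kill

variable (hp : toConv (AlgHom.id R A) ^ p = 1) (hu : u * ((p - 1 : ℕ) : R) = 1)
  (hχ : ∀ m : (ZMod p)ˣ, m ≠ 1 → IsUnit ((χ m : R) - 1))
include hp hu hχ

omit hp in
/-- a dual eigenvector factors through the projection -/
theorem dual_apply_proj {i : ℕ} {f : CartDual.D R A} (hf : f ∈ eigenAug R (CartDual.D R A) p χ i) (a : A) :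
    f.ofConv (proj R A p u χ i (augProj R A a)) = f.ofConv a := by
  rw [← proj_dual_apply, proj_of_mem hu hχ hf, if_pos rfl, augProj_apply, map_sub, Algebra.algebraMap_eq_smul_one,
    map_smul, (mem_eigenAug_dual.mp hf).1, smul_zero, sub_zero]

omit hu hχ [Module.Finite R A] [Module.Projective R A] [Coalgebra.IsCocomm R A] in
theorem retract_powConv (i : ℕ) (m : (ZMod p)ˣ) (a : A) :
    retract R A hp (χ := χ) u i (SGA3b.powConv R A (m : ZMod p).val a) = ((χ m : R) ^ i) • retract R A hp (χ := χ) u i a := by
  refine Subtype.ext ?_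
  show proj R A p u χ i (augProj R A _) = (χ m : R) ^ i • proj R A p u χ i (augProj R A a)
  rw [← powConv_proj hp, augProj_apply, augProj_apply, counit_powConv]
  simp only [proj, LinearMap.smul_apply, LinearMap.sum_apply, AlgHom.toLinearMap_apply, map_smul, map_sum, map_sub,
    AlgHom.commutes, powConv_units_mul hp, mul_comm m]

/-- the extension by zero of a functional on an eigen submodule -/
def extDual (u : R) (i : ℕ) (g : eigenAug R A p χ i →ₗ[R] R) : CartDual.D R A :=
  toConv (g ∘ₗ retract R A hp (χ := χ) u i)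

omit hu hχ in
theorem extDual_mem (i : ℕ) (g : eigenAug R A p χ i →ₗ[R] R) :
    extDual hp u i g ∈ eigenAug R (CartDual.D R A) p χ i := by
  refine mem_eigenAug_dual.mpr ⟨?_, fun m a => ?_⟩
  · show g (retract R A hp (χ := χ) u i 1) = 0
    have : retract R A hp (χ := χ) u i (1 : A) = 0 := Subtype.ext (by
      show proj R A p u χ i (augProj R A 1) = 0
      rw [augProj_apply, Bialgebra.counit_one, map_one, sub_self, map_zero])
    rw [this, map_zero]
  · show g (retract R A hp (χ := χ) u i _) = _ * g (retract R A hp (χ := χ) u i a)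
    rw [retract_powConv hp, map_smul, smul_eq_mul]

theorem extDual_apply (i : ℕ) (g : eigenAug R A p χ i →ₗ[R] R) (x : eigenAug R A p χ i) :
    (extDual hp u i g).ofConv (x : A) = g x := by
  show g (retract R A hp (χ := χ) u i (x : A)) = g x
  rw [retract_coe hp hu hχ]

theorem dual_restrict_bijective (i : ℕ) :
    Function.Bijective (fun f : eigenAug R (CartDual.D R A) p χ i =>
      ((CartDual.toDual R A) (f : CartDual.D R A)).comp (eigenAug R A p χ i).subtype) := by
  refine ⟨fun f g h => Subtype.ext (WithConv.ofConv_injective (LinearMap.ext fun a => ?_)),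
    fun g => ⟨⟨extDual hp u i g, extDual_mem hp i g⟩, LinearMap.ext fun x => extDual_apply hp hu hχ i g x⟩⟩
  rw [← dual_apply_proj hu hχ f.2 a, ← dual_apply_proj hu hχ g.2 a]
  exact LinearMap.congr_fun h ⟨_, proj_mem hp i (counit_augProj a)⟩

end Kill

variable (R A) in
/-- `A ⊗ D → End A` -/
def toEnd : A ⊗[R] CartDual.D R A →ₐ[R] WithConv (A →ₗ[R] A) :=
  Algebra.TensorProduct.lift
    { toFun := fun a => toConv ((LinearMap.toSpanSingleton R A a) ∘ₗ Coalgebra.counit)
      map_one' := WithConv.ofConv_injective (LinearMap.ext fun b => by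
        simp [LinearMap.convOne_def, Algebra.algebraMap_eq_smul_one])
      map_mul' := fun a a' => WithConv.ofConv_injective (LinearMap.ext fun b => by
        rw [(ℛ R b).convMul_apply]
        show counit (R := R) b • (a * a') = ∑ i ∈ (ℛ R b).index,
          (counit (R := R) ((ℛ R b).left i) • a) * (counit (R := R) ((ℛ R b).right i) • a')
        simp only [smul_mul_smul_comm, ← Finset.sum_smul]
        congr 1
        conv_lhs => rw [← Coalgebra.sum_counit_smul (ℛ R b), map_sum]
        exact Finset.sum_congr rfl fun i _ => by rw [map_smul, smul_eq_mul])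
      map_zero' := WithConv.ofConv_injective (LinearMap.ext fun b => by simp)
      map_add' := fun a a' => WithConv.ofConv_injective (LinearMap.ext fun b => by simp [smul_add])
      commutes' := fun r => WithConv.ofConv_injective (LinearMap.ext fun b => by
        show counit (R := R) b • algebraMap R A r = r • algebraMap R A (counit (R := R) b)
        rw [Algebra.algebraMap_eq_smul_one, Algebra.algebraMap_eq_smul_one, smul_smul, smul_smul, mul_comm]) }
    { push (Algebra.ofId R A) with
      commutes' := fun r => WithConv.ofConv_injective (LinearMap.ext fun b => by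
        show algebraMap R A (r • algebraMap R R (counit (R := R) b)) = r • algebraMap R A (counit (R := R) b)
        rw [Algebra.smul_def, map_mul, Algebra.smul_def]
        rfl) }
    fun _ _ => .all _ _

theorem toEnd_tmul_apply (a : A) (f : CartDual.D R A) (b : A) :
    (toEnd R A (a ⊗ₜ[R] f)).ofConv b = f.ofConv b • a := by
  refine (congrArg (fun g : WithConv (A →ₗ[R] A) => g.ofConv b) (Algebra.TensorProduct.lift_tmul _ _ _ a f)).trans ?_
  refine ((ℛ R b).convMul_apply _ _).trans ?_
  show ∑ i ∈ (ℛ R b).index, (counit (R := R) ((ℛ R b).left i) • a) * algebraMap R A (f.ofConv ((ℛ R b).right i)) = _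
  simp only [Algebra.algebraMap_eq_smul_one, smul_mul_smul_comm, mul_one, ← Finset.sum_smul]
  congr 1
  conv_rhs => rw [← Coalgebra.sum_counit_smul (ℛ R b), map_sum]
  exact Finset.sum_congr rfl fun i _ => by rw [map_smul, smul_eq_mul]

theorem toEnd_apply (t : A ⊗[R] CartDual.D R A) (b : A) :
    (toEnd R A t).ofConv b = TensorProduct.rid R A
      (LinearMap.lTensor A ((Module.Dual.eval R A b) ∘ₗ (CartDual.toDual R A).toLinearMap) t) := by
  induction t using TensorProduct.induction_on with
  | zero => simp
  | tmul a f => rw [toEnd_tmul_apply]; simp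
  | add s t hs ht => simp only [map_add, WithConv.ofConv_add, LinearMap.add_apply, hs, ht]

theorem toEnd_injective : Function.Injective (toEnd R A) := by
  obtain ⟨n, a, φ, hb⟩ := exists_dual_basis (R := R) (A := A)
  have hinv : ∀ t : A ⊗[R] CartDual.D R A, ∑ i, (toEnd R A t).ofConv (a i) ⊗ₜ[R] (toConv (φ i) : CartDual.D R A) = t := by
    intro t
    induction t using TensorProduct.induction_on with
    | zero => simp
    | add s t hs ht => simp only [map_add, WithConv.ofConv_add, LinearMap.add_apply, add_tmul, Finset.sum_add_distrib, hs, ht]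
    | tmul c f =>
      simp only [toEnd_tmul_apply, TensorProduct.smul_tmul, ← tmul_sum]
      congr 1
      refine WithConv.ofConv_injective (LinearMap.ext fun x => ?_)
      conv_rhs => rw [← hb x, map_sum]
      simp [mul_comm]
  exact fun s t h => by rw [← hinv s, ← hinv t, h]

variable {δ : A ⊗[R] CartDual.D R A}
  (hδ : ∀ a : A, TensorProduct.rid R A
    (LinearMap.lTensor A ((Module.Dual.eval R A a) ∘ₗ (CartDual.toDual R A).toLinearMap) δ) = a)
  {ϕ : MonoidAlgebra R (Multiplicative (ZMod p)) →ₐ[R] A ⊗[R] CartDual.D R A}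
  (hϕ : ϕ (OortTate.muT R p) = δ)
include hδ hϕ

theorem toEnd_pairing_pow (n : ℕ) :
    toEnd R A (ϕ (OortTate.muT R p ^ n)) = toConv (SGA3b.powConv R A n).toLinearMap := by
  have h1 : toEnd R A δ = toConv (LinearMap.id : A →ₗ[R] A) :=
    WithConv.ofConv_injective (LinearMap.ext fun a => by rw [toEnd_apply, hδ]; rfl)
  rw [algHom_pow ϕ, algHom_pow (toEnd R A), hϕ, h1]
  exact (AlgHom.toLinearMap_convPow (toConv (AlgHom.id R A)) n).symm

omit hδ hϕ in
theorem powConv_groupLike {B : Type u} [CommRing B] [HopfAlgebra R B] {g : B}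
    (hg : IsGroupLikeElem R g) (n : ℕ) : SGA3b.powConv R B n g = g ^ n := by
  induction n with
  | zero =>
    show algebraMap R B (counit (R := R) g) = g ^ 0
    rw [hg.counit_eq_one, map_one, pow_zero]
  | succ n ih =>
    rw [powConv_succ_apply n (ι := Unit) (b := g) ⟨{()}, fun _ => g, fun _ => g, by simp [hg.comul_eq_tmul_self]⟩]
    simp [ih, pow_succ]

/-- the averaged generator maps to the projection -/
theorem toEnd_pairing_ygen (i : ℕ) (b : A) :
    (toEnd R A (ϕ (OortTate.ygen R p u χ i))).ofConv b = proj R A p u χ i (augProj R A b) := by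
  have hg : IsGroupLikeElem R (OortTate.muT R p) :=
    MonoidAlgebra.isGroupLikeElem_single_one _
  have h1 : OortTate.ygen R p u χ i =
      u • ∑ m : (ZMod p)ˣ, ((χ m⁻¹ : R) ^ i) • (OortTate.muT R p ^ (m : ZMod p).val - 1) := by
    simp only [OortTate.ygen, proj, LinearMap.smul_apply, LinearMap.sum_apply, AlgHom.toLinearMap_apply, map_sub,
      map_one, powConv_groupLike hg, smul_sub, Finset.sum_sub_distrib]
  rw [h1]
  refine (congrArg (fun t => (toEnd R A t).ofConv b) (algHom_map_sum_smul_sub ϕ _ u _ _)).trans ?_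
  refine (congrArg (fun t : WithConv (A →ₗ[R] A) => t.ofConv b)
    (algHom_map_sum_smul_sub (B := A ⊗[R] CartDual.D R A) (C := WithConv (A →ₗ[R] A)) (toEnd R A) _ u _ _)).trans ?_
  simp only [toEnd_pairing_pow hδ hϕ, proj, LinearMap.smul_apply, LinearMap.sum_apply, AlgHom.toLinearMap_apply,
    WithConv.ofConv_smul, WithConv.ofConv_sum, WithConv.ofConv_sub, LinearMap.sub_apply, augProj_apply, map_sub,
    AlgHom.commutes, smul_sub, Finset.sum_sub_distrib]
  rfl

end DualPow

end

end Groth.Agent.H20OT
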