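import Groth.Prelude.Def_SGA3b
import Groth.Prelude.Def_CartDual
import Groth.Agent.H20Comod.Deligne
import Mathlib.RingTheory.Ideal.Operations
import Mathlib.FieldTheory.Finite.Basic
import Mathlib.LinearAlgebra.Dimension.OrzechProperty
import Mathlib.RingTheory.HopfAlgebra.Convolution
import Mathlib.RingTheory.Bialgebra.Convolution
import Mathlib.FieldTheory.IsAlgClosed.Basic
import Mathlib.FieldTheory.Fixed
import Mathlib.LinearAlgebra.Trace
import Mathlib.LinearAlgebra.FiniteDimensional.Lemmas
import Mathlib.Data.Nat.Prime.Factorial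
import Mathlib.Algebra.CharP.Algebra
import Mathlib.RingTheory.Artinian.Ring
import Mathlib.GroupTheory.OrderOfElement
import Mathlib.Algebra.Polynomial.Roots
import Mathlib.Algebra.Polynomial.AlgebraMap
import Mathlib.LinearAlgebra.Dual.Lemmas
import Mathlib.Data.ZMod.Basic
import Mathlib.RingTheory.Derivation.Basic
import Mathlib.Algebra.Polynomial.RingDivision

/-!
Commutative Hopf algebras of prime dimension over an algebraically closed field: the dual algebra is
monogenic, and for a character of the units of `ℤ/p` there is an eigen generator.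
-/

set_option autoImplicit false

universe u v

open TensorProduct WithConv Coalgebra

namespace Groth.Agent.H20OT

noncomputable section

/-- A finite projective bialgebra with commutative dual algebra is cocommutative. -/
theorem isCocomm_of_dual_comm {R : Type u} [CommRing R] {A : Type v} [CommRing A] [Bialgebra R A]
    [Module.Finite R A] [Module.Projective R A] (h : ∀ f g : CartDual.D R A, f * g = g * f) :
    Coalgebra.IsCocomm R A := by
  constructor
  refine LinearMap.ext fun a => ?_
  refine sub_eq_zero.mp ((Module.forall_dual_apply_eq_zero_iff R _).mp fun φ => ?_)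
  obtain ⟨y, rfl⟩ := (CartDual.ev₂ R A).surjective φ
  rw [map_sub, sub_eq_zero, LinearMap.coe_comp, Function.comp_apply, LinearEquiv.coe_coe]
  have hcm : ∀ t : A ⊗[R] A, CartDual.ev₂ R A y (TensorProduct.comm R A A t) =
      CartDual.ev₂ R A (TensorProduct.comm R _ _ y) t := by
    intro t
    induction t using TensorProduct.induction_on with
    | zero => simp
    | tmul b c => rw [TensorProduct.comm_tmul, CartDual.ev₂_comm]
    | add b c hb hc => simp only [map_add, hb, hc]
  rw [hcm]
  clear hcm
  induction y using TensorProduct.induction_on with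
  | zero => simp
  | add y z hy hz => simp only [map_add, LinearMap.add_apply, hy, hz]
  | tmul f g =>
    rw [TensorProduct.comm_tmul, CartDual.ev₂_tmul_eq', CartDual.ev₂_tmul_eq']
    exact LinearMap.congr_fun (congrArg WithConv.ofConv (h g f)) a

variable {k : Type u} [Field k] {A : Type v} [CommRing A] [HopfAlgebra k A]


/-- The augmentation ideal. -/
abbrev aug (k : Type u) [Field k] (A : Type v) [CommRing A] [HopfAlgebra k A] : Ideal A :=
  RingHom.ker (Bialgebra.counitAlgHom k A)

/-- A point derivation at the identity. -/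
def IsPointDer (δ : A →ₗ[k] k) : Prop :=
  ∀ a b, δ (a * b) = δ a * counit (R := k) b + counit (R := k) a * δ b

section Der

variable {δ : A →ₗ[k] k} (hδ : IsPointDer δ)

theorem pointDer_one (hδ : IsPointDer δ) : δ 1 = 0 := by
  have h := hδ 1 1
  rw [one_mul, Bialgebra.counit_one, mul_one, one_mul] at h
  simpa using h

theorem pointDer_algebraMap (hδ : IsPointDer δ) (c : k) : δ (algebraMap k A c) = 0 := by
  rw [Algebra.algebraMap_eq_smul_one, map_smul, pointDer_one hδ, smul_zero]

/-- left-invariant operator of a functional -/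
def invOp (δ : A →ₗ[k] k) : A →ₗ[k] A :=
  (TensorProduct.rid k A).toLinearMap ∘ₗ δ.lTensor A ∘ₗ Coalgebra.comul

theorem invOp_apply (δ : A →ₗ[k] k) (a : A) :
    invOp δ a = TensorProduct.rid k A (δ.lTensor A (Coalgebra.comul (R := k) a)) := rfl

theorem counit_invOp (δ : A →ₗ[k] k) (a : A) : counit (R := k) (invOp δ a) = δ a := by
  rw [invOp_apply, ← (ℛ k a).eq]
  simp only [map_sum, LinearMap.lTensor_tmul, TensorProduct.rid_tmul, map_smul, smul_eq_mul]
  conv_rhs => rw [← Coalgebra.sum_counit_smul (ℛ k a)]
  simp [mul_comm]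

theorem invOp_mul (hδ : IsPointDer δ) (a b : A) : invOp δ (a * b) = a * invOp δ b + b * invOp δ a := by
  let L : A ⊗[k] A →ₗ[k] A := (TensorProduct.rid k A).toLinearMap ∘ₗ δ.lTensor A
  let M : A ⊗[k] A →ₗ[k] A :=
    (TensorProduct.rid k A).toLinearMap ∘ₗ (Coalgebra.counit (R := k) (A := A)).lTensor A
  have hLM : ∀ s t : A ⊗[k] A, L (s * t) = M s * L t + M t * L s := by
    intro s t
    induction s using TensorProduct.induction_on with
    | zero => simp
    | add x y hx hy => rw [add_mul, map_add, hx, hy, map_add, map_add]; ring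
    | tmul p q =>
      induction t using TensorProduct.induction_on with
      | zero => simp
      | add x y hx hy => rw [mul_add, map_add, hx, hy, map_add, map_add]; ring
      | tmul p' q' =>
        simp only [L, M, LinearMap.coe_comp, LinearEquiv.coe_coe, Function.comp_apply,
          Algebra.TensorProduct.tmul_mul_tmul, LinearMap.lTensor_tmul, TensorProduct.rid_tmul, hδ q q',
          Algebra.smul_def, map_add, map_mul]
        ring
  have hM : ∀ c : A, M (Coalgebra.comul (R := k) c) = c := fun c => by
    show TensorProduct.rid k A (_) = c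
    rw [Coalgebra.lTensor_counit_comul, TensorProduct.rid_tmul, one_smul]
  show L (Coalgebra.comul (R := k) (a * b)) = _
  rw [Bialgebra.comul_mul, hLM, hM, hM]
  rfl

/-- the derivation -/
def invDer (hδ : IsPointDer δ) : Derivation k A A :=
  Derivation.mk' (invOp δ) fun a b => by rw [invOp_mul hδ, smul_eq_mul, smul_eq_mul]

theorem invDer_apply (hδ : IsPointDer δ) (a : A) : invDer hδ a = invOp δ a := rfl

theorem der_mem_pow (D : Derivation k A A) {I : Ideal A} :
    ∀ (n : ℕ) {f : A}, f ∈ I ^ (n + 1) → D f ∈ I ^ n := by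
  intro n
  induction n with
  | zero => intro f _; simp
  | succ n ih =>
    intro f hf
    rw [pow_succ] at hf
    refine Submodule.mul_induction_on hf (fun r hr s hs => ?_) (fun x y hx hy => by rw [map_add]; exact add_mem hx hy)
    rw [Derivation.leibniz, smul_eq_mul, smul_eq_mul]
    exact add_mem (Ideal.mul_mem_right _ _ hr) (by rw [mul_comm, pow_succ]; exact Ideal.mul_mem_mul (ih hr) hs)

theorem der_iterate_mem_pow (D : Derivation k A A) {I : Ideal A} :
    ∀ (n m : ℕ) {f : A}, f ∈ I ^ (n + m) → (D : A → A)^[n] f ∈ I ^ m := by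
  intro n
  induction n with
  | zero => intro m f hf; simpa using hf
  | succ n ih =>
    intro m f hf
    rw [Function.iterate_succ_apply]
    exact ih m (der_mem_pow D (n + m) (by rwa [show n + m + 1 = n + 1 + m by omega]))

variable {x : A} (hx : counit (R := k) x = 0) (hxδ : δ x = 1)
include hδ hx hxδ

theorem iterate_pow_sub_mem :
    ∀ j : ℕ, (invDer hδ : A → A)^[j] (x ^ j) - algebraMap k A (j.factorial : k) ∈ aug k A := by
  have hD : invDer hδ x - 1 ∈ aug k A := by
    rw [RingHom.mem_ker, map_sub, map_one, Bialgebra.counitAlgHom_apply, invDer_apply, counit_invOp,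
      hxδ, sub_self]
  have hxm : x ∈ aug k A := by rwa [RingHom.mem_ker, Bialgebra.counitAlgHom_apply]
  intro j
  induction j with
  | zero => simp
  | succ j ih =>
    rw [Function.iterate_succ_apply, Derivation.leibniz_pow, add_tsub_cancel_right, smul_eq_mul]
    have hstep : x ^ j * invDer hδ x - x ^ j ∈ aug k A ^ (j + 1) := by
      rw [show x ^ j * invDer hδ x - x ^ j = x ^ j * (invDer hδ x - 1) by ring, pow_succ]
      exact Ideal.mul_mem_mul (Ideal.pow_mem_pow hxm j) hD
    have h2 : (j + 1) • (x ^ j * invDer hδ x) - (j + 1) • x ^ j ∈ aug k A ^ (j + 1) := by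
      rw [← smul_sub, nsmul_eq_mul]
      exact Ideal.mul_mem_left _ _ hstep
    have h3 := der_iterate_mem_pow (invDer hδ) j 1 h2
    rw [pow_one, iterate_map_sub, iterate_map_nsmul, iterate_map_nsmul] at h3
    have h4 : (j + 1) • (invDer hδ : A → A)^[j] (x ^ j) - algebraMap k A ((j + 1).factorial : k) ∈ aug k A := by
      rw [Nat.factorial_succ, Nat.cast_mul, map_mul, map_natCast, nsmul_eq_mul, ← mul_sub]
      exact Ideal.mul_mem_left _ _ ih
    have h5 := add_mem h3 h4
    rw [sub_add_sub_cancel] at h5
    rwa [iterate_map_nsmul]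

theorem iterate_mem_of_lt {i j : ℕ} (h : i < j) (a : A) : (invDer hδ : A → A)^[i] (x ^ j * a) ∈ aug k A := by
  have hxm : x ∈ aug k A := by rwa [RingHom.mem_ker, Bialgebra.counitAlgHom_apply]
  have := der_iterate_mem_pow (invDer hδ) (I := aug k A) i (j - i) (f := x ^ j * a)
    (by rw [show i + (j - i) = j by omega]; exact Ideal.mul_mem_right a _ (Ideal.pow_mem_pow hxm j))
  exact Ideal.pow_le_self (by omega) this

end Der

section Prime

variable {p : ℕ} [hp : Fact p.Prime]

open scoped Classical in
/-- In prime dimension, a point derivation with `δ x = 1`, `ε x = 0` forces `A = k[x]/(x^p)` in characteristic `p`. -/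
theorem pow_spans [CharP k p] (hA : Module.finrank k A = p) {δ : A →ₗ[k] k} (hδ : IsPointDer δ) {x : A}
    (hx : counit (R := k) x = 0) (hxδ : δ x = 1) :
    Submodule.span k (Set.range fun i : Fin p => x ^ (i : ℕ)) = ⊤ := by
  haveI : Module.Finite k A := Module.finite_of_finrank_eq_succ (n := p - 1)
    (by rw [hA]; have := hp.out.pos; omega)
  refine LinearIndependent.span_eq_top_of_card_eq_finrank
    (linearIndependent_iff'.mpr fun s c hc j hj => ?_) (by rw [Fintype.card_fin, hA])
  by_contra hne
  obtain ⟨i, hi, hmin⟩ := Finset.exists_min_image (s.filter fun i => c i ≠ 0) id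
    ⟨j, Finset.mem_filter.mpr ⟨hj, hne⟩⟩
  obtain ⟨his, hci⟩ := Finset.mem_filter.mp hi
  have h := congrArg (fun f => counit (R := k) ((invDer hδ : A → A)^[(i : ℕ)] f)) hc
  simp only [← Derivation.coeFn_coe, ← Module.End.pow_apply, map_sum, map_smul, map_zero, smul_eq_mul] at h
  rw [Finset.sum_eq_single i] at h
  · have hmem := iterate_pow_sub_mem hδ hx hxδ (i : ℕ)
    rw [RingHom.mem_ker, map_sub, AlgHom.commutes, Bialgebra.counitAlgHom_apply, sub_eq_zero,
      Algebra.algebraMap_self, RingHom.id_apply] at hmem
    rw [Module.End.pow_apply] at h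
    rw [show (invDer hδ : A →ₗ[k] A) = (invDer hδ).toLinearMap from rfl] at h
    have h' : c i * ((i : ℕ).factorial : k) = 0 := by rw [← hmem]; exact h
    refine hci ((mul_eq_zero.mp h').resolve_right ?_)
    intro h0
    rw [CharP.cast_eq_zero_iff k p, hp.out.dvd_factorial] at h0
    exact not_le.mpr i.2 h0
  · intro b hb hbi
    by_cases hcb : c b = 0
    · rw [hcb, zero_mul]
    have hlt : (i : ℕ) < b := lt_of_le_of_ne (hmin b (Finset.mem_filter.mpr ⟨hb, hcb⟩)) fun h =>
      hbi (Fin.ext h.symm)
    have := iterate_mem_of_lt hδ hx hxδ hlt 1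
    rw [mul_one, RingHom.mem_ker, Bialgebra.counitAlgHom_apply] at this
    rw [Module.End.pow_apply]
    exact mul_eq_zero_of_right _ this
  · intro h'; exact absurd his h'

theorem pow_char_eq_zero [CharP k p] (hA : Module.finrank k A = p) {δ : A →ₗ[k] k} (hδ : IsPointDer δ) {x : A}
    (hx : counit (R := k) x = 0) (hxδ : δ x = 1) : x ^ p = 0 := by
  have hsp := pow_spans hA hδ hx hxδ
  haveI : Module.Finite k A := Module.finite_of_finrank_eq_succ (n := p - 1)
    (by rw [hA]; have := hp.out.pos; omega)
  have hli : LinearIndependent k fun i : Fin p => x ^ (i : ℕ) :=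
    linearIndependent_of_top_le_span_of_card_eq_finrank hsp.ge (by rw [Fintype.card_fin, hA])
  obtain ⟨c, hc⟩ := (Submodule.mem_span_range_iff_exists_fun k).mp (hsp.ge (Submodule.mem_top : x ^ p ∈ ⊤))
  suffices hzero : ∀ n : ℕ, ∀ i : Fin p, (i : ℕ) = n → c i = 0 by
    rw [← hc]; exact Finset.sum_eq_zero fun i _ => by rw [hzero _ i rfl, zero_smul]
  intro n
  induction n using Nat.strong_induction_on with
  | _ n ih =>
    rintro i rfl
    have h := congrArg (fun f => counit (R := k) ((invDer hδ : A → A)^[(i : ℕ)] f)) hc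
    simp only [← Derivation.coeFn_coe, ← Module.End.pow_apply, map_sum, map_smul, smul_eq_mul] at h
    rw [Finset.sum_eq_single i] at h
    · have h0 := iterate_mem_of_lt hδ hx hxδ i.2 1
      rw [mul_one, RingHom.mem_ker, Bialgebra.counitAlgHom_apply] at h0
      have hmem := iterate_pow_sub_mem hδ hx hxδ (i : ℕ)
      rw [RingHom.mem_ker, map_sub, AlgHom.commutes, Bialgebra.counitAlgHom_apply, sub_eq_zero,
        Algebra.algebraMap_self, RingHom.id_apply] at hmem
      simp only [Module.End.pow_apply] at h
      have h' : c i * ((i : ℕ).factorial : k) = 0 := by rw [← hmem]; exact h.trans h0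
      refine (mul_eq_zero.mp h').resolve_right fun h0 => ?_
      rw [CharP.cast_eq_zero_iff k p, hp.out.dvd_factorial] at h0
      exact not_le.mpr i.2 h0
    · intro b _ hbi
      rcases lt_trichotomy (b : ℕ) (i : ℕ) with hlt | heq | hgt
      · rw [ih _ hlt b rfl, zero_mul]
      · exact absurd (Fin.ext heq) hbi
      · have := iterate_mem_of_lt hδ hx hxδ hgt 1
        rw [mul_one, RingHom.mem_ker, Bialgebra.counitAlgHom_apply] at this
        rw [Module.End.pow_apply]
        exact mul_eq_zero_of_right _ this
    · intro h'; exact absurd (Finset.mem_univ i) h'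

end Prime

/-- a derivation with a slice forces the dimension to vanish in the ground field -/
theorem finrank_eq_zero_of_isUnit_der [Module.Finite k A] (D : Derivation k A A) {x : A} (hu : IsUnit (D x)) :
    (Module.finrank k A : k) = 0 := by
  obtain ⟨v, hv⟩ := hu
  let E : Derivation k A A := (v⁻¹ : Aˣ).val • D
  have hE : E x = 1 := by
    rw [show E x = (v⁻¹ : Aˣ).val • D x from rfl, ← hv, smul_eq_mul]
    exact v.inv_mul
  have hcomm : (E : A →ₗ[k] A) * LinearMap.mulLeft k x - LinearMap.mulLeft k x * (E : A →ₗ[k] A) = 1 :=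
    LinearMap.ext fun a => by
      simp only [LinearMap.sub_apply, Module.End.mul_apply, LinearMap.mulLeft_apply, Derivation.coeFn_coe,
        Derivation.leibniz, hE, smul_eq_mul, Module.End.one_apply]
      ring
  have := congrArg (LinearMap.trace k A) hcomm
  rw [map_sub, LinearMap.trace_mul_comm, sub_self, LinearMap.trace_one] at this
  exact this.symm

/-- inverse for the convolution of points -/
theorem point_inv_mul (g : A →ₐ[k] k) :
    toConv (g.comp (HopfAlgebra.antipodeAlgHom k A)) * toConv g = 1 := by
  have h4 : toConv (HopfAlgebra.antipodeAlgHom k A) * toConv (AlgHom.id k A) = 1 := by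
    apply WithConv.ofConv_injective
    apply AlgHom.toLinearMap_injective
    exact congrArg WithConv.ofConv (LinearMap.antipode_mul_id (R := k) (C := A))
  have h := AlgHom.comp_convMul_distrib g (toConv (HopfAlgebra.antipodeAlgHom k A)) (toConv (AlgHom.id k A))
  rw [h4, ofConv_toConv, ofConv_toConv, AlgHom.comp_id] at h
  apply WithConv.ofConv_injective
  rw [← h]
  exact AlgHom.ext fun a => by simp

instance pointsGroup : Group (WithConv (A →ₐ[k] k)) :=
  { (inferInstance : Monoid (WithConv (A →ₐ[k] k))) with
    inv := fun g => toConv (g.ofConv.comp (HopfAlgebra.antipodeAlgHom k A))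
    inv_mul_cancel := fun g => point_inv_mul g.ofConv }

/-- right translation by a point -/
def transl (g : WithConv (A →ₐ[k] k)) : A →ₐ[k] A :=
  (toConv ((Algebra.ofId k A).comp g.ofConv) * toConv (AlgHom.id k A)).ofConv

theorem comp_transl (g h : WithConv (A →ₐ[k] k)) : h.ofConv.comp (transl g) = (g * h).ofConv := by
  rw [transl, AlgHom.comp_convMul_distrib, ofConv_toConv, ofConv_toConv, AlgHom.comp_id]
  congr 3
  exact AlgHom.ext fun a => h.ofConv.commutes _

section Closed

variable [IsAlgClosed k] [Module.Finite k A]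

theorem bijective_algebraMap_quotient (P : Ideal A) [P.IsMaximal] :
    Function.Bijective (algebraMap k (A ⧸ P)) :=
  letI := Ideal.Quotient.field P
  IsAlgClosed.algebraMap_bijective_of_isIntegral

theorem exists_point_ker (P : Ideal A) [P.IsMaximal] :
    ∃ g : A →ₐ[k] k, ∀ a, g a = 0 ↔ a ∈ P := by
  let e := (AlgEquiv.ofBijective (Algebra.ofId k (A ⧸ P)) (bijective_algebraMap_quotient P)).symm
  exact ⟨e.toAlgHom.comp (Ideal.Quotient.mkₐ k P), fun a => by simp [Ideal.Quotient.eq_zero_iff_mem]⟩

theorem isUnit_of_forall_point_ne_zero {a : A} (h : ∀ g : A →ₐ[k] k, g a ≠ 0) : IsUnit a := by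
  by_contra hu
  obtain ⟨P, hP, haP⟩ := exists_max_ideal_of_mem_nonunits hu
  obtain ⟨g, hg⟩ := exists_point_ker (k := k) P
  exact h g ((hg a).mpr haP)

theorem exists_pointDer_of_not_isReduced (h : ¬ IsReduced A) :
    ∃ δ : A →ₗ[k] k, IsPointDer δ ∧ δ ≠ 0 := by
  by_contra hno
  push Not at hno
  -- then every element of a maximal ideal is in its square
  have hsq : ∀ g : A →ₐ[k] k, RingHom.ker g ≤ RingHom.ker g ^ 2 := by
    intro g
    by_contra hle
    obtain ⟨a, ha, ha2⟩ := SetLike.not_le_iff_exists.mp hle
    obtain ⟨φ, hφa, hφ⟩ := Submodule.exists_le_ker_of_notMem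
      (show a ∉ (RingHom.ker g ^ 2).restrictScalars k from ha2)
    let γ : A →ₗ[k] k := φ ∘ₗ (LinearMap.id - (Algebra.linearMap k A) ∘ₗ g.toLinearMap)
    have hγ : ∀ a b, γ (a * b) = γ a * g b + g a * γ b := by
      intro a b
      have h0 : φ ((a - algebraMap k A (g a)) * (b - algebraMap k A (g b))) = 0 := by
        refine LinearMap.mem_ker.mp (hφ ?_)
        rw [Submodule.restrictScalars_mem, pow_two]
        exact Ideal.mul_mem_mul (by simp) (by simp)
      simp only [γ, LinearMap.coe_comp, Function.comp_apply, LinearMap.sub_apply, LinearMap.id_apply,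
        AlgHom.toLinearMap_apply, Algebra.linearMap_apply, map_mul]
      rw [show (a - algebraMap k A (g a)) * (b - algebraMap k A (g b)) =
        (a * b - algebraMap k A (g a) * algebraMap k A (g b)) - (g b) • (a - algebraMap k A (g a))
          - (g a) • (b - algebraMap k A (g b)) by simp only [Algebra.smul_def]; ring] at h0
      rw [map_sub φ, map_sub φ, map_smul, map_smul] at h0
      simp only [smul_eq_mul] at h0
      linear_combination h0
    -- translate to the identity
    let gi : WithConv (A →ₐ[k] k) := (toConv g)⁻¹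
    let δ : A →ₗ[k] k := γ ∘ₗ (transl gi).toLinearMap
    have hgε : ∀ b, g (transl gi b) = counit (R := k) b := fun b => by
      have := AlgHom.congr_fun (comp_transl gi (toConv g)) b
      rw [show gi * toConv g = 1 from inv_mul_cancel (toConv g)] at this
      exact this
    have hδ : IsPointDer δ := fun p q => by
      simp only [δ, LinearMap.coe_comp, Function.comp_apply, AlgHom.toLinearMap_apply, map_mul, hγ, hgε]
    have hδ0 := hno δ hδ
    have hsurj : ∀ b, ∃ c, transl gi c = b := fun b => by
      refine ⟨transl (toConv g) b, ?_⟩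
      have hcomp : (transl gi).comp (transl (toConv g)) = AlgHom.id k A := by
        have : toConv ((transl gi).comp (transl (toConv g))) = toConv (AlgHom.id k A) := by
          rw [show transl (toConv g) = (toConv ((Algebra.ofId k A).comp g) * toConv (AlgHom.id k A)).ofConv
            from rfl, AlgHom.comp_convMul_distrib, toConv_ofConv, ofConv_toConv, ofConv_toConv,
            AlgHom.comp_id, show toConv (transl gi) = toConv ((Algebra.ofId k A).comp gi.ofConv) * toConv (AlgHom.id k A)
            from rfl, ← mul_assoc]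
          have hgg : toConv g * gi = 1 := mul_inv_cancel _
          have := AlgHom.comp_convMul_distrib (Algebra.ofId k A) (toConv g) gi
          rw [hgg] at this
          rw [show (transl gi).comp ((Algebra.ofId k A).comp g) = (Algebra.ofId k A).comp g from
            AlgHom.ext fun c => (transl gi).commutes _]
          rw [← toConv_ofConv (toConv ((Algebra.ofId k A).comp g) * _), ← this]
          rw [show toConv ((Algebra.ofId k A).comp (1 : WithConv (A →ₐ[k] k)).ofConv) =
            (1 : WithConv (A →ₐ[k] A)) from WithConv.ofConv_injective (AlgHom.ext fun c => by simp)]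
          exact one_mul _
        exact WithConv.toConv_injective this
      exact AlgHom.congr_fun hcomp b
    obtain ⟨c, hc⟩ := hsurj a
    have : γ a = 0 := by rw [← hc]; exact LinearMap.congr_fun hδ0 c
    simp only [γ, LinearMap.coe_comp, Function.comp_apply, LinearMap.sub_apply, LinearMap.id_apply,
      AlgHom.toLinearMap_apply, Algebra.linearMap_apply, show g a = 0 from ha, map_zero, sub_zero] at this
    exact hφa this
  haveI : IsArtinianRing A := IsArtinianRing.of_finite k A
  refine h ⟨fun a ha => ?_⟩
  obtain ⟨n, hn⟩ := IsArtinianRing.isNilpotent_nilradical (R := A)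
  -- the nilradical equals its square
  have hNN : nilradical A ≤ nilradical A ^ 2 := by
    classical
    haveI : Fintype (MaximalSpectrum A) := Fintype.ofFinite _
    have hinf : nilradical A = ⨅ P : MaximalSpectrum A, P.asIdeal := by
      rw [nilradical_eq_sInf]
      refine le_antisymm (le_iInf fun P => sInf_le P.isMaximal.isPrime) (le_sInf fun J hJ => ?_)
      have : J.IsPrime := hJ
      exact iInf_le_of_le ⟨J, inferInstance⟩ le_rfl
    have hcop : ∀ m, Pairwise fun (P Q : MaximalSpectrum A) => IsCoprime (P.asIdeal ^ m) (Q.asIdeal ^ m) :=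
      fun m P Q hPQ => (Ideal.isCoprime_iff_sup_eq.mpr (P.isMaximal.coprime_of_ne Q.isMaximal
        fun h => hPQ (MaximalSpectrum.ext h))).pow
    have hprod : ∀ m, (⨅ P : MaximalSpectrum A, P.asIdeal ^ m) = ∏ P : MaximalSpectrum A, P.asIdeal ^ m := by
      intro m
      rw [Ideal.prod_eq_iInf_of_pairwise_isCoprime (fun P _ Q _ hPQ => hcop m hPQ)]
      simp
    have h1 := hprod 1
    simp only [pow_one] at h1
    rw [hinf, h1, ← Finset.prod_pow, ← hprod 2, ← h1]
    refine iInf_mono fun P => ?_
    obtain ⟨g, hg⟩ := exists_point_ker (k := k) P.asIdeal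
    have : RingHom.ker g = P.asIdeal := Ideal.ext hg
    exact this ▸ hsq g
  have : ∀ m, nilradical A ≤ nilradical A ^ (m + 1) := by
    intro m
    induction m with
    | zero => simp
    | succ m ih =>
      refine hNN.trans ?_
      rw [pow_two, pow_succ]
      exact Ideal.mul_mono_left ih
  have hle : nilradical A ≤ ⊥ := (this n).trans (by rw [pow_succ, hn]; simp)
  exact hle (mem_nilradical.mpr ha)

variable {p : ℕ} [hp : Fact p.Prime] (hA : Module.finrank k A = p)
include hA

theorem charP_of_pointDer {δ : A →ₗ[k] k} (hδ : IsPointDer δ) (hne : δ ≠ 0) : CharP k p := by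
  classical
  haveI : IsArtinianRing A := IsArtinianRing.of_finite k A
  haveI : Fintype (MaximalSpectrum A) := Fintype.ofFinite _
  obtain ⟨a, ha⟩ : ∃ a, δ a ≠ 0 := by
    by_contra h; push Not at h; exact hne (LinearMap.ext h)
  -- elements with nonzero derivative at each point
  have hloc : ∀ P : MaximalSpectrum A, ∃ b : A, invDer hδ b ∉ P.asIdeal := by
    intro P
    obtain ⟨g, hg⟩ := exists_point_ker (k := k) P.asIdeal
    let gi : WithConv (A →ₐ[k] k) := (toConv g)⁻¹
    refine ⟨transl gi a, fun h => ha ?_⟩
    have hval := (hg _).mpr h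
    -- `g (D b) = (g * δ) b`
    have hgd : ∀ b, g (invDer hδ b) = (toConv g.toLinearMap * toConv δ) b := fun b => by
      rw [invDer_apply, invOp_apply, LinearMap.convMul_apply, ← (ℛ k b).eq]
      simp [mul_comm]
    rw [hgd] at hval
    have htr : (transl gi).toLinearMap = (toConv ((Algebra.linearMap k A) ∘ₗ gi.ofConv.toLinearMap) *
        toConv LinearMap.id).ofConv := rfl
    have : (toConv g.toLinearMap * toConv δ).ofConv ∘ₗ (transl gi).toLinearMap = δ := by
      rw [htr]
      refine LinearMap.ext fun c => ?_
      have key : toConv gi.ofConv.toLinearMap * (toConv g.toLinearMap * toConv δ) = toConv δ := by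
        rw [← mul_assoc, ← AlgHom.toLinearMap_convMul gi (toConv g),
          show gi * toConv g = 1 from inv_mul_cancel _, AlgHom.toLinearMap_convOne, one_mul]
      conv_rhs => rw [← show _ = δ from congrArg WithConv.ofConv key]
      simp only [LinearMap.coe_comp, Function.comp_apply]
      rw [(ℛ k c).convMul_apply, map_sum]
      show _ = (toConv gi.ofConv.toLinearMap * (toConv g.toLinearMap * toConv δ)) c
      rw [(ℛ k c).convMul_apply]
      refine Finset.sum_congr rfl fun i _ => ?_
      rw [show ((toConv ((Algebra.linearMap k A) ∘ₗ gi.ofConv.toLinearMap)) ((ℛ k c).left i) *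
        (toConv (LinearMap.id : A →ₗ[k] A)) ((ℛ k c).right i)) =
        gi.ofConv ((ℛ k c).left i) • (ℛ k c).right i from (Algebra.smul_def _ _).symm, map_smul, smul_eq_mul]
      rfl
    rw [← LinearMap.congr_fun this a]
    exact hval
  choose b hb using hloc
  -- an idempotent-free partition via the Chinese remainder theorem
  have hcop : Pairwise fun (P Q : MaximalSpectrum A) => IsCoprime (P.asIdeal ^ 2) (Q.asIdeal ^ 2) :=
    fun P Q hPQ => (Ideal.isCoprime_iff_sup_eq.mpr (P.isMaximal.coprime_of_ne Q.isMaximal
        fun h => hPQ (MaximalSpectrum.ext h))).pow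
  obtain ⟨y, hy⟩ := Ideal.exists_forall_sub_mem_ideal hcop b
  have hu : IsUnit (invDer hδ y) := by
    refine isUnit_of_forall_point_ne_zero (k := k) fun g h0 => ?_
    haveI : (RingHom.ker g).IsMaximal :=
      RingHom.ker_isMaximal_of_surjective g fun c => ⟨algebraMap k A c, g.commutes c⟩
    let P : MaximalSpectrum A := ⟨RingHom.ker g, inferInstance⟩
    have h1 := der_mem_pow (invDer hδ) 1 (hy P)
    rw [pow_one, map_sub] at h1
    exact hb P (by simpa using sub_mem (show invDer hδ y ∈ P.asIdeal from h0) h1)
  have h := finrank_eq_zero_of_isUnit_der (invDer hδ) hu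
  rw [hA] at h
  obtain ⟨q, hq⟩ := CharP.exists k
  have hdvd : q ∣ p := (CharP.cast_eq_zero_iff k q p).mp h
  rcases (Nat.dvd_prime hp.out).mp hdvd with h1 | h1
  · exact absurd h1 (CharP.char_ne_one k q)
  · exact h1 ▸ hq

/-- dichotomy: `p` points, or an infinitesimal generator -/
theorem dichotomy :
    (∃ g₀ : WithConv (A →ₐ[k] k), g₀ ^ p = 1 ∧
      LinearIndependent k (fun i : Fin p => (g₀ ^ (i : ℕ)).ofConv.toLinearMap)) ∨
    (CharP k p ∧ ∃ δ : A →ₗ[k] k, IsPointDer δ ∧ ∃ x : A, counit (R := k) x = 0 ∧ δ x = 1) := by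
  by_cases hr : IsReduced A
  · left
    haveI : IsArtinianRing A := IsArtinianRing.of_finite k A
    have hli : LinearIndependent k (fun g : A →ₐ[k] k => g.toLinearMap) :=
      (linearIndependent_toLinearMap k A k)
    haveI : Finite (A →ₐ[k] k) := hli.finite
    haveI : Fintype (A →ₐ[k] k) := Fintype.ofFinite _
    have hsep : Submodule.span k (Set.range fun g : A →ₐ[k] k => g.toLinearMap) = ⊤ := by
      by_contra hne
      obtain ⟨Φ, hΦ, hle⟩ := Submodule.exists_le_ker_of_lt_top _ (lt_top_iff_ne_top.mpr hne)
      obtain ⟨a, rfl⟩ := (Module.evalEquiv k A).surjective Φ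
      have ha : a = 0 := by
        have : a ∈ nilradical A := by
          rw [nilradical_eq_sInf, Ideal.mem_sInf]
          intro J hJ
          haveI : J.IsPrime := hJ
          haveI : J.IsMaximal := IsArtinianRing.isMaximal_of_isPrime J
          obtain ⟨g, hg⟩ := exists_point_ker (k := k) J
          exact (hg a).mp (LinearMap.mem_ker.mp (hle (Submodule.subset_span ⟨g, rfl⟩)))
        rw [nilradical_eq_zero A] at this
        simpa using this
      exact hΦ (by rw [ha, map_zero])
    have hcard : Fintype.card (A →ₐ[k] k) = p := by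
      rw [← finrank_span_eq_card hli, hsep, finrank_top, Subspace.dual_finrank_eq, hA]
    haveI : Fintype (WithConv (A →ₐ[k] k)) := Fintype.ofEquiv _ (WithConv.equiv (A →ₐ[k] k)).symm
    have hcard' : Nat.card (WithConv (A →ₐ[k] k)) = p := by
      rw [Nat.card_congr (WithConv.equiv (A →ₐ[k] k)), Nat.card_eq_fintype_card, hcard]
    haveI : Nontrivial (WithConv (A →ₐ[k] k)) := by
      rw [← Fintype.one_lt_card_iff_nontrivial, ← Nat.card_eq_fintype_card, hcard']
      exact hp.out.one_lt
    obtain ⟨g₀, hg₀⟩ := exists_ne (1 : WithConv (A →ₐ[k] k))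
    have hord : orderOf g₀ = p := orderOf_eq_prime (by rw [← hcard']; exact pow_card_eq_one') hg₀
    refine ⟨g₀, hord ▸ pow_orderOf_eq_one g₀, hli.comp (fun i : Fin p => (g₀ ^ (i : ℕ)).ofConv) fun i j h => ?_⟩
    exact Fin.ext (pow_injOn_Iio_orderOf (by simp [hord]) (by simp [hord]) (WithConv.ofConv_injective h))
  · right
    obtain ⟨δ, hδ, hne⟩ := exists_pointDer_of_not_isReduced (k := k) hr
    obtain ⟨a, ha⟩ : ∃ a, δ a ≠ 0 := by
      by_contra h; push Not at h; exact hne (LinearMap.ext h)
    refine ⟨charP_of_pointDer hA hδ hne, δ, hδ,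
      (δ a)⁻¹ • (a - algebraMap k A (counit (R := k) a)), ?_, ?_⟩
    · simp [map_sub, Bialgebra.counit_algebraMap]
    · rw [map_smul, map_sub, pointDer_algebraMap hδ, sub_zero, smul_eq_mul, inv_mul_cancel₀ ha]

open scoped Classical in
/-- The powers of a nonzero point derivation span the dual algebra. -/
theorem span_pow_pointDer [CharP k p] {δ : A →ₗ[k] k} (hδ : IsPointDer δ) {x : A}
    (hx : counit (R := k) x = 0) (hxδ : δ x = 1) :
    Submodule.span k (Set.range fun i : Fin p => toConv δ ^ (i : ℕ)) = ⊤ := by
  have hcard : Fintype.card (Fin p) = Module.finrank k (WithConv (A →ₗ[k] k)) := by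
    rw [Fintype.card_fin, (WithConv.linearEquiv k (A →ₗ[k] k)).finrank_eq, Subspace.dual_finrank_eq, hA]
  refine LinearIndependent.span_eq_top_of_card_eq_finrank ?_ hcard
  have hpow : ∀ (j : ℕ) (b : A), (toConv δ ^ j) b = counit (R := k) ((invDer hδ : A → A)^[j] b) := by
    intro j
    induction j with
    | zero => intro b; simp
    | succ j ih =>
      intro b
      rw [pow_succ, (ℛ k b).convMul_apply, Function.iterate_succ_apply, invDer_apply hδ b, invOp_apply,
        ← (ℛ k b).eq]
      simp only [map_sum, LinearMap.lTensor_tmul, TensorProduct.rid_tmul]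
      rw [← Derivation.coeFn_coe, ← Module.End.pow_apply]
      simp only [map_sum, map_smul, Module.End.pow_apply, Derivation.coeFn_coe, ← ih, smul_eq_mul]
      exact Finset.sum_congr rfl fun i _ => mul_comm _ _
  refine linearIndependent_iff'.mpr fun s c hc j hj => ?_
  by_contra hne
  obtain ⟨i, hi, hmax⟩ := Finset.exists_max_image (s.filter fun i => c i ≠ 0) id
    ⟨j, Finset.mem_filter.mpr ⟨hj, hne⟩⟩
  obtain ⟨his, hci⟩ := Finset.mem_filter.mp hi
  have h := congrArg (fun f : WithConv (A →ₗ[k] k) => f.ofConv (x ^ (i : ℕ))) hc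
  simp only [WithConv.ofConv_sum, WithConv.ofConv_smul, LinearMap.sum_apply, LinearMap.smul_apply,
    WithConv.ofConv_zero, LinearMap.zero_apply, smul_eq_mul, hpow] at h
  rw [Finset.sum_eq_single i] at h
  · have hmem := iterate_pow_sub_mem hδ hx hxδ (i : ℕ)
    rw [RingHom.mem_ker, map_sub, AlgHom.commutes, Bialgebra.counitAlgHom_apply, sub_eq_zero,
      Algebra.algebraMap_self, RingHom.id_apply] at hmem
    have h' : c i * ((i : ℕ).factorial : k) = 0 := by rw [← hmem]; exact h
    refine hci ((mul_eq_zero.mp h').resolve_right fun h0 => ?_)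
    rw [CharP.cast_eq_zero_iff k p, hp.out.dvd_factorial] at h0
    exact not_le.mpr i.2 h0
  · intro b hb hbi
    by_cases hcb : c b = 0
    · rw [hcb, zero_mul]
    have hlt : (b : ℕ) < i := lt_of_le_of_ne (hmax b (Finset.mem_filter.mpr ⟨hb, hcb⟩)) fun h =>
      hbi (Fin.ext h)
    have := iterate_mem_of_lt hδ hx hxδ hlt 1
    rw [mul_one, RingHom.mem_ker, Bialgebra.counitAlgHom_apply] at this
    rw [this, mul_zero]
  · intro h'; exact absurd his h'

open scoped Classical in
/-- The dual algebra is monogenic. -/
theorem exists_dual_generator :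
    ∃ φ : WithConv (A →ₗ[k] k), Submodule.span k (Set.range fun i : Fin p => φ ^ (i : ℕ)) = ⊤ := by
  have hcard : Fintype.card (Fin p) = Module.finrank k (WithConv (A →ₗ[k] k)) := by
    rw [Fintype.card_fin, (WithConv.linearEquiv k (A →ₗ[k] k)).finrank_eq, Subspace.dual_finrank_eq, hA]
  rcases dichotomy hA with ⟨g₀, _, hli⟩ | ⟨hcp, δ, hδ, x, hx, hxδ⟩
  · refine ⟨toConv g₀.ofConv.toLinearMap, LinearIndependent.span_eq_top_of_card_eq_finrank ?_ hcard⟩
    have := hli.map' (WithConv.linearEquiv k (A →ₗ[k] k)).symm.toLinearMap (LinearEquiv.ker _)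
    have e : (fun i : Fin p => toConv g₀.ofConv.toLinearMap ^ (i : ℕ)) =
        fun i : Fin p => (WithConv.linearEquiv k (A →ₗ[k] k)).symm ((g₀ ^ (i : ℕ)).ofConv.toLinearMap) :=
      funext fun i => (AlgHom.toLinearMap_convPow g₀ _).symm
    rw [e]
    exact this
  · exact ⟨toConv δ, span_pow_pointDer hA hδ hx hxδ⟩

/-- Over an algebraically closed field, prime dimension forces cocommutativity. -/
theorem isCocomm_of_finrank_prime : Coalgebra.IsCocomm k A := by
  obtain ⟨φ, hφ⟩ := exists_dual_generator hA
  refine isCocomm_of_dual_comm fun f g => ?_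
  have hf : f ∈ Submodule.span k (Set.range fun i : Fin p => φ ^ (i : ℕ)) := hφ ▸ Submodule.mem_top
  have hg : g ∈ Submodule.span k (Set.range fun i : Fin p => φ ^ (i : ℕ)) := hφ ▸ Submodule.mem_top
  induction hf, hg using Submodule.span_induction₂ with
  | mem_mem x y hx hy =>
    obtain ⟨i, rfl⟩ := hx
    obtain ⟨j, rfl⟩ := hy
    exact ((Commute.refl φ).pow_pow _ _).eq
  | zero_left y hy => simp
  | zero_right x hx => simp
  | add_left x y z _ _ _ h1 h2 => rw [add_mul, h1, h2, mul_add]
  | add_right x y z _ _ _ h1 h2 => rw [mul_add, h1, h2, add_mul]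
  | smul_left r x y _ _ h => rw [smul_mul_assoc, h, mul_smul_comm]
  | smul_right r x y _ _ h => rw [mul_smul_comm, h, smul_mul_assoc]

/-- and killed by `p`. -/
theorem convPow_id_prime_eq_one : toConv (AlgHom.id k A) ^ p = 1 := by
  haveI := isCocomm_of_finrank_prime hA
  exact H20Comod.Deligne.convPow_id_eq_one k A p fun q => by
    rw [Module.rankAtStalk_eq_finrank_of_free]; exact hA

end Closed

section EigenGen

variable {k : Type u} [Field k] {A : Type u} [CommRing A] [HopfAlgebra k A] [IsAlgClosed k]
  [Module.Finite k A] {p : ℕ} [hp : Fact p.Prime] (hA : Module.finrank k A = p)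
include hA

/-- An eigen generator for a character of the units of `ℤ/p`. -/
theorem exists_eigen_generator (u : k) (hu : u * ((p - 1 : ℕ) : k) = 1) (χ : (ZMod p)ˣ →* kˣ)
    (hχ : ∀ m : (ZMod p)ˣ, m ≠ 1 → IsUnit ((χ m : k) - 1))
    (hχp : CharP k p → ∀ m : (ZMod p)ˣ, (χ m : k) = ((m : ZMod p).val : k)) :
    ∃ y : A, counit (R := k) y = 0 ∧
      (∀ m : (ZMod p)ˣ, SGA3b.powConv k A (m : ZMod p).val y = (χ m : k) • y) ∧
      Submodule.span k (Set.range fun i : Fin p => y ^ (i : ℕ)) = ⊤ := by
  have hcard : Fintype.card (Fin p) = Module.finrank k A := by rw [Fintype.card_fin, hA]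
  have hcomp : ∀ (g : A →ₐ[k] k) (n : ℕ) (b : A), g (SGA3b.powConv k A n b) = (toConv g ^ n).ofConv b := by
    intro g n b
    induction n generalizing b with
    | zero =>
      rw [pow_zero]
      exact g.commutes _
    | succ n ih =>
      have h := AlgHom.congr_fun (AlgHom.comp_convMul_distrib g (toConv (AlgHom.id k A) ^ n) (toConv (AlgHom.id k A))) b
      rw [pow_succ]
      refine (Eq.trans ?_ h).trans ?_
      · simp [SGA3b.powConv, pow_succ]
      · congr 2
        rw [ofConv_toConv, AlgHom.comp_id]
        congr 2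
        exact AlgHom.ext fun c => ih c
  rcases dichotomy hA with ⟨g₀, hg₀p, hli⟩ | ⟨hcp, δ, hδ, x, hx, hxδ⟩
  · let ev : A →ₗ[k] (Fin p → k) := LinearMap.pi fun i => (g₀ ^ (i : ℕ)).ofConv.toLinearMap
    have hinj : Function.Injective ev := by
      rw [← LinearMap.ker_eq_bot, eq_bot_iff]
      intro a ha
      have hspan : Submodule.span k (Set.range fun i : Fin p => (g₀ ^ (i : ℕ)).ofConv.toLinearMap) = ⊤ :=
        hli.span_eq_top_of_card_eq_finrank (by rw [hcard, Subspace.dual_finrank_eq])
      refine (Module.forall_dual_apply_eq_zero_iff k a).mp fun φ => ?_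
      have hφ : φ ∈ Submodule.span k (Set.range fun i : Fin p => (g₀ ^ (i : ℕ)).ofConv.toLinearMap) :=
        hspan ▸ Submodule.mem_top
      induction hφ using Submodule.span_induction with
      | mem ψ hψ =>
        obtain ⟨i, rfl⟩ := hψ
        exact congr_fun (LinearMap.mem_ker.mp ha) i
      | zero => simp
      | add φ ψ _ _ h1 h2 => simp [h1, h2]
      | smul c φ _ h1 => simp [h1]
    have hbij : Function.Bijective ev :=
      ⟨hinj, (LinearMap.injective_iff_surjective_of_finrank_eq_finrank (by simp [hA])).mp hinj⟩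
    let val : Fin p → k := fun i =>
      if h : ((i : ℕ) : ZMod p) = 0 then 0 else (χ (Units.mk0 ((i : ℕ) : ZMod p) h) : k)
    obtain ⟨y, hy⟩ := hbij.2 val
    have hyi : ∀ i : Fin p, (g₀ ^ (i : ℕ)).ofConv y = val i := fun i => congr_fun hy i
    have hgmod : ∀ n : ℕ, g₀ ^ n = g₀ ^ ((n : ZMod p).val) := fun n => by
      rw [ZMod.val_natCast]
      conv_lhs => rw [← Nat.mod_add_div n p, pow_add, pow_mul, hg₀p, one_pow, mul_one]
    refine ⟨y, ?_, fun m => hinj (funext fun i => ?_), ?_⟩
    · have h := hyi ⟨0, hp.out.pos⟩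
      simpa [val] using h
    · show (g₀ ^ (i : ℕ)).ofConv (SGA3b.powConv k A _ y) = (g₀ ^ (i : ℕ)).ofConv ((χ m : k) • y)
      rw [map_smul, hcomp, toConv_ofConv, ← pow_mul, hgmod]
      have hlt : (((i : ℕ) * (m : ZMod p).val : ℕ) : ZMod p).val < p := ZMod.val_lt _
      have h1 := hyi ⟨_, hlt⟩
      dsimp only at h1
      rw [h1, hyi i, smul_eq_mul]
      simp only [val, ZMod.natCast_val, ZMod.cast_id', id]
      rcases eq_or_ne ((i : ℕ) : ZMod p) 0 with h0 | h0
      · rw [dif_pos h0, dif_pos (by simp [h0]), mul_zero]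
      · have h0' : (((i : ℕ) * (m : ZMod p).val : ℕ) : ZMod p) ≠ 0 := by simp [h0]
        rw [dif_neg h0, dif_neg h0', ← Units.val_mul, ← map_mul]
        congr 2
        exact Units.ext (by simp [mul_comm])
    · have hχinj : Function.Injective χ := fun a b hab => by
        by_contra hne
        have := hχ (a * b⁻¹) (fun h => hne (mul_inv_eq_one.mp h))
        rw [map_mul, map_inv, hab, mul_inv_cancel, Units.val_one, sub_self] at this
        exact not_isUnit_zero this
      have hval : Function.Injective val := fun i j hij => by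
        refine Fin.ext ?_
        rw [← ZMod.val_natCast_of_lt i.2, ← ZMod.val_natCast_of_lt j.2]
        congr 1
        simp only [val] at hij
        split_ifs at hij with hi hj hj
        · rw [hi, hj]
        · exact absurd hij.symm (Units.ne_zero _)
        · exact absurd hij (Units.ne_zero _)
        · exact congrArg Units.val (hχinj (Units.ext hij))
      refine (linearIndependent_iff'.mpr fun s c hc j hj => ?_).span_eq_top_of_card_eq_finrank hcard
      classical
      let P : Polynomial k := ∑ i ∈ s, Polynomial.C (c i) * Polynomial.X ^ (i : ℕ)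
      have hP : P = 0 := by
        refine Polynomial.eq_zero_of_natDegree_lt_card_of_eval_eq_zero P hval (fun i => ?_) ?_
        · have h := congrArg (g₀ ^ (i : ℕ)).ofConv hc
          simp only [map_sum, map_smul, map_pow, hyi, smul_eq_mul, map_zero] at h
          simpa [P, Polynomial.eval_finsetSum] using h
        · refine lt_of_le_of_lt (Polynomial.natDegree_sum_le_of_forall_le _ _ (n := p - 1) fun i _ =>
            (Polynomial.natDegree_C_mul_X_pow_le _ _).trans (by have := i.2; omega)) ?_
          simp; exact hp.out.pos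
      have := congrArg (fun Q => Polynomial.coeff Q (j : ℕ)) hP
      simpa [P, Polynomial.finsetSum_coeff, Polynomial.coeff_C_mul_X_pow, Fin.val_inj, hj] using this
  · haveI := hcp
    let y : A := u • ∑ m : (ZMod p)ˣ, (χ m⁻¹ : k) • SGA3b.powConv k A (m : ZMod p).val x
    have hδn : ∀ (n : ℕ) (b : A), δ (SGA3b.powConv k A n b) = (n : k) * δ b := by
      intro n
      induction n with
      | zero =>
        intro b
        rw [show SGA3b.powConv k A 0 b = algebraMap k A (counit (R := k) b) from rfl, pointDer_algebraMap hδ]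
        simp
      | succ n ih =>
        intro b
        have hε : ∀ c, counit (R := k) (SGA3b.powConv k A n c) = counit (R := k) c := fun c => by
          rw [← Bialgebra.counitAlgHom_apply, hcomp,
            show toConv (Bialgebra.counitAlgHom k A) = (1 : WithConv (A →ₐ[k] k)) from
              WithConv.ofConv_injective (AlgHom.ext fun d => by simp), one_pow, AlgHom.convOne_apply]
          simp
        have hrw : SGA3b.powConv k A (n + 1) b =
            (toConv (SGA3b.powConv k A n).toLinearMap * toConv LinearMap.id).ofConv b := by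
          rw [show SGA3b.powConv k A (n + 1) = (toConv (AlgHom.id k A) ^ n * toConv (AlgHom.id k A)).ofConv from
            congrArg WithConv.ofConv (pow_succ _ _)]
          rfl
        rw [hrw, (ℛ k b).convMul_apply, map_sum]
        rw [Finset.sum_congr rfl fun i _ => hδ _ _]
        simp only [ofConv_toConv, LinearMap.id_coe, id, AlgHom.toLinearMap_apply, hε, ih]
        rw [Finset.sum_add_distrib]
        conv_rhs => rw [Nat.cast_succ, add_mul, one_mul]
        congr 1
        · have e1 : ∑ i ∈ (ℛ k b).index, counit (R := k) ((ℛ k b).right i) • (ℛ k b).left i = b := by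
            have h := congrArg (TensorProduct.rid k A) (Coalgebra.lTensor_counit_comul (R := k) b)
            rw [← (ℛ k b).eq] at h
            simp only [map_sum, LinearMap.lTensor_tmul, TensorProduct.rid_tmul, one_smul] at h
            exact h
          conv_rhs => rw [← e1, map_sum, Finset.mul_sum]
          exact Finset.sum_congr rfl fun i _ => by rw [map_smul, smul_eq_mul]; ring
        · conv_rhs => rw [← Coalgebra.sum_counit_smul (ℛ k b)]
          simp
    have hyε : counit (R := k) y = 0 := by
      simp only [y, map_smul, map_sum]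
      refine mul_eq_zero_of_right _ (Finset.sum_eq_zero fun m _ => ?_)
      rw [← Bialgebra.counitAlgHom_apply, hcomp,
        show toConv (Bialgebra.counitAlgHom k A) = (1 : WithConv (A →ₐ[k] k)) from
          WithConv.ofConv_injective (AlgHom.ext fun d => by simp), one_pow, AlgHom.convOne_apply]
      simp [hx]
    have hyδ : δ y = 1 := by
      simp only [y, map_smul, map_sum, hδn, hxδ, mul_one, smul_eq_mul]
      have : ∀ m : (ZMod p)ˣ, (χ m⁻¹ : k) * ((m : ZMod p).val : k) = 1 := fun m => by
        rw [← hχp hcp m, ← Units.val_mul, ← map_mul, inv_mul_cancel, map_one, Units.val_one]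
      simp only [this, Finset.sum_const, Finset.card_univ, ZMod.card_units p, nsmul_eq_mul, mul_one]
      exact hu
    refine ⟨y, hyε, fun m => ?_, pow_spans hA hδ hyε hyδ⟩
    -- `x ^ p = 0` makes the powers compose
    have hcompA : ∀ (n : ℕ) (g : A →ₐ[k] A) (b : A), g (SGA3b.powConv k A n b) = (toConv g ^ n).ofConv b := by
      intro n g
      induction n with
      | zero => intro b; exact g.commutes _
      | succ n ih =>
        intro b
        have h := AlgHom.congr_fun (AlgHom.comp_convMul_distrib g (toConv (AlgHom.id k A) ^ n) (toConv (AlgHom.id k A))) b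
        rw [pow_succ]
        refine (Eq.trans ?_ h).trans ?_
        · simp [SGA3b.powConv, pow_succ]
        · congr 2
          rw [ofConv_toConv, AlgHom.comp_id]
          congr 2
          exact AlgHom.ext fun c => ih c
    have hmod : ∀ a b : ℕ, (a : ZMod p) = b → SGA3b.powConv k A a = SGA3b.powConv k A b := fun a b hab => by
      rw [ZMod.natCast_eq_natCast_iff'] at hab
      unfold SGA3b.powConv
      rw [← Nat.mod_add_div a p, ← Nat.mod_add_div b p, pow_add, pow_add, pow_mul, pow_mul,
        convPow_id_prime_eq_one hA, one_pow, one_pow, mul_one, mul_one, hab]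
    have hmm : ∀ m n : (ZMod p)ˣ, SGA3b.powConv k A (m : ZMod p).val (SGA3b.powConv k A (n : ZMod p).val x) =
        SGA3b.powConv k A ((m * n : (ZMod p)ˣ) : ZMod p).val x := fun m n => by
      rw [hcompA, show (toConv (SGA3b.powConv k A (m : ZMod p).val) ^ (n : ZMod p).val).ofConv =
        SGA3b.powConv k A ((m : ZMod p).val * (n : ZMod p).val) by
          rw [SGA3b.powConv, toConv_ofConv, ← pow_mul]; rfl]
      rw [hmod _ ((m * n : (ZMod p)ˣ) : ZMod p).val (by simp)]
    simp only [y, map_smul, map_sum, hmm]
    rw [smul_comm (χ m : k) u]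
    congr 1
    rw [Finset.smul_sum]
    refine Fintype.sum_equiv (Equiv.mulLeft m) _ _ fun n => ?_
    rw [Equiv.coe_mulLeft, smul_smul, mul_inv_rev, map_mul, Units.val_mul (χ n⁻¹), mul_left_comm (χ m : k), ← Units.val_mul (χ m),
      ← map_mul, mul_inv_cancel, map_one, Units.val_one, mul_one]

end EigenGen

end

end Groth.Agent.H20OT
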