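import Groth.Agent.H20OT.CartBasic
import Groth.Agent.H20OT.Dual
import Groth.Prelude.Def_Versch
import Mathlib.RingTheory.TensorProduct.Free
import Mathlib.RingTheory.Bialgebra.TensorProduct

/-!
Frobenius, Verschiebung and the `p^N`-th power map of a commutative finite locally free group scheme in terms of a
dual basis.
-/

set_option autoImplicit false

universe u v

open TensorProduct WithConv Coalgebra

namespace Groth.Agent.H20OT

noncomputable section

variable (p : ℕ) [hp : Fact p.Prime]

theorem relFrob_tmul' {R : Type u} [CommRing R] [CharP R p] {B : Type v} [CommRing B] [Algebra R B] [CharP B p]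
    (b : B) (t : FrobAlg.Twist p R) :
    FrobAlg.relFrob p R B (b ⊗ₜ[R] t) = b ^ p * algebraMap R B ((FrobAlg.toTwist p R).symm t) := by
  simp [FrobAlg.relFrob, FrobAlg.frobHom, FrobAlg.inclHom, Algebra.TensorProduct.lift_tmul]
  rfl

theorem span_pow_iterate {k : Type u} [CommRing k] {S : Type v} [CommRing S] [Algebra k S] [CharP S p] {ι : Type*}
    [Fintype ι] (y : ι → S) (h0 : Submodule.span k (Set.range y) = ⊤) (h : Submodule.span k (Set.range fun i => y i ^ p) = ⊤) :
    ∀ N : ℕ, Submodule.span k (Set.range fun i => y i ^ p ^ N) = ⊤ := by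
  intro N
  have hy : ∀ z : S, ∃ c : ι → k, ∑ i, c i • y i ^ p = z := fun z =>
    (Submodule.mem_span_range_iff_exists_fun k).mp (h.symm ▸ Submodule.mem_top)
  induction N with
  | zero =>
    simp only [pow_zero, pow_one]
    exact h0
  | succ N ih =>
    rw [eq_top_iff, ← h, Submodule.span_le]
    rintro _ ⟨i, rfl⟩
    obtain ⟨c, hc⟩ := (Submodule.mem_span_range_iff_exists_fun k).mp (ih.symm ▸ Submodule.mem_top (x := y i))
    show y i ^ p ∈ _
    rw [← hc, sum_pow_char p]
    refine Submodule.sum_mem _ fun j _ => ?_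
    rw [smul_pow]
    refine Submodule.smul_mem _ _ (Submodule.subset_span ⟨j, ?_⟩)
    show y j ^ p ^ (N + 1) = _
    rw [pow_succ, pow_mul]

section Poly

variable {R : Type u} [CommRing R] [CharP R p] {A : Type v} [CommRing A] [HopfAlgebra R A]
  [Coalgebra.IsCocomm R A] [Module.Finite R A] [Module.Projective R A]
variable {ι : Type*} [Fintype ι] (b : ι → A) (φ : ι → A →ₗ[R] R) (hb : ∀ x, ∑ i, φ i x • b i = x)
include hb

omit [CharP R p] in
theorem dual_eq_sum (x : CartDual.D R A) : x = ∑ i, x.ofConv (b i) • (toConv (φ i) : CartDual.D R A) := by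
  refine WithConv.ofConv_injective (LinearMap.ext fun a => ?_)
  conv_lhs => rw [← hb a, map_sum]
  rw [WithConv.ofConv_sum, LinearMap.sum_apply]
  refine Finset.sum_congr rfl fun i _ => ?_
  rw [map_smul, WithConv.ofConv_smul, LinearMap.smul_apply, smul_eq_mul, smul_eq_mul, mul_comm, ofConv_toConv]

theorem dual_pow_char (x : CartDual.D R A) (N : ℕ) : x ^ p ^ N =
    ∑ i, x.ofConv (b i) ^ p ^ N • (toConv (φ i) : CartDual.D R A) ^ p ^ N := by
  conv_lhs => rw [dual_eq_sum b φ hb x]
  rw [sum_pow_char_pow]
  exact Finset.sum_congr rfl fun i _ => smul_pow _ _ _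

theorem verschiebung_apply {v : A →+* FrobAlg.BaseChange p R A} (hv : Versch.IsVerschiebung p R A v) (a : A) :
    v a = ∑ i, b i ⊗ₜ[R] FrobAlg.toTwist p R (((toConv (φ i) : CartDual.D R A) ^ p).ofConv a) := by
  refine Versch.evTw_injective p R A fun x => ?_
  rw [(Versch.isVerschiebung_iff p R A v).mp hv a x, map_sum]
  have h := dual_pow_char p b φ hb x 1
  rw [pow_one] at h
  simp only [Versch.evTw_tmul', CartDual.coe_apply, ← map_mul, h, WithConv.ofConv_sum, LinearMap.sum_apply, map_sum,
    WithConv.ofConv_smul, LinearMap.smul_apply, smul_eq_mul]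

end Poly

variable {R : Type u} [CommRing R] [CharP R p] {A : Type u} [CommRing A] [HopfAlgebra R A]
  [Coalgebra.IsCocomm R A] [Module.Finite R A] [Module.Projective R A]
variable {ι : Type*} [Fintype ι] (b : ι → A) (φ : ι → A →ₗ[R] R) (hb : ∀ x, ∑ i, φ i x • b i = x)
include hb

omit [CharP R p] in
theorem toEnd_dualBasis : toEnd R A (∑ i, b i ⊗ₜ[R] (toConv (φ i) : CartDual.D R A)) = toConv LinearMap.id := by
  refine WithConv.ofConv_injective (LinearMap.ext fun a => ?_)
  rw [map_sum, WithConv.ofConv_sum, LinearMap.sum_apply]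
  simp only [toEnd_tmul_apply]
  exact hb a

theorem powConv_pow_char (N : ℕ) (a : A) :
    SGA3b.powConv R A (p ^ N) a = ∑ i, ((toConv (φ i) : CartDual.D R A) ^ p ^ N).ofConv a • b i ^ p ^ N := by
  have hinj : Function.Injective (algebraMap R (WithConv (A →ₗ[R] A))) := fun r s h => by
    have h1 := congrArg (fun f : WithConv (A →ₗ[R] A) => counit (R := R) (f.ofConv 1)) h
    simpa [LinearMap.convAlgebraMap_apply, Bialgebra.counit_algebraMap] using h1
  haveI : CharP (WithConv (A →ₗ[R] A)) p := charP_of_injective_algebraMap hinj p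
  have h1 : (toConv (AlgHom.id R A) ^ p ^ N).ofConv.toLinearMap =
      ((toConv (LinearMap.id : A →ₗ[R] A)) ^ p ^ N).ofConv := by
    have := congrArg WithConv.ofConv (AlgHom.toLinearMap_convPow (toConv (AlgHom.id R A)) (p ^ N))
    simpa using this
  show (toConv (AlgHom.id R A) ^ p ^ N).ofConv.toLinearMap a = _
  rw [h1, ← toEnd_dualBasis b φ hb, map_sum, sum_pow_char_pow, WithConv.ofConv_sum, LinearMap.sum_apply]
  refine Finset.sum_congr rfl fun i _ => ?_
  have h2 : toEnd R A (b i ⊗ₜ[R] (toConv (φ i) : CartDual.D R A)) ^ p ^ N =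
      toEnd R A ((b i ^ p ^ N) ⊗ₜ[R] ((toConv (φ i) : CartDual.D R A) ^ p ^ N)) := by
    rw [← Algebra.TensorProduct.tmul_pow]
    exact (algHom_pow (toEnd R A) _ _).symm
  rw [h2, toEnd_tmul_apply]

theorem relFrob_verschiebung [CharP A p] {v : A →+* FrobAlg.BaseChange p R A}
    (hv : Versch.IsVerschiebung p R A v) (a : A) : FrobAlg.relFrob p R A (v a) = SGA3b.powConv R A p a := by
  have h := powConv_pow_char p b φ hb 1 a
  rw [pow_one] at h
  rw [verschiebung_apply p b φ hb hv, map_sum, h]
  refine Finset.sum_congr rfl fun i _ => ?_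
  rw [relFrob_tmul', RingEquiv.symm_apply_apply, Algebra.smul_def, mul_comm]

end

section Field

noncomputable section

variable (p : ℕ) [hp : Fact p.Prime] {k : Type u} [Field k] [CharP k p] {A : Type v} [CommRing A] [HopfAlgebra k A]
  [Coalgebra.IsCocomm k A] [Module.Finite k A]

theorem span_pow_dual_of_injective {v : A →+* FrobAlg.BaseChange p k A} (hv : Versch.IsVerschiebung p k A v)
    (hinj : Function.Injective v) {ι : Type*} [Fintype ι] (b : Module.Basis ι k A) :
    Submodule.span k (Set.range fun i => (toConv (b.coord i) : CartDual.D k A) ^ p) = ⊤ := by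
  by_contra hne
  obtain ⟨Φ, hΦ, hle⟩ := Submodule.exists_le_ker_of_lt_top _ (lt_top_iff_ne_top.mpr hne)
  obtain ⟨a, ha⟩ := exists_eval_eq Φ
  have h0 : v a = 0 := by
    rw [verschiebung_apply p (fun i => b i) (fun i => b.coord i) (fun x => b.sum_repr x) hv]
    refine Finset.sum_eq_zero fun i _ => ?_
    rw [← ha, show Φ ((toConv (b.coord i) : CartDual.D k A) ^ p) = 0 from hle (Submodule.subset_span ⟨i, rfl⟩),
      map_zero, TensorProduct.tmul_zero]
  refine hΦ (LinearMap.ext fun x => ?_)
  rw [ha, hinj (h0.trans (map_zero v).symm), map_zero]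
  rfl

theorem span_pow_of_surjective_relFrob {B : Type*} [CommRing B] [Algebra k B] [CharP B p]
    (hs : Function.Surjective (FrobAlg.relFrob p k B)) {ι : Type*} [Fintype ι] (b : Module.Basis ι k B) :
    Submodule.span k (Set.range fun i => b i ^ p) = ⊤ := by
  rw [eq_top_iff]
  intro z hz
  clear hz
  obtain ⟨w, rfl⟩ := hs z
  induction w using TensorProduct.induction_on with
  | zero => rw [map_zero]; exact zero_mem _
  | add s t hs' ht => rw [map_add]; exact add_mem hs' ht
  | tmul c t =>
    rw [relFrob_tmul', mul_comm, ← Algebra.smul_def]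
    refine Submodule.smul_mem _ _ ?_
    rw [← b.sum_repr c, sum_pow_char p]
    refine Submodule.sum_mem _ fun i _ => ?_
    rw [smul_pow]
    exact Submodule.smul_mem _ _ (Submodule.subset_span ⟨i, rfl⟩)

/-- A family of the size of the dimension which spans has a dual family of functionals. -/
theorem exists_dual_family {V : Type*} [AddCommGroup V] [Module k V] {n : ℕ} (hn : Module.finrank k V = n)
    [Module.Finite k V] (w : Fin n → V) (hw : Submodule.span k (Set.range w) = ⊤) :
    ∀ i, ∃ f : V →ₗ[k] k, ∀ j, f (w j) = if j = i then 1 else 0 := by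
  intro i
  let b := basisOfTopLeSpanOfCardEqFinrank w hw.ge (by rw [Fintype.card_fin, hn])
  refine ⟨b.coord i, fun j => ?_⟩
  rw [show w j = b j by simp [b], Module.Basis.coord_apply, Module.Basis.repr_self, Finsupp.single_apply]

end

end Field

end Groth.Agent.H20OT
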