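import Groth.Agent.H20OT.Field
import Groth.Prelude.Def_AlphaP
import Groth.Prelude.Def_ConstGrp
import Groth.Prelude.Def_CartDual
import Mathlib.RingTheory.Bialgebra.MonoidAlgebra
import Mathlib.RingTheory.Bialgebra.Equiv
import Mathlib.RingTheory.Nilpotent.Basic
import Mathlib.Algebra.CharP.Lemmas
import Mathlib.Algebra.CharP.Invertible

/-!
The three group schemes of prime order: primitives, group-likes, comparison maps, classification.
-/

set_option autoImplicit false

universe u v w

open TensorProduct WithConv Coalgebra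

namespace Groth.Agent.H20OT

noncomputable section

section AlphaP

variable (p : ℕ) [hp : Fact p.Prime] {R : Type u} [CommRing R] [CharP R p]

theorem nontrivial_of_charP (R : Type u) [CommRing R] [CharP R p] : Nontrivial R :=
  CharP.nontrivial_of_char_ne_one (R := R) hp.out.ne_one

theorem alphaP_comul_pow (n : ℕ) : comul (R := R) (A := AlphaP.A p R) (AlphaP.x p R ^ n) =
    ∑ m ∈ Finset.range (n + 1), n.choose m • ((AlphaP.x p R ^ m) ⊗ₜ[R] (AlphaP.x p R ^ (n - m))) := by
  rw [← Bialgebra.comulAlgHom_apply, map_pow, Bialgebra.comulAlgHom_apply, AlphaP.comul_x, add_pow]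
  refine Finset.sum_congr rfl fun m _ => ?_
  rw [Algebra.TensorProduct.tmul_pow, Algebra.TensorProduct.tmul_pow, Algebra.TensorProduct.tmul_mul_tmul,
    one_pow, one_pow, one_mul, mul_one, nsmul_eq_mul, mul_comm]

theorem alphaP_counit_pow {n : ℕ} (hn : n ≠ 0) : counit (R := R) (A := AlphaP.A p R) (AlphaP.x p R ^ n) = 0 := by
  rw [← Bialgebra.counitAlgHom_apply, map_pow, Bialgebra.counitAlgHom_apply, AlphaP.counit_x, zero_pow hn]

theorem isUnit_natCast_of_lt {n : ℕ} (h0 : n ≠ 0) (hn : n < p) : IsUnit (n : R) :=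
  (CharP.isUnit_natCast_iff (R := R) hp.out).mpr fun hd =>
    absurd (Nat.le_of_dvd (Nat.pos_of_ne_zero h0) hd) (not_le.mpr hn)

theorem alphaP_eq_sum (y : AlphaP.A p R) :
    ∃ c : Fin p → R, y = ∑ i, c i • AlphaP.x p R ^ (i : ℕ) := by
  haveI := nontrivial_of_charP p R
  exact ⟨fun i => (AlphaP.basis p R).repr y i, by
    conv_lhs => rw [← (AlphaP.basis p R).sum_repr y]
    simp⟩

theorem alphaP_eq_smul_of_primitive {y : AlphaP.A p R}
    (hy : comul (R := R) y = y ⊗ₜ[R] 1 + 1 ⊗ₜ[R] y) : ∃! c : R, y = c • AlphaP.x p R := by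
  classical
  haveI := nontrivial_of_charP p R
  let b := AlphaP.basis p R
  have hb : ∀ i : Fin p, b i = AlphaP.x p R ^ (i : ℕ) := fun i => AlphaP.basis_apply p R i
  let one' : Fin p := ⟨1, hp.out.one_lt⟩
  let zero' : Fin p := ⟨0, hp.out.pos⟩
  have hb1 : b one' = AlphaP.x p R := by rw [hb]; exact pow_one _
  have hb0 : b zero' = 1 := by rw [hb]; exact pow_zero _
  have hcoord : ∀ (i : Fin p) (m : ℕ), m < p → b.coord i (AlphaP.x p R ^ m) = if m = i then 1 else 0 := by
    intro i m hm
    rw [show AlphaP.x p R ^ m = b ⟨m, hm⟩ from (hb ⟨m, hm⟩).symm, Module.Basis.coord_apply,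
      Module.Basis.repr_self, Finsupp.single_apply]
    exact if_congr Fin.ext_iff rfl rfl
  have hc : y = ∑ i, b.coord i y • AlphaP.x p R ^ (i : ℕ) := by
    conv_lhs => rw [← b.sum_repr y]
    simp [hb, Module.Basis.coord_apply]
  have hkey : ∀ i : Fin p, (i : ℕ) ≠ 1 → b.coord i y = 0 := by
    intro i hi
    rcases Nat.eq_zero_or_pos (i : ℕ) with h0 | hpos
    · -- the counit
      have h1 := congrArg (fun t => TensorProduct.rid R _ ((counit (R := R) (A := AlphaP.A p R)).lTensor _ t)) hy
      simp only [lTensor_counit_comul, map_add, LinearMap.lTensor_tmul, TensorProduct.rid_tmul, one_smul,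
        Bialgebra.counit_one] at h1
      have h2 : counit (R := R) y • (1 : AlphaP.A p R) = 0 := by simpa using h1
      have h3 := congrArg (b.coord zero') h2
      have hz := hcoord zero' 0 hp.out.pos
      rw [if_pos rfl, pow_zero] at hz
      rw [map_smul, map_zero, hz, smul_eq_mul, mul_one] at h3
      rw [hc, map_sum, Finset.sum_eq_single i] at h3
      · rw [map_smul, h0, pow_zero, Bialgebra.counit_one, smul_eq_mul, mul_one] at h3
        exact h3
      · intro j _ hj
        rw [map_smul, alphaP_counit_pow p (fun h => hj (Fin.ext (h.trans h0.symm))), smul_zero]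
      · simp
    · let j : Fin p := ⟨i - 1, lt_of_le_of_lt (Nat.sub_le _ _) i.2⟩
      let L := LinearMap.mul' R R ∘ₗ TensorProduct.map (b.coord j) (b.coord one')
      have hL : ∀ (m k : ℕ), m < p → k < p → L ((AlphaP.x p R ^ m) ⊗ₜ[R] (AlphaP.x p R ^ k)) =
          if m = i - 1 ∧ k = 1 then 1 else 0 := by
        intro m k hm hk
        simp only [L, LinearMap.coe_comp, Function.comp_apply, TensorProduct.map_tmul, LinearMap.mul'_apply,
          hcoord _ _ hm, hcoord _ _ hk, j, one']
        rw [ite_zero_mul_ite_zero, one_mul]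
      have hLn : ∀ n : Fin p, L (comul (R := R) (A := AlphaP.A p R) (AlphaP.x p R ^ (n : ℕ))) =
          if n = i then ((i : ℕ) : R) else 0 := by
        intro n
        rw [alphaP_comul_pow, map_sum]
        rw [Finset.sum_congr rfl fun m hm => by
          rw [map_nsmul, hL m _ (lt_of_le_of_lt (Finset.mem_range_succ_iff.mp hm) n.2)
            (lt_of_le_of_lt (Nat.sub_le _ _) n.2)]]
        by_cases hn : n = i
        · subst hn
          rw [if_pos rfl, Finset.sum_eq_single ((n : ℕ) - 1)]
          · rw [if_pos ⟨rfl, by omega⟩, nsmul_one, Nat.choose_symm_of_eq_add (a := (n : ℕ) - 1) (b := 1) (by omega),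
              Nat.choose_one_right]
          · intro m _ hm; rw [if_neg fun h => hm h.1, smul_zero]
          · intro h; exact absurd (Finset.mem_range.mpr (by omega)) h
        · rw [if_neg hn]
          refine Finset.sum_eq_zero fun m hm => ?_
          rw [if_neg fun h => hn (Fin.ext ?_), smul_zero]
          have := Finset.mem_range_succ_iff.mp hm
          omega
      have hLy : L (comul (R := R) y) = b.coord i y * ((i : ℕ) : R) := by
        conv_lhs => rw [hc]
        simp only [map_sum, map_smul, hLn, smul_eq_mul, mul_ite, mul_zero, Finset.sum_ite_eq',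
          Finset.mem_univ, if_true]
      have hRy : L (y ⊗ₜ[R] 1 + 1 ⊗ₜ[R] y) = 0 := by
        have h10 : b.coord one' (1 : AlphaP.A p R) = 0 := by
          rw [← pow_zero (AlphaP.x p R), hcoord one' 0 hp.out.pos, if_neg (by simp [one'])]
        have hj0 : b.coord j (1 : AlphaP.A p R) = 0 := by
          rw [← pow_zero (AlphaP.x p R), hcoord j 0 hp.out.pos, if_neg (by simp only [j]; omega)]
        simp [L, h10, hj0]
      rw [hy, hRy] at hLy
      exact (isUnit_natCast_of_lt p (R := R) (by omega) i.2).mul_left_eq_zero.mp hLy.symm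
  refine ⟨b.coord one' y, ?_, fun c hcy => ?_⟩
  · show y = _
    conv_lhs => rw [hc]
    rw [Finset.sum_eq_single one']
    · rw [show ((one' : Fin p) : ℕ) = 1 from rfl, pow_one]
    · intro i _ hi; rw [hkey i (fun h => hi (Fin.ext h)), zero_smul]
    · simp
  · rw [hcy, map_smul, ← pow_one (AlphaP.x p R), hcoord one' 1 hp.out.one_lt, if_pos rfl, smul_eq_mul, mul_one]

theorem alphaP_exists_scaling (c : R) :
    ∃ f : AlphaP.A p R →ₐc[R] AlphaP.A p R, f (AlphaP.x p R) = c • AlphaP.x p R := by
  refine ⟨BialgHom.ofAlgHom (AlphaP.lift p R (c • AlphaP.x p R) (by rw [smul_pow, AlphaP.x_pow, smul_zero])) ?_ ?_,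
    AlphaP.lift_x (p := p) (c • AlphaP.x p R) (by rw [smul_pow, AlphaP.x_pow, smul_zero])⟩
  · apply AlphaP.algHom_ext
    simp
  · apply AlphaP.algHom_ext
    simp [smul_tmul']

theorem alphaP_pow_char (a : AlphaP.A p R) : a ^ p = algebraMap R _ (counit (R := R) a ^ p) := by
  obtain ⟨c, rfl⟩ := alphaP_eq_sum p a
  rw [sum_pow_char p, map_sum, sum_pow_char p, map_sum]
  refine Finset.sum_congr rfl fun i _ => ?_
  by_cases hi : (i : ℕ) = 0
  · simp [hi, Algebra.algebraMap_eq_smul_one, smul_pow]
  · rw [smul_pow, ← pow_mul, mul_comm, pow_mul, AlphaP.x_pow, zero_pow hi, smul_zero, map_smul,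
      alphaP_counit_pow p hi, smul_zero, zero_pow hp.out.ne_zero, map_zero]

end AlphaP

section GroupAlg

variable (p : ℕ) [hp : Fact p.Prime] {R : Type u} [CommRing R] [CharP R p]

theorem monoidAlgebra_pow_char {G : Type v} [CommGroup G] (hG : ∀ g : G, g ^ p = 1) (a : MonoidAlgebra R G) :
    a ^ p = algebraMap R _ (counit (R := R) a ^ p) := by
  haveI : CharP (MonoidAlgebra R G) p :=
    charP_of_injective_algebraMap (Bialgebra.algebraMap_injective (R := R) (MonoidAlgebra R G)) p
  induction a using MonoidAlgebra.induction_linear with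
  | zero => simp [zero_pow hp.out.ne_zero]
  | add f g hf hg => rw [add_pow_char, hf, hg, map_add, add_pow_char, map_add]
  | single g r => simp [MonoidAlgebra.single_pow, hG]

end GroupAlg

theorem monoidAlgebra_primitive_eq_zero {R : Type u} [CommRing R] {G : Type v} [Group G]
    {y : MonoidAlgebra R G} (hy : comul (R := R) y = y ⊗ₜ[R] 1 + 1 ⊗ₜ[R] y) : y = 0 := by
  classical
  let b := MonoidAlgebra.basis G R
  have hb : ∀ g h : G, b.coord g (MonoidAlgebra.single h 1) = if h = g then 1 else 0 := fun g h => by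
    rw [← MonoidAlgebra.basis_apply, Module.Basis.coord_apply, Module.Basis.repr_self, Finsupp.single_apply]
  -- the coefficient of `g ⊗ h`
  let L := fun g h : G => LinearMap.mul' R R ∘ₗ TensorProduct.map (b.coord g) (b.coord h)
  have hL : ∀ (g h : G), L g h (comul (R := R) y) = if g = h then b.coord g y else 0 := by
    intro g h
    have : L g h ∘ₗ comul (R := R) = if g = h then b.coord g else 0 := by
      refine b.ext fun k => ?_
      rw [MonoidAlgebra.basis_apply]
      simp only [LinearMap.coe_comp, Function.comp_apply, L, MonoidAlgebra.comul_single, CommSemiring.comul_apply,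
        TensorProduct.map_tmul, MonoidAlgebra.lsingle_apply, LinearMap.mul'_apply, hb]
      by_cases hgh : g = h
      · subst hgh; by_cases hk : k = g <;> simp [hk, hb]
      · by_cases hk : k = g <;> simp [hk, hgh]
    have h' := LinearMap.congr_fun this y
    simp only [LinearMap.coe_comp, Function.comp_apply] at h'
    rw [show L g h (comul (R := R) y) = _ from h']
    split_ifs <;> rfl
  have h1 : (1 : MonoidAlgebra R G) = MonoidAlgebra.single 1 1 := MonoidAlgebra.one_def
  refine b.ext_elem fun g => ?_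
  rw [map_zero, Finsupp.zero_apply, ← Module.Basis.coord_apply]
  by_cases hg : g = 1
  · subst hg
    have := hL 1 1
    rw [hy, if_pos rfl] at this
    simp only [L, h1, LinearMap.coe_comp, Function.comp_apply, map_add, TensorProduct.map_tmul,
      LinearMap.mul'_apply, hb, if_true, mul_one, one_mul] at this
    simpa using this
  · have := hL g 1
    rw [hy, if_neg hg] at this
    simp only [L, h1, LinearMap.coe_comp, Function.comp_apply, map_add, TensorProduct.map_tmul,
      LinearMap.mul'_apply, hb, if_true, mul_one, if_neg (Ne.symm hg), zero_mul, add_zero] at this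
    exact this

section Dual

variable {R : Type u} [CommRing R] {A : Type v} [CommRing A] [Bialgebra R A]
  [Module.Finite R A] [Module.Projective R A]

theorem exists_eval_eq (φ : CartDual.D R A →ₗ[R] R) : ∃ a : A, ∀ f : CartDual.D R A, φ f = f.ofConv a := by
  obtain ⟨a, ha⟩ := (Module.evalEquiv R A).surjective (φ ∘ₗ (CartDual.toDual R A).symm.toLinearMap)
  refine ⟨a, fun f => ?_⟩
  have := LinearMap.congr_fun ha f.ofConv
  simpa using this.symm

theorem dual_eval_ext {a b : A} (h : ∀ f : CartDual.D R A, f.ofConv a = f.ofConv b) : a = b :=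
  sub_eq_zero.mp ((Module.forall_dual_apply_eq_zero_iff R _).mp fun φ => by
    rw [map_sub, sub_eq_zero]; exact h (toConv φ))

theorem tensor_eval_ext {s t : A ⊗[R] A} (h : ∀ f g : CartDual.D R A,
    CartDual.ev₂ R A (f ⊗ₜ g) s = CartDual.ev₂ R A (f ⊗ₜ g) t) : s = t := by
  refine sub_eq_zero.mp ((Module.forall_dual_apply_eq_zero_iff R _).mp fun φ => ?_)
  obtain ⟨y, rfl⟩ := (CartDual.ev₂ R A).surjective φ
  rw [map_sub, sub_eq_zero]
  induction y using TensorProduct.induction_on with
  | zero => simp
  | add y z hy hz => simp only [map_add, LinearMap.add_apply, hy, hz]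
  | tmul f g => exact h f g

theorem dual_mul_apply (f g : CartDual.D R A) (a : A) :
    (f * g).ofConv a = CartDual.ev₂ R A (f ⊗ₜ g) (comul (R := R) a) := by
  rw [CartDual.ev₂_tmul_eq']
  rfl

theorem exists_groupLike_of_point (φ : CartDual.D R A →ₐ[R] R) :
    ∃ a : A, counit (R := R) a = 1 ∧ comul (R := R) a = a ⊗ₜ[R] a ∧
      ∀ f : CartDual.D R A, φ f = f.ofConv a := by
  obtain ⟨a, ha⟩ := exists_eval_eq φ.toLinearMap
  refine ⟨a, ?_, tensor_eval_ext fun f g => ?_, ha⟩
  · have := (ha 1).symm.trans (map_one φ)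
    rwa [LinearMap.convOne_apply, Algebra.algebraMap_self, RingHom.id_apply] at this
  · rw [← dual_mul_apply, ← ha, AlgHom.toLinearMap_apply, map_mul, CartDual.ev₂_tmul]
    exact congrArg₂ (· * ·) (ha f) (ha g)

end Dual

section Classify

variable {k : Type u} [Field k] {A : Type v} [CommRing A] [HopfAlgebra k A]

theorem exists_primitive_of_pointDer [Module.Finite k A] [Coalgebra.IsCocomm k A]
    {d : CartDual.D k A →ₗ[k] k} (hd : IsPointDer d) (hne : d ≠ 0) :
    ∃ y : A, y ≠ 0 ∧ comul (R := k) y = y ⊗ₜ[k] 1 + 1 ⊗ₜ[k] y := by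
  obtain ⟨y, hy⟩ := exists_eval_eq d
  refine ⟨y, fun h0 => hne (LinearMap.ext fun f => by rw [hy, h0, map_zero]; rfl), tensor_eval_ext fun f g => ?_⟩
  rw [← dual_mul_apply, ← hy, hd f g, hy, hy, map_add, CartDual.ev₂_tmul, CartDual.ev₂_tmul]
  rfl

variable [IsAlgClosed k] [Module.Finite k A] {p : ℕ} [hp : Fact p.Prime]
  (hA : Module.finrank k A = p)
include hA

theorem nonempty_bialgEquiv_constGrp {g₀ : WithConv (A →ₐ[k] k)} (hg : g₀ ^ p = 1)
    (hli : LinearIndependent k (fun i : Fin p => (g₀ ^ (i : ℕ)).ofConv.toLinearMap)) :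
    Nonempty (A ≃ₐc[k] ConstGrp.F k (Multiplicative (ZMod p))) := by
  classical
  let G := Multiplicative (ZMod p)
  let e : G → ℕ := fun i => (Multiplicative.toAdd i).val
  have hmod : ∀ n, g₀ ^ (n % p) = g₀ ^ n := fun n => (pow_eq_pow_mod n hg).symm
  have he : ∀ i j : G, g₀ ^ e (i * j) = g₀ ^ e i * g₀ ^ e j := fun i j => by
    rw [show e (i * j) = (e i + e j) % p from ZMod.val_add _ _, hmod, pow_add]
  let Φ : A →ₐ[k] ConstGrp.F k G := Pi.algHom k (fun _ : G => k) fun i => (g₀ ^ e i).ofConv
  have hΦ : ∀ a i, Φ a i = (g₀ ^ e i).ofConv a := fun a i => rfl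
  let ψ : A →ₐc[k] ConstGrp.F k G := BialgHom.ofAlgHom Φ (by
      refine AlgHom.ext fun a => ?_
      show Φ a 1 = counit (R := k) a
      rw [hΦ, show e 1 = 0 from ZMod.val_zero, pow_zero]
      simp) (by
      refine AlgHom.ext fun a => ?_
      simp only [AlgHom.comp_apply, Bialgebra.comulAlgHom_apply]
      rw [ConstGrp.comul_eq_sum, ← (ℛ k a).eq, map_sum]
      simp only [Algebra.TensorProduct.map_tmul]
      simp_rw [hΦ, he, AlgHom.convMul_apply]
      rw [Finset.sum_congr rfl fun l _ => by
        rw [ConstGrp.eq_sum_smul_e (Φ ((ℛ k a).left l)), ConstGrp.eq_sum_smul_e (Φ ((ℛ k a).right l)),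
          TensorProduct.sum_tmul]]
      simp only [TensorProduct.tmul_sum, smul_tmul_smul, hΦ]
      rw [Finset.sum_comm]
      refine Finset.sum_congr rfl fun i _ => ?_
      rw [Finset.sum_comm]
      refine Finset.sum_congr rfl fun j _ => ?_
      rw [← Finset.sum_smul]
      refine congrArg (· • _) ?_
      rw [← (ℛ k a).eq, map_sum]
      exact Finset.sum_congr rfl fun l _ => (Algebra.TensorProduct.lift_tmul _ _ _ _ _).symm)
  have hinj : Function.Injective ψ := by
    refine (injective_iff_map_eq_zero ψ).mpr fun a ha => ?_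
    refine (Module.forall_dual_apply_eq_zero_iff k a).mp fun φ => ?_
    have hcard : Fintype.card (Fin p) = Module.finrank k (Module.Dual k A) := by
      rw [Fintype.card_fin, Subspace.dual_finrank_eq, hA]
    have hm : φ ∈ Submodule.span k (Set.range fun i : Fin p => (g₀ ^ (i : ℕ)).ofConv.toLinearMap) :=
      (hli.span_eq_top_of_card_eq_finrank hcard).symm ▸ Submodule.mem_top
    induction hm using Submodule.span_induction with
    | mem x hx =>
      obtain ⟨i, rfl⟩ := hx
      have := congrFun (show Φ a = 0 from ha) (Multiplicative.ofAdd ((i : ℕ) : ZMod p))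
      rw [hΦ] at this
      simpa [e, ZMod.val_natCast, Nat.mod_eq_of_lt i.2] using this
    | zero => rfl
    | add x y _ _ hx hy => rw [LinearMap.add_apply, hx, hy, add_zero]
    | smul c x _ hx => rw [LinearMap.smul_apply, hx, smul_zero]
  haveI : Module.Finite k (ConstGrp.F k G) := inferInstance
  refine ⟨BialgEquiv.ofBijective ψ ⟨hinj, ?_⟩⟩
  refine (LinearMap.injective_iff_surjective_of_finrank_eq_finrank (f := ψ.toLinearMap) ?_).mp hinj
  rw [hA, show Module.finrank k (ConstGrp.F k G) = Module.finrank k (G → k) from rfl,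
    Module.finrank_fintype_fun_eq_card]
  simp [G]

theorem nonempty_bialgEquiv_monoidAlgebra [Coalgebra.IsCocomm k A] {g₀ : WithConv (CartDual.D k A →ₐ[k] k)}
    (hg : g₀ ^ p = 1) (hli : LinearIndependent k (fun i : Fin p => (g₀ ^ (i : ℕ)).ofConv.toLinearMap)) :
    Nonempty (A ≃ₐc[k] MonoidAlgebra k (Multiplicative (ZMod p))) := by
  classical
  obtain ⟨a, hε, hΔ, ha⟩ := exists_groupLike_of_point g₀.ofConv
  -- powers of the point evaluate at powers of `a`
  have hpow : ∀ (n : ℕ) (f : CartDual.D k A), (g₀ ^ n).ofConv f = f.ofConv (a ^ n) := by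
    intro n
    induction n with
    | zero =>
      intro f
      rw [pow_zero g₀, pow_zero a, AlgHom.convOne_apply]
      rfl
    | succ n ih =>
      intro f
      rw [pow_succ g₀, pow_succ a, AlgHom.convMul_apply, ← CartDual.ev₂_coalgebra_comul_tmul k A f]
      induction comul (R := k) (A := CartDual.D k A) f using TensorProduct.induction_on with
      | zero => simp
      | add y z hy hz => simp only [map_add, LinearMap.add_apply, hy, hz]
      | tmul g h => rw [Algebra.TensorProduct.lift_tmul, CartDual.ev₂_tmul, ih, ha]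
  have hap : a ^ p = 1 := dual_eval_ext fun f => by
    rw [← hpow, hg]; simp
  let G := Multiplicative (ZMod p)
  let μ : G →* A :=
    { toFun := fun i => a ^ (Multiplicative.toAdd i).val
      map_one' := by simp
      map_mul' := fun i j => by rw [toAdd_mul, ZMod.val_add, ← pow_eq_pow_mod _ hap, pow_add] }
  let Φ : MonoidAlgebra k G →ₐ[k] A := MonoidAlgebra.lift k A G μ
  have hΦ : ∀ i, Φ (MonoidAlgebra.single i 1) = a ^ (Multiplicative.toAdd i).val := fun i => by
    simp [Φ, MonoidAlgebra.lift_single, μ]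
  let ψ : MonoidAlgebra k G →ₐc[k] A := BialgHom.ofAlgHom Φ (by
      refine MonoidAlgebra.algHom_ext (fun i => ?_) (Subsingleton.elim _ _)
      simp only [AlgHom.comp_apply, Bialgebra.counitAlgHom_apply, hΦ, MonoidAlgebra.counit_single]
      rw [← Bialgebra.counitAlgHom_apply, map_pow, Bialgebra.counitAlgHom_apply, hε, one_pow]
      simp) (by
      refine MonoidAlgebra.algHom_ext (fun i => ?_) (Subsingleton.elim _ _)
      simp only [AlgHom.comp_apply, Bialgebra.comulAlgHom_apply, hΦ, MonoidAlgebra.comul_single,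
        CommSemiring.comul_apply, TensorProduct.map_tmul, MonoidAlgebra.lsingle_apply, Algebra.TensorProduct.map_tmul]
      rw [← Bialgebra.comulAlgHom_apply, map_pow, Bialgebra.comulAlgHom_apply, hΔ, Algebra.TensorProduct.tmul_pow])
  have hsurj : Function.Surjective ψ := by
    show Function.Surjective ψ.toLinearMap
    rw [← LinearMap.range_eq_top]
    by_contra hne
    obtain ⟨φ, hφ0, hle⟩ := Submodule.exists_le_ker_of_lt_top _ (lt_top_iff_ne_top.mpr hne)
    haveI : Module.Finite k (CartDual.D k A) := inferInstance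
    have hcard : Fintype.card (Fin p) = Module.finrank k (Module.Dual k (CartDual.D k A)) := by
      rw [Fintype.card_fin, Subspace.dual_finrank_eq, (CartDual.toDual k A).finrank_eq,
        Subspace.dual_finrank_eq, hA]
    have hspan := hli.span_eq_top_of_card_eq_finrank hcard
    have h0 : toConv φ = (0 : CartDual.D k A) := (Module.forall_dual_apply_eq_zero_iff k _).mp fun Φ' => by
      have hm : Φ' ∈ Submodule.span k (Set.range fun i : Fin p => (g₀ ^ (i : ℕ)).ofConv.toLinearMap) :=
        hspan.symm ▸ Submodule.mem_top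
      induction hm using Submodule.span_induction with
      | mem x hx =>
        obtain ⟨i, rfl⟩ := hx
        show (g₀ ^ (i : ℕ)).ofConv (toConv φ) = 0
        rw [hpow]
        refine LinearMap.mem_ker.mp (hle ⟨MonoidAlgebra.single (Multiplicative.ofAdd ((i : ℕ) : ZMod p)) 1, ?_⟩)
        show Φ _ = _
        rw [hΦ]
        simp [ZMod.val_natCast, Nat.mod_eq_of_lt i.2]
      | zero => rfl
      | add x y _ _ hx hy => rw [LinearMap.add_apply, hx, hy, add_zero]
      | smul c x _ hx => rw [LinearMap.smul_apply, hx, smul_zero]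
    exact hφ0 (congrArg WithConv.ofConv h0)
  haveI : Module.Finite k (MonoidAlgebra k G) := Module.Finite.of_basis (MonoidAlgebra.basis G k)
  refine ⟨(BialgEquiv.ofBijective ψ ⟨?_, hsurj⟩).symm⟩
  refine (LinearMap.injective_iff_surjective_of_finrank_eq_finrank (f := ψ.toLinearMap) ?_).mpr hsurj
  rw [hA, Module.finrank_eq_card_basis (MonoidAlgebra.basis G k)]
  simp [G]

theorem nonempty_bialgEquiv_alphaP [CharP k p] (hr : ¬ IsReduced A) {y : A} (hy0 : y ≠ 0)
    (hy : comul (R := k) y = y ⊗ₜ[k] 1 + 1 ⊗ₜ[k] y) : Nonempty (A ≃ₐc[k] AlphaP.A p k) := by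
  classical
  obtain ⟨δ, hδ, hne⟩ := exists_pointDer_of_not_isReduced (k := k) hr
  obtain ⟨a, ha⟩ : ∃ a, δ a ≠ 0 := by
    by_contra h; push Not at h; exact hne (LinearMap.ext h)
  let x := (δ a)⁻¹ • (a - algebraMap k A (counit (R := k) a))
  have hx : counit (R := k) x = 0 := by simp [x, map_sub, Bialgebra.counit_algebraMap]
  have hxδ : δ x = 1 := by
    rw [map_smul, map_sub, pointDer_algebraMap hδ, sub_zero, smul_eq_mul, inv_mul_cancel₀ ha]
  have hεy : counit (R := k) y = 0 := by
    have h1 := congrArg (fun t => TensorProduct.rid k _ ((counit (R := k) (A := A)).lTensor _ t)) hy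
    simp only [lTensor_counit_comul, map_add, LinearMap.lTensor_tmul, TensorProduct.rid_tmul, one_smul,
      Bialgebra.counit_one] at h1
    have h2 : counit (R := k) y • (1 : A) = 0 := by simpa using h1
    have h3 := congrArg (counit (R := k)) h2
    simpa using h3
  have hδy : δ y ≠ 0 := by
    intro h0
    apply hy0
    refine (Module.forall_dual_apply_eq_zero_iff k y).mp fun φ => ?_
    have hm : toConv φ ∈ Submodule.span k (Set.range fun i : Fin p => toConv δ ^ (i : ℕ)) :=
      (span_pow_pointDer hA hδ hx hxδ).symm ▸ Submodule.mem_top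
    suffices h : ∀ g : CartDual.D k A, g ∈ Submodule.span k (Set.range fun i : Fin p => toConv δ ^ (i : ℕ)) →
        g.ofConv y = 0 from h _ hm
    intro g hg
    have hj : ∀ j : ℕ, (toConv δ ^ j) y = 0 ∧ (toConv δ ^ (j + 1)) (1 : A) = 0 := by
      intro j
      induction j with
      | zero => exact ⟨by simpa using hεy, by simpa using pointDer_one hδ⟩
      | succ j ih =>
        constructor
        · rw [pow_succ, LinearMap.convMul_apply, hy]
          simp [ih.1, h0, pointDer_one hδ]
        · rw [pow_succ, LinearMap.convMul_apply, Bialgebra.comul_one, Algebra.TensorProduct.one_def]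
          simp [ih.2, pointDer_one hδ]
    induction hg using Submodule.span_induction with
    | mem f hf => obtain ⟨i, rfl⟩ := hf; exact (hj i).1
    | zero => rfl
    | add f g _ _ hf hg => rw [WithConv.ofConv_add, LinearMap.add_apply, hf, hg, add_zero]
    | smul c f _ hf => rw [WithConv.ofConv_smul, LinearMap.smul_apply, hf, smul_zero]
  let δ' := (δ y)⁻¹ • δ
  have hδ' : IsPointDer δ' := fun b c => by
    simp only [δ', LinearMap.smul_apply, smul_eq_mul, hδ b c]; ring
  have hδ'y : δ' y = 1 := by simp [δ', hδy]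
  have hyp : y ^ p = 0 := pow_char_eq_zero hA hδ' hεy hδ'y
  have hspan := pow_spans hA hδ' hεy hδ'y
  let Φ : AlphaP.A p k →ₐ[k] A := AlphaP.lift p k y hyp
  have hΦ : Φ (AlphaP.x p k) = y := AlphaP.lift_x _ _
  let ψ : AlphaP.A p k →ₐc[k] A := BialgHom.ofAlgHom Φ (by
      apply AlphaP.algHom_ext
      simp [hΦ, hεy]) (by
      apply AlphaP.algHom_ext
      simp [hΦ, hy])
  have hsurj : Function.Surjective ψ := by
    show Function.Surjective ψ.toLinearMap
    rw [← LinearMap.range_eq_top, eq_top_iff, ← hspan, Submodule.span_le]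
    rintro _ ⟨i, rfl⟩
    exact ⟨AlphaP.x p k ^ (i : ℕ), (map_pow Φ _ _).trans (by rw [hΦ])⟩
  refine ⟨(BialgEquiv.ofBijective ψ ⟨?_, hsurj⟩).symm⟩
  refine (LinearMap.injective_iff_surjective_of_finrank_eq_finrank (f := ψ.toLinearMap) ?_).mpr hsurj
  rw [hA, AlphaP.finrank_eq]

end Classify

end

end Groth.Agent.H20OT
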