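import Groth.Agent.H20OT.Dual
import Mathlib.LinearAlgebra.TensorAlgebra.Basic
import Mathlib.Algebra.Group.Pointwise.Set.ListOfFn

/-!
Presentation of a group of prime order by the eigen line `I₁`, the universal constants, and the pairing.
-/

set_option autoImplicit false

universe u v

open TensorProduct WithConv Coalgebra OortTate

namespace Groth.Agent.H20OT

noncomputable section

theorem algHom_one {R B C : Type*} [CommSemiring R] [Semiring B] [Semiring C] [Algebra R B] [Algebra R C]
    (f : B →ₐ[R] C) : f 1 = 1 := map_one f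

theorem algHom_prod {R B C : Type*} [CommSemiring R] [CommSemiring B] [CommSemiring C] [Algebra R B] [Algebra R C]
    {ι : Type*} (f : B →ₐ[R] C) (s : Finset ι) (g : ι → B) : f (∏ i ∈ s, g i) = ∏ i ∈ s, f (g i) := map_prod f g s

theorem injective_of_factor {R : Type u} [CommRing R] {M N X Q : Type*} [AddCommGroup M] [Module R M]
    [AddCommGroup N] [Module R N] [AddCommGroup X] [Module R X] [AddCommGroup Q] [Module R Q]
    [Module.Finite R M] [Module.Projective R M] [Module.Finite R N] [Module.Projective R N] [Module.Finite R Q]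
    [Module.Projective R Q] (hM : ∀ q : PrimeSpectrum R, Module.rankAtStalk M q = 1)
    (hN : ∀ q : PrimeSpectrum R, Module.rankAtStalk N q = 1) (hQ : ∀ q : PrimeSpectrum R, Module.rankAtStalk Q q = 1)
    (μ : M ⊗[R] N →ₗ[R] X) (g : X →ₗ[R] Q) (hμ : Function.Surjective μ) (hg : Function.Surjective g) :
    Function.Injective g := by
  have hb : Function.Bijective (g ∘ₗ μ) := bijective_of_surjective (g ∘ₗ μ) (by exact hg.comp hμ) fun q => by
    rw [Module.rankAtStalk_tensorProduct, Pi.mul_apply, hM, hN, hQ]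
  intro a b hab
  obtain ⟨s, rfl⟩ := hμ a
  obtain ⟨t, rfl⟩ := hμ b
  rw [hb.1 (a₁ := s) (a₂ := t) hab]

section Order

variable {R : Type u} [CommRing R] {A : Type u} [CommRing A] [HopfAlgebra R A] [Module.Finite R A]
  [Module.Projective R A] {p : ℕ} [Fact p.Prime] {u : R} {χ : (ZMod p)ˣ →* Rˣ}
  (hrk : ∀ q : PrimeSpectrum R, Module.rankAtStalk A q = p)
  (hu : u * ((p - 1 : ℕ) : R) = 1) (hχ : ∀ m : (ZMod p)ˣ, m ≠ 1 → IsUnit ((χ m : R) - 1))
  (hχp : ∀ m : (ZMod p)ˣ, ((χ m : Rˣ) : R) - (((m : ZMod p).val : ℕ) : R) ∈ Ideal.span ({(p : R)} : Set R))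

omit [Module.Finite R A] [Module.Projective R A] in
theorem chi_pow_congr {i j : ℕ} (h : i % (p - 1) = j % (p - 1)) (m : (ZMod p)ˣ) :
    (χ m : R) ^ i = (χ m : R) ^ j := by
  rw [← Units.val_pow_eq_pow_val, ← Units.val_pow_eq_pow_val, ← Nat.mod_add_div i (p - 1),
    ← Nat.mod_add_div j (p - 1), pow_add, pow_add, pow_mul, pow_mul, pow_card_chi, one_pow, one_pow, h]

omit [Module.Finite R A] [Module.Projective R A] in
theorem eigenAug_congr {i j : ℕ} (h : i % (p - 1) = j % (p - 1)) :
    eigenAug R A p χ i = eigenAug R A p χ j := by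
  ext b
  simp only [mem_eigenAug, chi_pow_congr h]

omit [Module.Finite R A] [Module.Projective R A] in
theorem prime_one_mod : p % (p - 1) = 1 % (p - 1) := by
  have h := Nat.add_mod_right 1 (p - 1)
  rwa [show 1 + (p - 1) = p by have := (Fact.out : p.Prime).one_le; omega] at h

include hχ in
omit [Module.Finite R A] [Module.Projective R A] in
theorem prod_mem_eigenAug {n : ℕ} (hn : 1 ≤ n) (f : Fin n → eigenAug R A p χ 1) :
    ∏ i, (f i : A) ∈ eigenAug R A p χ n := by
  refine pow_le_eigenAug hχ n hn ?_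
  rw [Submodule.pow_eq_span_pow_set]
  refine Submodule.subset_span (Set.mem_pow.mpr ⟨fun i => ⟨f i, (f i).2⟩, ?_⟩)
  rw [List.prod_ofFn]

include hrk hu hχ hχp

/-- The presentation map. -/
theorem lift_surjective :
    Function.Surjective (TensorAlgebra.lift R (eigenAug R A p χ 1).subtype) := by
  have hle : Algebra.adjoin R (eigenAug R A p χ 1 : Set A) ≤
      (TensorAlgebra.lift R (eigenAug R A p χ 1).subtype).range := by
    refine Algebra.adjoin_le fun x hx => ⟨TensorAlgebra.ι R ⟨x, hx⟩, ?_⟩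
    simp
  rw [adjoin_eigenAug_one hrk hu hχ hχp] at hle
  exact fun a => hle Algebra.mem_top

/-- degree `t` of the presentation is bijective onto `I_t` -/
theorem lift_inj_on_pow {t : ℕ} (h1 : 1 ≤ t) (h2 : t ≤ p - 1) :
    ∀ z ∈ LinearMap.range (TensorAlgebra.ι R (M := eigenAug R A p χ 1)) ^ t,
      TensorAlgebra.lift R (eigenAug R A p χ 1).subtype z = 0 → z = 0 := by
  have hp := convPow_id_eq_one hrk
  set P := LinearMap.range (TensorAlgebra.ι R (M := eigenAug R A p χ 1)) with hP
  set L := TensorAlgebra.lift R (eigenAug R A p χ 1).subtype with hL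
  have hmap : ∀ n, Submodule.map L.toLinearMap (P ^ n) = eigenAug R A p χ 1 ^ n := by
    intro n
    rw [Submodule.map_pow]
    congr 1
    rw [hP, ← LinearMap.range_comp, show L.toLinearMap ∘ₗ TensorAlgebra.ι R = (eigenAug R A p χ 1).subtype from
      LinearMap.ext fun x => by simp [hL], Submodule.range_subtype]
  suffices H : ∀ t, 1 ≤ t → t ≤ p - 1 → ∃ e : (P ^ t : Submodule R _) ≃ₗ[R] eigenAug R A p χ t, ∀ z, (e z : A) = L z by
    intro z hz h0
    obtain ⟨e, he⟩ := H t h1 h2
    have : e ⟨z, hz⟩ = 0 := Subtype.ext (by rw [he]; exact h0)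
    simpa using congrArg Subtype.val ((LinearEquiv.map_eq_zero_iff e).mp this)
  intro t ht1
  induction t, ht1 using Nat.le_induction with
  | base =>
    intro _
    let g : (P ^ 1 : Submodule R _) →ₗ[R] eigenAug R A p χ 1 :=
      (L.toLinearMap ∘ₗ (P ^ 1).subtype).codRestrict _ fun z => by
        have := Submodule.mem_map_of_mem (f := L.toLinearMap) z.2
        rw [hmap, pow_one] at this
        exact this
    refine ⟨LinearEquiv.ofBijective g ⟨fun a b hab => Subtype.ext ?_, fun x => ?_⟩, fun z => rfl⟩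
    · have ha : (a : TensorAlgebra R (eigenAug R A p χ 1)) ∈ P := by simpa using a.2
      have hb : (b : TensorAlgebra R (eigenAug R A p χ 1)) ∈ P := by simpa using b.2
      obtain ⟨x, hx⟩ := ha
      obtain ⟨y, hy⟩ := hb
      have h := congrArg Subtype.val hab
      change L (a : TensorAlgebra R _) = L (b : TensorAlgebra R _) at h
      rw [← hx, ← hy, hL, TensorAlgebra.lift_ι_apply, TensorAlgebra.lift_ι_apply] at h
      rw [← hx, ← hy, Subtype.ext h]
    · refine ⟨⟨TensorAlgebra.ι R x, by rw [pow_one]; exact ⟨x, rfl⟩⟩, Subtype.ext ?_⟩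
      show L (TensorAlgebra.ι R x) = _
      simp [hL]
  | succ n hn ih =>
    intro hle
    obtain ⟨e, he⟩ := ih (by omega)
    haveI := eigenAug_finite (A := A) hp hu hχ 1
    haveI := eigenAug_projective (A := A) hp hu hχ 1
    haveI := eigenAug_finite (A := A) hp hu hχ n
    haveI := eigenAug_projective (A := A) hp hu hχ n
    haveI := eigenAug_finite (A := A) hp hu hχ (n + 1)
    haveI := eigenAug_projective (A := A) hp hu hχ (n + 1)
    haveI : Module.Finite R (P ^ n : Submodule R _) := Module.Finite.equiv e.symm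
    haveI : Module.Projective R (P ^ n : Submodule R _) := Module.Projective.of_equiv e.symm
    -- multiplication onto the next degree
    let μ : (eigenAug R A p χ 1) ⊗[R] (P ^ n : Submodule R _) →ₗ[R] (P ^ (n + 1) : Submodule R _) :=
      TensorProduct.lift
        { toFun := fun x =>
            (LinearMap.mulLeft R (TensorAlgebra.ι R x) ∘ₗ (P ^ n).subtype).codRestrict _ fun z => by
              rw [pow_succ']; exact Submodule.mul_mem_mul ⟨x, rfl⟩ z.2
          map_add' := fun x y => LinearMap.ext fun z => Subtype.ext (by simp [add_mul])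
          map_smul' := fun r x => LinearMap.ext fun z => Subtype.ext (by simp) }
    have hμ : Function.Surjective μ := by
      intro w
      have hw : (w : TensorAlgebra R (eigenAug R A p χ 1)) ∈ P * P ^ n := by rw [← pow_succ']; exact w.2
      suffices ∃ s, ((μ s : (P ^ (n + 1) : Submodule R _)) : TensorAlgebra R (eigenAug R A p χ 1)) = w from
        ⟨this.choose, Subtype.ext this.choose_spec⟩
      refine Submodule.mul_induction_on hw (fun a ha b hb => ?_) (fun a b ha hb => ?_)
      · obtain ⟨x, rfl⟩ := ha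
        exact ⟨x ⊗ₜ[R] ⟨b, hb⟩, rfl⟩
      · obtain ⟨s, hs⟩ := ha
        obtain ⟨s', hs'⟩ := hb
        exact ⟨s + s', by rw [map_add, Submodule.coe_add, hs, hs']⟩
    let g : (P ^ (n + 1) : Submodule R _) →ₗ[R] eigenAug R A p χ (n + 1) :=
      (L.toLinearMap ∘ₗ (P ^ (n + 1)).subtype).codRestrict _ fun z => by
        have := Submodule.mem_map_of_mem (f := L.toLinearMap) z.2
        rw [hmap, pow_eigenAug_eq hrk hu hχ hχp (by omega) hle] at this
        exact this
    have hg : Function.Surjective g := by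
      intro x
      have hx : (x : A) ∈ Submodule.map L.toLinearMap (P ^ (n + 1)) := by
        rw [hmap, pow_eigenAug_eq hrk hu hχ hχp (by omega) hle]; exact x.2
      obtain ⟨z, hz, hzx⟩ := hx
      exact ⟨⟨z, hz⟩, Subtype.ext hzx⟩
    have hN : ∀ q, Module.rankAtStalk (P ^ n : Submodule R _) q = 1 := fun q =>
      (congrFun (Module.rankAtStalk_eq_of_equiv e) q).trans (rank_eigenAug hrk hu hχ hχp n q)
    exact ⟨LinearEquiv.ofBijective g ⟨injective_of_factor (rank_eigenAug hrk hu hχ hχp 1) hN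
      (rank_eigenAug hrk hu hχ hχp (n + 1)) μ g hμ hg, hg⟩, fun z => rfl⟩

/-- The kernel of the presentation. -/
theorem ker_lift :
    RingHom.ker (TensorAlgebra.lift R (eigenAug R A p χ 1).subtype) =
      Ideal.span {x : TensorAlgebra R (eigenAug R A p χ 1) |
        ∃ (f : Fin p → eigenAug R A p χ 1) (g : eigenAug R A p χ 1),
          (g : A) = ∏ i, (f i : A) ∧
          x = (List.ofFn fun i => TensorAlgebra.ι R (f i)).prod - TensorAlgebra.ι R g} := by
  have hp := convPow_id_eq_one hrk
  set G := {x : TensorAlgebra R (eigenAug R A p χ 1) |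
        ∃ (f : Fin p → eigenAug R A p χ 1) (g : eigenAug R A p χ 1),
          (g : A) = ∏ i, (f i : A) ∧
          x = (List.ofFn fun i => TensorAlgebra.ι R (f i)).prod - TensorAlgebra.ι R g} with hG
  set L := TensorAlgebra.lift R (eigenAug R A p χ 1).subtype with hL
  set P := LinearMap.range (TensorAlgebra.ι R (M := eigenAug R A p χ 1)) with hP
  have hJker : Ideal.span G ≤ RingHom.ker L := by
    refine Ideal.span_le.mpr ?_
    rintro _ ⟨f, g, hfg, rfl⟩
    rw [SetLike.mem_coe, RingHom.mem_ker, map_sub, map_list_prod, List.map_ofFn, sub_eq_zero, hL,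
      TensorAlgebra.lift_ι_apply, List.prod_ofFn]
    simp [hfg]
  refine le_antisymm (fun z hz => ?_) hJker
  let S : Submodule R (TensorAlgebra R (eigenAug R A p χ 1)) :=
    (⨆ t : Fin p, P ^ (t : ℕ)) ⊔ (Ideal.span G).restrictScalars R
  have hPS : ∀ a ∈ P, ∀ s ∈ S, a * s ∈ S := by
    intro a ha s hs
    obtain ⟨s₁, hs₁, s₂, hs₂, rfl⟩ := Submodule.mem_sup.mp hs
    rw [mul_add]
    refine add_mem ?_ (Submodule.mem_sup_right (Ideal.mul_mem_left _ _ hs₂))
    refine Submodule.iSup_induction (fun t : Fin p => P ^ (t : ℕ)) (motive := fun x => a * x ∈ S) hs₁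
      (fun t x hx => ?_) (by simp) (fun x y hx hy => by rw [mul_add]; exact add_mem hx hy)
    · have hx' : a * x ∈ P ^ ((t : ℕ) + 1) := by rw [pow_succ']; exact Submodule.mul_mem_mul ha hx
      rcases eq_or_lt_of_le (Nat.succ_le_of_lt t.2) with heq | hlt
      · rw [show (t : ℕ) + 1 = p from heq, Submodule.pow_eq_span_pow_set] at hx'
        refine Submodule.span_le.mpr ?_ hx'
        intro w hw
        obtain ⟨F, rfl⟩ := Set.mem_pow.mp hw
        choose f hf using fun i => (F i).2
        have hg : ∏ i, (f i : A) ∈ eigenAug R A p χ 1 := by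
          have h := prod_mem_eigenAug hχ (Fact.out : p.Prime).one_le f
          rw [eigenAug_congr (A := A) (χ := χ) (prime_one_mod (p := p))] at h
          exact h
        rw [SetLike.mem_coe, show (List.ofFn fun i => (F i : TensorAlgebra R (eigenAug R A p χ 1))).prod =
            TensorAlgebra.ι R ⟨_, hg⟩ + ((List.ofFn fun i => TensorAlgebra.ι R (f i)).prod -
              TensorAlgebra.ι R ⟨_, hg⟩) by rw [add_sub_cancel]; simp only [hf]]
        refine add_mem (Submodule.mem_sup_left (Submodule.mem_iSup_of_mem ⟨1, (Fact.out : p.Prime).one_lt⟩ ?_))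
          (Submodule.mem_sup_right (Ideal.subset_span ⟨f, ⟨_, hg⟩, rfl, rfl⟩))
        show TensorAlgebra.ι R _ ∈ P ^ 1
        rw [pow_one]
        exact ⟨_, rfl⟩
      · exact Submodule.mem_sup_left (Submodule.mem_iSup_of_mem ⟨(t : ℕ) + 1, hlt⟩ hx')
  have hall : ∀ w : TensorAlgebra R (eigenAug R A p χ 1), ∀ s ∈ S, w * s ∈ S := by
    intro w
    induction w using TensorAlgebra.induction with
    | algebraMap r => intro s hs; rw [← Algebra.smul_def]; exact S.smul_mem r hs
    | ι x => exact hPS _ ⟨x, rfl⟩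
    | mul a b ha hb => intro s hs; rw [mul_assoc]; exact ha _ (hb s hs)
    | add a b ha hb => intro s hs; rw [add_mul]; exact add_mem (ha s hs) (hb s hs)
  have hz' : z ∈ S := by
    have h := hall z 1 (Submodule.mem_sup_left (Submodule.mem_iSup_of_mem ⟨0, (Fact.out : p.Prime).pos⟩
      (by rw [pow_zero]; exact Submodule.one_le.mp le_rfl)))
    rwa [mul_one] at h
  obtain ⟨z₁, hz₁, z₂, hz₂, rfl⟩ := Submodule.mem_sup.mp hz'
  obtain ⟨a, ha⟩ := (Submodule.mem_iSup_iff_exists_finsupp _ _).mp hz₁
  suffices ∀ t, a t = 0 by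
    rw [← ha.2, Finsupp.sum, Finset.sum_eq_zero fun t _ => this t, zero_add]
    exact hz₂
  have hsum : ∑ t : Fin p, L (a t) = 0 := by
    rw [RingHom.mem_ker, map_add, show L z₂ = 0 from hJker hz₂, add_zero, ← ha.2,
      Finsupp.sum_fintype _ _ (fun _ => rfl), map_sum] at hz
    exact hz
  have hmem : ∀ t : Fin p, (t : ℕ) ≠ 0 → L (a t) ∈ eigenAug R A p χ (t : ℕ) := by
    intro t ht
    have h := Submodule.mem_map_of_mem (f := L.toLinearMap) (ha.1 t)
    rw [Submodule.map_pow, hP, ← LinearMap.range_comp, show L.toLinearMap ∘ₗ TensorAlgebra.ι R =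
      (eigenAug R A p χ 1).subtype from LinearMap.ext fun x => by simp [hL], Submodule.range_subtype] at h
    exact pow_le_eigenAug hχ _ (by omega) h
  let z0 : Fin p := ⟨0, (Fact.out : p.Prime).pos⟩
  have ha0 : a z0 = 0 := by
    have h := ha.1 z0
    rw [show ((z0 : Fin p) : ℕ) = 0 from rfl, pow_zero, Submodule.mem_one] at h
    obtain ⟨r, hr⟩ := h
    have h0 := congrArg (Bialgebra.counitAlgHom R A) hsum
    rw [map_sum, map_zero, Finset.sum_eq_single z0 (fun t _ ht => by
      simpa using (mem_eigenAug.mp (hmem t (fun h => ht (Fin.ext h)))).1) (by simp)] at h0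
    rw [← hr, AlgHom.commutes, AlgHom.commutes, Algebra.algebraMap_self, RingHom.id_apply] at h0
    rw [← hr, h0, map_zero]
  intro t
  by_cases ht : (t : ℕ) = 0
  · rw [show t = z0 from Fin.ext ht]; exact ha0
  refine lift_inj_on_pow hrk hu hχ hχp (by omega) (by have := t.2; omega) _ (ha.1 t) ?_
  have h := congrArg (proj R A p u χ (t : ℕ)) hsum
  rw [map_sum, map_zero, Finset.sum_eq_single t (fun s _ hs => by
    by_cases hs0 : (s : ℕ) = 0
    · rw [show s = z0 from Fin.ext hs0, ha0, map_zero, map_zero]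
    · rw [proj_of_mem hu hχ (hmem s hs0), if_neg fun h => hs (Fin.ext ?_)]
      rw [rep1_unique (i := (t : ℕ)) (by omega) (by have := s.2; omega) h.symm,
        ← rep1_unique (i := (t : ℕ)) (by omega) (by have := t.2; omega) rfl]) (by simp),
    proj_of_mem hu hχ (hmem t ht), if_pos rfl] at h
  exact h

/-- Maps out of a group of prime order are given by the eigen line. -/
theorem exists_algHom_of_compat {S : Type v} [CommRing S] [Algebra R S] (l : eigenAug R A p χ 1 →ₗ[R] S)
    (hl : ∀ (f : Fin p → eigenAug R A p χ 1) (g : eigenAug R A p χ 1), (g : A) = ∏ i, (f i : A) →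
      l g = ∏ i, l (f i)) :
    ∃ φ : A →ₐ[R] S, ∀ x : eigenAug R A p χ 1, φ (x : A) = l x := by
  set L := TensorAlgebra.lift R (eigenAug R A p χ 1).subtype with hL
  set M := TensorAlgebra.lift R l with hM
  have hs := lift_surjective hrk hu hχ hχp (A := A)
  have hker : ∀ z, L z = 0 → M z = 0 := by
    intro z hz
    have hz' : z ∈ RingHom.ker L := hz
    rw [hL, ker_lift hrk hu hχ hχp] at hz'
    refine (Ideal.span_le (I := RingHom.ker M)).mpr ?_ hz'
    rintro _ ⟨f, g, hfg, rfl⟩
    rw [SetLike.mem_coe, RingHom.mem_ker, map_sub, map_list_prod, List.map_ofFn, sub_eq_zero, hM,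
      TensorAlgebra.lift_ι_apply, List.prod_ofFn]
    simp [hl f g hfg]
  have hwd : ∀ z, M (Function.surjInv hs (L z)) = M z := fun z => by
    rw [← sub_eq_zero, ← map_sub]
    exact hker _ (by rw [map_sub, Function.surjInv_eq hs, sub_self])
  refine ⟨{ toFun := fun x => M (Function.surjInv hs x), map_one' := ?_, map_mul' := ?_, map_zero' := ?_,
            map_add' := ?_, commutes' := ?_ }, fun x => ?_⟩
  · simpa using hwd 1
  · intro x y
    obtain ⟨a, rfl⟩ := hs x
    obtain ⟨b, rfl⟩ := hs y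
    rw [← map_mul L, hwd, hwd, hwd, map_mul]
  · simpa using hwd 0
  · intro x y
    obtain ⟨a, rfl⟩ := hs x
    obtain ⟨b, rfl⟩ := hs y
    rw [← map_add L, hwd, hwd, hwd, map_add]
  · intro r
    simpa using hwd (algebraMap R _ r)
  · have h := hwd (TensorAlgebra.ι R x)
    rw [hL, TensorAlgebra.lift_ι_apply, hM, TensorAlgebra.lift_ι_apply] at h
    exact h

theorem algHom_ext_eigen {S : Type v} [Semiring S] [Algebra R S] {φ ψ : A →ₐ[R] S}
    (h : ∀ x ∈ eigenAug R A p χ 1, φ x = ψ x) : φ = ψ :=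
  AlgHom.ext_of_adjoin_eq_top (adjoin_eigenAug_one hrk hu hχ hχp) h

end Order

section MuP

variable {R : Type u} [CommRing R] {p : ℕ} [Fact p.Prime] {u : R} {χ : (ZMod p)ˣ →* Rˣ}

theorem muP_rank (q : PrimeSpectrum R) :
    Module.rankAtStalk (MonoidAlgebra R (Multiplicative (ZMod p))) q = p := by
  haveI : Nontrivial R := nontrivial_of_ne 1 0 fun h => q.isPrime.ne_top ((Ideal.eq_top_iff_one _).mpr (by rw [h]; exact zero_mem _))
  rw [Module.rankAtStalk_eq_finrank_of_free]
  simp [Module.finrank_eq_card_basis (MonoidAlgebra.basis (Multiplicative (ZMod p)) R)]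

theorem proj_augProj_muP (hu : u * ((p - 1 : ℕ) : R) = 1)
    (hχ : ∀ m : (ZMod p)ˣ, m ≠ 1 → IsUnit ((χ m : R) - 1)) (i : ℕ)
    (b : MonoidAlgebra R (Multiplicative (ZMod p))) :
    ∃ c : R, proj R _ p u χ i (augProj R _ b) = c • ygen R p u χ i := by
  haveI : Module.Free R (MonoidAlgebra R (Multiplicative (ZMod p))) :=
    Module.Free.of_basis (MonoidAlgebra.basis (Multiplicative (ZMod p)) R)
  haveI : Module.Finite R (MonoidAlgebra R (Multiplicative (ZMod p))) :=
    Module.Finite.of_basis (MonoidAlgebra.basis (Multiplicative (ZMod p)) R)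
  have hp : toConv (AlgHom.id R (MonoidAlgebra R (Multiplicative (ZMod p)))) ^ p = 1 :=
    convPow_id_eq_one muP_rank
  let B := MonoidAlgebra.basis (Multiplicative (ZMod p)) R
  have hB : ∀ g : Multiplicative (ZMod p), ∃ c : R, proj R _ p u χ i (augProj R _ (B g)) = c • ygen R p u χ i := by
    intro g
    have hBg : B g = OortTate.muT R p ^ (Multiplicative.toAdd g).val := by
      simp [B, MonoidAlgebra.single_pow, ← ofAdd_nsmul]
    have hg : IsGroupLikeElem R (OortTate.muT R p) := MonoidAlgebra.isGroupLikeElem_single_one _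
    rcases eq_or_ne (Multiplicative.toAdd g) 0 with h0 | h0
    · refine ⟨0, ?_⟩
      rw [hBg, h0, ZMod.val_zero, pow_zero, augProj_apply, Bialgebra.counit_one, map_one, sub_self, map_zero,
        zero_smul]
    · let m : (ZMod p)ˣ := Units.mk0 _ h0
      refine ⟨(χ m : R) ^ i, ?_⟩
      rw [hBg, augProj_apply, (hg.pow).counit_eq_one, map_one]
      rw [show OortTate.muT R p ^ (Multiplicative.toAdd g).val - 1 =
        SGA3b.powConv R _ (m : ZMod p).val (OortTate.muT R p - 1) by
          rw [map_sub, map_one, powConv_groupLike hg]; rfl]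
      rw [show ygen R p u χ i = proj R _ p u χ i (OortTate.muT R p - 1) from rfl, ← powConv_proj hp]
      simp only [proj, LinearMap.smul_apply, LinearMap.sum_apply, AlgHom.toLinearMap_apply, map_smul, map_sum,
        powConv_units_mul hp, mul_comm m]
  choose c hc using hB
  refine ⟨∑ g, B.repr b g * c g, ?_⟩
  conv_lhs => rw [← B.sum_repr b]
  simp only [map_sum, map_smul, hc, smul_smul, Finset.sum_smul]

/-- The universal constants. -/
theorem exists_ygen_pow (hu : u * ((p - 1 : ℕ) : R) = 1)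
    (hχ : ∀ m : (ZMod p)ˣ, m ≠ 1 → IsUnit ((χ m : R) - 1)) {t : ℕ} (ht : 1 ≤ t) :
    ∃ w : R, ygen R p u χ 1 ^ t = w • ygen R p u χ t := by
  haveI : Module.Free R (MonoidAlgebra R (Multiplicative (ZMod p))) :=
    Module.Free.of_basis (MonoidAlgebra.basis (Multiplicative (ZMod p)) R)
  haveI : Module.Finite R (MonoidAlgebra R (Multiplicative (ZMod p))) :=
    Module.Finite.of_basis (MonoidAlgebra.basis (Multiplicative (ZMod p)) R)
  have hp : toConv (AlgHom.id R (MonoidAlgebra R (Multiplicative (ZMod p)))) ^ p = 1 :=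
    convPow_id_eq_one muP_rank
  have hg : IsGroupLikeElem R (OortTate.muT R p) := MonoidAlgebra.isGroupLikeElem_single_one _
  have hy : ygen R p u χ 1 ∈ eigenAug R _ p χ 1 :=
    proj_mem hp 1 (by rw [map_sub, hg.counit_eq_one, Bialgebra.counit_one, sub_self])
  have hyt : ygen R p u χ 1 ^ t ∈ eigenAug R _ p χ t :=
    pow_le_eigenAug hχ t ht (Submodule.pow_mem_pow _ hy _)
  obtain ⟨w, hw⟩ := proj_augProj_muP hu hχ t (ygen R p u χ 1 ^ t)
  rw [augProj_of_mem (mem_eigenAug.mp hyt).1, proj_of_mem hu hχ hyt, if_pos rfl] at hw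
  exact ⟨w, hw⟩

end MuP

section Pairing

variable {R : Type u} [CommRing R] {A : Type u} [CommRing A] [HopfAlgebra R A] [Coalgebra.IsCocomm R A]
  [Module.Finite R A] [Module.Projective R A] {p : ℕ} [Fact p.Prime] {u : R} {χ : (ZMod p)ˣ →* Rˣ}
  (hrk : ∀ q : PrimeSpectrum R, Module.rankAtStalk A q = p)
  (hu : u * ((p - 1 : ℕ) : R) = 1) (hχ : ∀ m : (ZMod p)ˣ, m ≠ 1 → IsUnit ((χ m : R) - 1))
  (hχp : ∀ m : (ZMod p)ˣ, ((χ m : Rˣ) : R) - (((m : ZMod p).val : ℕ) : R) ∈ Ideal.span ({(p : R)} : Set R))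

include hrk hu hχ hχp

/-- existence of the pairing morphism -/
theorem exists_pairing :
    ∃ (δ : A ⊗[R] CartDual.D R A) (ϕ : MonoidAlgebra R (Multiplicative (ZMod p)) →ₐ[R] A ⊗[R] CartDual.D R A),
      (∀ a : A, TensorProduct.rid R A
        (LinearMap.lTensor A ((Module.Dual.eval R A a) ∘ₗ (CartDual.toDual R A).toLinearMap) δ) = a) ∧
      ϕ (OortTate.muT R p) = δ := by
  obtain ⟨n, a, φ, hb⟩ := exists_dual_basis (R := R) (A := A)
  let δ : A ⊗[R] CartDual.D R A := ∑ i, a i ⊗ₜ[R] (toConv (φ i) : CartDual.D R A)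
  have hδ : ∀ x : A, TensorProduct.rid R A
      (LinearMap.lTensor A ((Module.Dual.eval R A x) ∘ₗ (CartDual.toDual R A).toLinearMap) δ) = x := by
    intro x
    simp only [δ, map_sum, LinearMap.lTensor_tmul, TensorProduct.rid_tmul]
    exact hb x
  have hδp : δ ^ p = 1 := by
    apply toEnd_injective
    rw [algHom_pow (toEnd R A), algHom_one (toEnd R A)]
    have h1 : toEnd R A δ = toConv (LinearMap.id : A →ₗ[R] A) :=
      WithConv.ofConv_injective (LinearMap.ext fun x => by rw [toEnd_apply, hδ]; rfl)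
    rw [h1]
    refine ((AlgHom.toLinearMap_convPow (toConv (AlgHom.id R A)) p).symm).trans ?_
    rw [convPow_id_eq_one hrk]
    exact AlgHom.toLinearMap_convOne
  let h : Multiplicative (ZMod p) →* A ⊗[R] CartDual.D R A :=
    { toFun := fun g => δ ^ (Multiplicative.toAdd g).val
      map_one' := by simp
      map_mul' := fun g g' => by
        rw [toAdd_mul, ZMod.val_add, ← pow_add]
        exact (pow_eq_pow_mod _ hδp).symm }
  refine ⟨δ, MonoidAlgebra.lift R (A ⊗[R] CartDual.D R A) (Multiplicative (ZMod p)) h, hδ, ?_⟩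
  rw [OortTate.muT, MonoidAlgebra.lift_of]
  show δ ^ (1 : ZMod p).val = δ
  rw [ZMod.val_one, pow_one]

/-- **The pairing of products**: it is governed by the universal constant. -/
theorem pairing_prod {t : ℕ} (h1 : 1 ≤ t) {w : R} (hw : ygen R p u χ 1 ^ t = w • ygen R p u χ t)
    (f : Fin t → eigenAug R (CartDual.D R A) p χ 1) (a : Fin t → eigenAug R A p χ 1) :
    (∏ i, (f i : CartDual.D R A)).ofConv (∏ i, (a i : A)) = w * ∏ i, (f i : CartDual.D R A).ofConv (a i : A) := by
  have hp := convPow_id_eq_one hrk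
  obtain ⟨δ, ϕ, hδ, hϕ⟩ := exists_pairing hrk hu hχ hχp (A := A)
  haveI := eigenAug_finite (A := A) hp hu hχ 1
  haveI := eigenAug_projective (A := A) hp hu hχ 1
  haveI := eigenAug_finite (A := A) hp hu hχ t
  haveI := eigenAug_projective (A := A) hp hu hχ t
  have hsingle : ∀ i, toEnd R A ((a i : A) ⊗ₜ[R] (f i : CartDual.D R A)) =
      (f i : CartDual.D R A).ofConv (a i : A) • toEnd R A (ϕ (ygen R p u χ 1)) := by
    intro i
    refine WithConv.ofConv_injective (LinearMap.ext fun b => ?_)
    rw [toEnd_tmul_apply, WithConv.ofConv_smul, LinearMap.smul_apply, toEnd_pairing_ygen hδ hϕ,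
      ← dual_apply_proj hu hχ (f i).2 b]
    exact congrArg Subtype.val (rankOne_swap (rank_eigenAug hrk hu hχ hχp 1)
      ((CartDual.toDual R A (f i : CartDual.D R A)).comp (eigenAug R A p χ 1).subtype)
      ⟨_, proj_mem hp 1 (counit_augProj b)⟩ (a i))
  have htmul : (∏ i, (a i : A)) ⊗ₜ[R] (∏ i, (f i : CartDual.D R A)) =
      ∏ i, (a i : A) ⊗ₜ[R] (f i : CartDual.D R A) := by
    clear hsingle hw h1 ‹Module.Finite R (eigenAug R A p χ t)› ‹Module.Projective R (eigenAug R A p χ t)›
    induction t with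
    | zero => simp [Algebra.TensorProduct.one_def]
    | succ t ih =>
      rw [Fin.prod_univ_succ, Fin.prod_univ_succ, Fin.prod_univ_succ, ← ih (fun i => f i.succ) (fun i => a i.succ),
        Algebra.TensorProduct.tmul_mul_tmul]
  set c := ∏ i, (f i : CartDual.D R A).ofConv (a i : A) with hc
  have hkey : ∀ b : A, (∏ i, (f i : CartDual.D R A)).ofConv b • ∏ i, (a i : A) =
      (w * c) • proj R A p u χ t (augProj R A b) := by
    intro b
    rw [← toEnd_tmul_apply, htmul, algHom_prod (B := A ⊗[R] CartDual.D R A) (C := WithConv (A →ₗ[R] A)) (toEnd R A), Finset.prod_congr rfl fun i _ => hsingle i,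
      Finset.prod_smul, ← hc, Finset.prod_const, Finset.card_univ, Fintype.card_fin,
      ← algHom_pow (toEnd R A), ← algHom_pow ϕ, hw]
    rw [show ϕ (w • ygen R p u χ t) = w • ϕ (ygen R p u χ t) from map_smul ϕ.toLinearMap w _,
      show toEnd R A (w • ϕ (ygen R p u χ t)) = w • toEnd R A (ϕ (ygen R p u χ t)) from
        map_smul (toEnd R A).toLinearMap w _]
    rw [smul_smul, mul_comm c w, WithConv.ofConv_smul, LinearMap.smul_apply, toEnd_pairing_ygen hδ hϕ]
  obtain ⟨n, y, g, hsum, htr⟩ := exists_dual_trace_one (rank_eigenAug hrk hu hχ hχp (A := A) t)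
  have hB : ∏ i, (a i : A) ∈ eigenAug R A p χ t := prod_mem_eigenAug hχ h1 a
  set F := ∏ i, (f i : CartDual.D R A) with hF
  calc F.ofConv (∏ i, (a i : A)) = ∑ j, g j ⟨_, hB⟩ * F.ofConv (y j : A) := by
        conv_lhs => rw [show (∏ i, (a i : A)) = ((∑ j, g j ⟨_, hB⟩ • y j : eigenAug R A p χ t) : A) by rw [hsum]]
        simp [map_sum]
    _ = ∑ j, (w * c) * g j (y j) := by
        refine Finset.sum_congr rfl fun j _ => ?_
        have h := hkey (y j : A)
        rw [augProj_of_mem (mem_eigenAug.mp (y j).2).1, proj_of_mem hu hχ (y j).2, if_pos rfl] at h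
        have h' : F.ofConv (y j : A) • (⟨_, hB⟩ : eigenAug R A p χ t) = (w * c) • y j := Subtype.ext h
        have h'' := congrArg (g j) h'
        rw [map_smul, map_smul, smul_eq_mul, smul_eq_mul] at h''
        rw [mul_comm]; exact h''
    _ = w * c := by rw [← Finset.mul_sum, htr, mul_one]

end Pairing

end

end Groth.Agent.H20OT
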