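import Mathlib.Algebra.CharP.Lemmas
import Mathlib.Algebra.CharP.Algebra
import Mathlib.Algebra.Polynomial.AlgebraMap
import Mathlib.Algebra.Polynomial.Derivative
import Mathlib.FieldTheory.IsAlgClosed.Basic
import Mathlib.LinearAlgebra.FiniteDimensional.Lemmas
import Mathlib.Algebra.Polynomial.Inductions

/-!
A finite dimensional subspace of an algebra stable under `p`-th powers contains an eigenline of the `p`-th power.
-/

set_option autoImplicit false

universe u v

open Polynomial

namespace Groth.Agent.H20OT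

noncomputable section

variable {k : Type u} [Field k] [IsAlgClosed k] (p : ℕ) [hp : Fact p.Prime] [CharP k p]
  {B : Type v} [Ring B] [Algebra k B]

omit [IsAlgClosed k] in
theorem sum_smul_pow_pow_char (u : B) {ι : Type*} (s : Finset ι) (t : ι → k) (e : ι → ℕ) :
    (∑ i ∈ s, t i • u ^ e i) ^ p = ∑ i ∈ s, t i ^ p • u ^ (e i * p) := by
  have h1 : ∀ i, t i • u ^ e i = aeval u (C (t i) * X ^ e i : k[X]) := fun i => by
    rw [map_mul, aeval_C, map_pow, aeval_X, Algebra.smul_def]
  simp only [h1, ← map_sum, ← map_pow, sum_pow_char]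
  rw [map_sum]
  refine Finset.sum_congr rfl fun i _ => ?_
  rw [mul_pow, ← pow_mul, map_mul, map_pow, map_pow, aeval_C, aeval_X, Algebra.smul_def, map_pow]

/-- the recursive polynomials for the fixed vector -/
def fixPoly (c : ℕ → k) : ℕ → k[X]
  | 0 => C (c 0) * X ^ p
  | i + 1 => fixPoly c i ^ p + C (c (i + 1)) * X ^ p

omit [IsAlgClosed k] in
theorem derivative_fixPoly (c : ℕ → k) : ∀ i, derivative (fixPoly p c i) = 0 := by
  have h : ∀ a : k, derivative (C a * X ^ p) = 0 := fun a => by
    rw [derivative_C_mul_X_pow, CharP.cast_eq_zero k p, mul_zero, map_zero, zero_mul]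
  intro i
  induction i with
  | zero => exact h _
  | succ i ih => rw [fixPoly, map_add, h, derivative_pow, ih, mul_zero, add_zero]

omit [IsAlgClosed k] in
theorem natDegree_fixPoly (c : ℕ → k) {i0 : ℕ} (h0 : ∀ i < i0, c i = 0) (hc : c i0 ≠ 0) :
    ∀ j, (fixPoly p c (i0 + j)).natDegree = p ^ (j + 1) := by
  have hz : ∀ i < i0, fixPoly p c i = 0 := by
    intro i
    induction i with
    | zero => intro hi; rw [fixPoly, h0 0 hi, map_zero, zero_mul]
    | succ i ih =>
      intro hi
      rw [fixPoly, ih (by omega), h0 _ hi, map_zero, zero_mul, zero_pow hp.out.ne_zero, add_zero]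
  have hst : fixPoly p c i0 = C (c i0) * X ^ p := by
    cases i0 with
    | zero => rfl
    | succ i => rw [fixPoly, hz i (by omega), zero_pow hp.out.ne_zero, zero_add]
  intro j
  induction j with
  | zero => rw [add_zero, hst, natDegree_C_mul_X_pow _ _ hc, zero_add, pow_one]
  | succ j ih =>
    rw [← add_assoc, fixPoly, natDegree_add_eq_left_of_natDegree_lt, natDegree_pow, ih, pow_succ' p (j + 1)]
    rw [natDegree_pow, ih]
    refine lt_of_le_of_lt (natDegree_C_mul_X_pow_le _ _) ?_
    have h2 := hp.out.two_le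
    calc p = p * 1 := (mul_one p).symm
      _ < p * p ^ (j + 1) := Nat.mul_lt_mul_of_pos_left (Nat.one_lt_pow (by omega) (by omega)) (by omega)

theorem exists_pow_char_eq_smul (g : Submodule k B) [Module.Finite k g] (hg : ∀ u ∈ g, u ^ p ∈ g) (hne : g ≠ ⊥) :
    ∃ w ∈ g, w ≠ 0 ∧ ∃ a : k, w ^ p = a • w := by
  classical
  obtain ⟨u, hu, hu0⟩ := Submodule.exists_mem_ne_zero_of_ne_bot hne
  have hmem : ∀ i, u ^ p ^ i ∈ g := by
    intro i
    induction i with
    | zero => simpa using hu
    | succ i ih => rw [pow_succ, pow_mul]; exact hg _ ih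
  let v : ℕ → g := fun i => ⟨u ^ p ^ i, hmem i⟩
  have hex : ∃ m, v m ∈ Submodule.span k (Set.range fun i : Fin m => v i) := by
    by_contra h
    push Not at h
    have hli : ∀ m, LinearIndependent k (fun i : Fin m => v i) := by
      intro m
      induction m with
      | zero => exact linearIndependent_empty_type
      | succ m ih =>
        rw [linearIndependent_fin_succ']
        exact ⟨ih, h m⟩
    have := (hli (Module.finrank k g + 1)).fintype_card_le_finrank
    rw [Fintype.card_fin] at this
    omega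
  let m := Nat.find hex
  have hm : v m ∈ Submodule.span k (Set.range fun i : Fin m => v i) := Nat.find_spec hex
  have hli : ∀ m' ≤ m, LinearIndependent k (fun i : Fin m' => v i) := by
    intro m'
    induction m' with
    | zero => intro _; exact linearIndependent_empty_type
    | succ m' ih =>
      intro hle
      rw [linearIndependent_fin_succ']
      exact ⟨ih (by omega), Nat.find_min hex (by omega)⟩
  have hmpos : m ≠ 0 := by
    intro h
    have hempty : IsEmpty (Fin m) := by rw [h]; infer_instance
    rw [Set.range_eq_empty, Submodule.span_empty, Submodule.mem_bot] at hm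
    have : (u ^ p ^ m : B) = 0 := congrArg Subtype.val hm
    rw [h, pow_zero, pow_one] at this
    exact hu0 this
  obtain ⟨m', hm'⟩ : ∃ m', m = m' + 1 := ⟨m - 1, by omega⟩
  obtain ⟨c0, hc0⟩ := (Submodule.mem_span_range_iff_exists_fun k).mp hm
  let c : ℕ → k := fun i => if h : i < m then c0 ⟨i, h⟩ else 0
  have hrel : u ^ p ^ m = ∑ i ∈ Finset.range m, c i • u ^ p ^ i := by
    have := congrArg Subtype.val hc0
    rw [Submodule.coe_sum] at this
    rw [← show ((v m : g) : B) = u ^ p ^ m from rfl, ← this, ← Fin.sum_univ_eq_sum_range]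
    exact Finset.sum_congr rfl fun i _ => by simp [c, v]
  have hLI : ∀ t : ℕ → k, (∑ i ∈ Finset.range m, t i • u ^ p ^ i) = 0 → ∀ i < m, t i = 0 := by
    intro t ht i hi
    refine Fintype.linearIndependent_iff.mp (hli m le_rfl) (fun j => t j) (Subtype.ext ?_) ⟨i, hi⟩
    rw [← Fin.sum_univ_eq_sum_range] at ht
    simpa [Submodule.coe_sum, v] using ht
  have hwmem : ∀ t : ℕ → k, ∑ i ∈ Finset.range m, t i • u ^ p ^ i ∈ g :=
    fun t => Submodule.sum_mem _ fun i _ => g.smul_mem _ (hmem i)
  by_cases hc : ∀ i < m, c i = 0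
  · refine ⟨u ^ p ^ m', hmem m', fun h => ?_, 0, ?_⟩
    · exact (hli m le_rfl).ne_zero ⟨m', by omega⟩ (Subtype.ext h)
    · rw [zero_smul, ← pow_mul, ← pow_succ, ← hm', hrel]
      exact Finset.sum_eq_zero fun i hi => by rw [hc i (Finset.mem_range.mp hi), zero_smul]
  push Not at hc
  let i0 := Nat.find hc
  obtain ⟨hi0, hci0⟩ := Nat.find_spec hc
  have hbelow : ∀ i < i0, c i = 0 := fun i hi => by
    by_contra h
    exact Nat.find_min hc hi ⟨by omega, h⟩
  obtain ⟨j, hj⟩ : ∃ j, m' = i0 + j := ⟨m' - i0, by omega⟩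
  let Q := fixPoly p c m'
  have hQdeg : Q.natDegree = p ^ (j + 1) := by
    rw [show Q = fixPoly p c (i0 + j) from congrArg _ hj]
    exact natDegree_fixPoly p c hbelow hci0 j
  have hQ1 : Q.coeff 1 = 0 := by
    have := congrArg (fun f : k[X] => f.coeff 0) (derivative_fixPoly p c m')
    simpa [coeff_derivative] using this
  have hQ0 : Q.eval 0 = 0 := by
    have hQ0' : ∀ i, (fixPoly p c i).eval 0 = 0 := by
      intro i
      induction i with
      | zero => simp [fixPoly, hp.out.ne_zero]
      | succ i ih => simp [fixPoly, ih, hp.out.ne_zero]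
    exact hQ0' m'
  let P := Q - X
  have hp1 : 1 < p ^ (j + 1) := Nat.one_lt_pow (by omega) hp.out.one_lt
  have hPdeg : P.natDegree = p ^ (j + 1) := by
    rw [show P = Q - X from rfl, natDegree_sub_eq_left_of_natDegree_lt (by rw [natDegree_X, hQdeg]; exact hp1), hQdeg]
  have hP0 : P.coeff 0 = 0 := by
    rw [coeff_zero_eq_eval_zero]
    simp [P, hQ0]
  have hS : P.divX * X = P := by
    conv_rhs => rw [← divX_mul_X_add P, hP0, map_zero, add_zero]
  have hSdeg : P.divX.degree ≠ 0 := by
    intro h
    have := natDegree_eq_zero_iff_degree_le_zero.mpr h.le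
    rw [natDegree_divX_eq_natDegree_tsub_one, hPdeg] at this
    omega
  obtain ⟨T, hT⟩ := IsAlgClosed.exists_root P.divX hSdeg
  have hT0 : T ≠ 0 := by
    intro h
    rw [h, IsRoot, ← coeff_zero_eq_eval_zero, coeff_divX] at hT
    simp [P, hQ1] at hT
  have hQT : Q.eval T = T := by
    have : P.eval T = 0 := by rw [← hS, eval_mul, hT, zero_mul]
    simpa [P, sub_eq_zero] using this
  let t : ℕ → k := fun i => (fixPoly p c i).eval T
  refine ⟨∑ i ∈ Finset.range m, t i • u ^ p ^ i, hwmem t, fun h => ?_, 1, ?_⟩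
  · exact hT0 (hQT.symm.trans (hLI t h m' (by omega)))
  · rw [one_smul, sum_smul_pow_pow_char p u]
    simp only [← pow_succ]
    rw [hm'] at hrel ⊢
    rw [Finset.sum_range_succ, show t m' ^ p = T ^ p by rw [show t m' = T from hQT], hrel,
      Finset.sum_range_succ' (fun i => t i • u ^ p ^ i), Finset.smul_sum,
      Finset.sum_range_succ' (fun i => T ^ p • c i • u ^ p ^ i), ← add_assoc, ← Finset.sum_add_distrib]
    congr 1
    · refine Finset.sum_congr rfl fun i _ => ?_
      rw [smul_smul, ← add_smul]
      congr 1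
      simp only [t, fixPoly, eval_add, eval_pow, eval_mul, eval_C, eval_X]
      ring
    · rw [smul_smul]
      congr 1
      simp only [t, fixPoly, eval_mul, eval_pow, eval_C, eval_X]
      ring

end

end Groth.Agent.H20OT
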