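import Groth.Agent.H20OT.Field
import Mathlib.RingTheory.HopfAlgebra.TensorProduct
import Mathlib.RingTheory.Finiteness.Projective
import Mathlib.RingTheory.Spectrum.Prime.FreeLocus
import Mathlib.RingTheory.Nakayama
import Mathlib.FieldTheory.IsAlgClosed.AlgebraicClosure
import Mathlib.Algebra.MvPolynomial.CommRing
import Mathlib.RingTheory.Localization.AtPrime.Basic

/-!
Finite locally free group schemes of prime order are commutative and killed by their order; base change of
power maps.
-/

set_option autoImplicit false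

universe u v w w'

open TensorProduct WithConv Coalgebra

namespace Groth.Agent.H20OT

noncomputable section

variable {R : Type u} [CommRing R] {A : Type v} [CommRing A] [HopfAlgebra R A]
  {K : Type u} [CommRing K] [Algebra R K]

/-- The comultiplication of `1 ⊗ a`. -/
def reprOneTmul {ι : Type*} {a : A} (r : Coalgebra.Repr R a ι) :
    Coalgebra.Repr K ((1 : K) ⊗ₜ[R] a) ι where
  index := r.index
  left i := 1 ⊗ₜ[R] r.left i
  right i := 1 ⊗ₜ[R] r.right i
  eq := by
    rw [TensorProduct.comul_tmul, Bialgebra.comul_one, ← r.eq, Algebra.TensorProduct.one_def, tmul_sum,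
      map_sum]
    rfl

theorem counit_one_tmul (a : A) :
    counit (R := K) ((1 : K) ⊗ₜ[R] a) = algebraMap R K (counit (R := R) a) := by
  rw [TensorProduct.counit_tmul, Bialgebra.counit_one, Algebra.algebraMap_eq_smul_one]

theorem exists_dual_basis [Module.Finite R A] [Module.Projective R A] :
    ∃ (n : ℕ) (a : Fin n → A) (φ : Fin n → A →ₗ[R] R), ∀ x, ∑ i, φ i x • a i = x := by
  obtain ⟨n, f, g, _, _, hfg⟩ := Module.Finite.exists_comp_eq_id_of_projective R A
  refine ⟨n, fun i => f (Pi.single i 1), fun i => LinearMap.proj i ∘ₗ g, fun x => ?_⟩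
  conv_rhs => rw [← LinearMap.id_apply (R := R) x, ← hfg, LinearMap.comp_apply, pi_eq_sum_univ' (g x), map_sum]
  exact Finset.sum_congr rfl fun i _ => by rw [map_smul]; rfl

/-- Functions with values in an algebra. -/
abbrev ET (R : Type u) [CommRing R] (A : Type v) [CommRing A] [HopfAlgebra R A] (T : Type w) [CommRing T]
    [Algebra R T] := WithConv (A →ₗ[R] T)

/-- change of the values -/
def push {S : Type w} {S' : Type w'} [CommRing S] [Algebra R S] [CommRing S'] [Algebra R S'] (h : S →ₐ[R] S') :
    ET R A S →+* ET R A S' where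
  toFun f := toConv (h.toLinearMap.comp f.ofConv)
  map_one' := WithConv.ofConv_injective (LinearMap.ext fun a => by simp [LinearMap.convOne_def])
  map_mul' f g := WithConv.ofConv_injective (LinearMap.algHom_comp_convMul_distrib h f g)
  map_zero' := WithConv.ofConv_injective (LinearMap.ext fun a => by simp)
  map_add' f g := WithConv.ofConv_injective (LinearMap.ext fun a => by simp)

theorem push_apply {S : Type w} {S' : Type w'} [CommRing S] [Algebra R S] [CommRing S'] [Algebra R S'] (h : S →ₐ[R] S')
    (f : ET R A S) (a : A) : (push h f).ofConv a = h (f.ofConv a) := rfl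

/-- A linear functional with values in `T`. -/
def cst (T : Type w) [CommRing T] [Algebra R T] (φ : A →ₗ[R] R) : ET R A T :=
  toConv ((Algebra.linearMap R T) ∘ₗ φ)

/-- Restriction from the base change. -/
def restr : WithConv ((K ⊗[R] A) →ₗ[K] K) →+* ET R A K where
  toFun f := toConv ((f.ofConv.restrictScalars R) ∘ₗ (TensorProduct.mk R K A 1))
  map_one' := WithConv.ofConv_injective (LinearMap.ext fun a => by
    show algebraMap K K (counit (R := K) ((1 : K) ⊗ₜ[R] a)) = algebraMap R K (counit a)
    rw [counit_one_tmul, Algebra.algebraMap_self, RingHom.id_apply])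
  map_mul' f g := WithConv.ofConv_injective (LinearMap.ext fun a => by
    refine ((reprOneTmul (K := K) (ℛ R a)).convMul_apply f g).trans ?_
    exact ((ℛ R a).convMul_apply (toConv ((f.ofConv.restrictScalars R) ∘ₗ (TensorProduct.mk R K A 1)))
      (toConv ((g.ofConv.restrictScalars R) ∘ₗ (TensorProduct.mk R K A 1)))).symm)
  map_zero' := WithConv.ofConv_injective (LinearMap.ext fun a => by simp)
  map_add' f g := WithConv.ofConv_injective (LinearMap.ext fun a => by simp)

theorem restr_surjective : Function.Surjective (restr : WithConv ((K ⊗[R] A) →ₗ[K] K) →+* ET R A K) :=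
  fun f => ⟨toConv ((LinearMap.liftBaseChange K f.ofConv)), WithConv.ofConv_injective (LinearMap.ext fun a => by
    show LinearMap.liftBaseChange K f.ofConv ((1 : K) ⊗ₜ[R] a) = _
    simp)⟩

variable [Module.Finite R A] [Module.Projective R A]

/-- expansion in a dual basis -/
theorem eq_sum_cst {T : Type w} [CommRing T] [Algebra R T] {n : ℕ} {a : Fin n → A} {φ : Fin n → A →ₗ[R] R}
    (hb : ∀ x, ∑ i, φ i x • a i = x) (f : ET R A T) : f = ∑ i, f.ofConv (a i) • cst T (φ i) := by
  refine WithConv.ofConv_injective (LinearMap.ext fun x => ?_)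
  conv_lhs => rw [← hb x, map_sum]
  simp only [WithConv.ofConv_sum, WithConv.ofConv_smul, LinearMap.sum_apply, LinearMap.smul_apply, map_smul]
  refine Finset.sum_congr rfl fun i _ => ?_
  rw [Algebra.smul_def, smul_eq_mul, mul_comm]
  rfl

variable {p : ℕ} [Fact p.Prime] (hrk : ∀ q : PrimeSpectrum R, Module.rankAtStalk A q = p)
include hrk

theorem finrank_baseChange (K : Type u) [Field K] [Algebra R K] : Module.finrank K (K ⊗[R] A) = p := by
  have h := Module.rankAtStalk_baseChange (R := R) (M := A) (S := K) (Classical.arbitrary (PrimeSpectrum K))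
  rwa [Module.rankAtStalk_eq_finrank_of_free, hrk] at h

/-- The dual algebra of a group scheme of prime order is commutative. -/
theorem dual_mul_comm (f g : ET R A R) : f * g = g * f := by
  classical
  obtain ⟨n, a, φ, hb⟩ := exists_dual_basis (R := R) (A := A)
  rw [← sub_eq_zero]
  set c := f * g - g * f with hc
  refine WithConv.ofConv_injective (LinearMap.ext fun x => ?_)
  show c.ofConv x = 0
  -- it suffices to kill `c x` by an element outside each maximal ideal
  by_contra hcx
  have hne : Submodule.colon (⊥ : Ideal R) {c.ofConv x} ≠ ⊤ := fun h => hcx (by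
    have h1 : (1 : R) ∈ Submodule.colon (⊥ : Ideal R) {c.ofConv x} := h ▸ Submodule.mem_top
    simpa [Submodule.mem_colon_singleton] using h1)
  obtain ⟨m, hm, hle⟩ := Ideal.exists_le_maximal _ hne
  letI : Field (R ⧸ m) := Ideal.Quotient.field m
  let K := AlgebraicClosure (R ⧸ m)
  haveI : Fact p.Prime := inferInstance
  obtain ⟨φK, hφK⟩ := exists_dual_generator (k := K) (A := K ⊗[R] A) (p := p) (finrank_baseChange hrk K)
  let φ₀ : ET R A K := restr φK
  have hgen : ∀ i : Fin n, ∃ coef : Fin p → K, cst K (φ i) = ∑ j : Fin p, coef j • φ₀ ^ (j : ℕ) := by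
    intro i
    obtain ⟨F, hF⟩ := restr_surjective (cst K (φ i) : ET R A K)
    obtain ⟨coef, hcoef⟩ := (Submodule.mem_span_range_iff_exists_fun K).mp
      (hφK.ge (Submodule.mem_top : F ∈ ⊤))
    refine ⟨coef, ?_⟩
    rw [← hF, ← hcoef, map_sum]
    refine Finset.sum_congr rfl fun j _ => ?_
    rw [← map_pow]
    rfl
  choose coef hcoef using hgen
  -- a local algebra where the generator is defined
  let σ := Fin n ⊕ (Fin n × Fin p)
  let ev : MvPolynomial σ R →ₐ[R] K :=
    MvPolynomial.aeval (Sum.elim (fun i => φ₀.ofConv (a i)) (fun ij => coef ij.1 ij.2))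
  let P : Ideal (MvPolynomial σ R) := RingHom.ker ev
  haveI : P.IsPrime := RingHom.ker_isPrime _
  let T := Localization.AtPrime P
  let π : T →ₐ[R] K := IsLocalization.liftAlgHom (M := P.primeCompl) (f := ev)
    (fun y => isUnit_iff_ne_zero.mpr fun h => y.2 h)
  have hπ : ∀ q : MvPolynomial σ R, π (algebraMap _ T q) = ev q := fun q => by
    simp [π]
  let lift : MvPolynomial σ R → T := algebraMap _ T
  let φT : ET R A T := ∑ i, lift (MvPolynomial.X (Sum.inl i)) • cst T (φ i)
  have hpush_cst : ∀ i, push π (cst T (φ i) : ET R A T) = cst K (φ i) := fun i =>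
    WithConv.ofConv_injective (LinearMap.ext fun b => π.commutes _)
  have hpush_smul : ∀ (t : T) (h : ET R A T), push π (t • h) = π t • push π h := fun t h =>
    WithConv.ofConv_injective (LinearMap.ext fun b => map_mul π _ _)
  have hφT : push π φT = φ₀ := by
    conv_rhs => rw [eq_sum_cst hb φ₀]
    simp only [φT, map_sum, hpush_smul, hpush_cst, lift, hπ, ev, MvPolynomial.aeval_X, Sum.elim_inl]
  let N : Submodule T (ET R A T) := Submodule.span T (Set.range fun j : Fin p => φT ^ (j : ℕ))
  have hker : ∀ h : ET R A T, push π h = 0 → h ∈ (IsLocalRing.maximalIdeal T) • (⊤ : Submodule T (ET R A T)) := by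
    intro h hh
    rw [eq_sum_cst hb h]
    refine sum_mem fun i _ => Submodule.smul_mem_smul ?_ Submodule.mem_top
    have h0 : π (h.ofConv (a i)) = 0 := LinearMap.congr_fun (congrArg WithConv.ofConv hh) (a i)
    rw [IsLocalRing.mem_maximalIdeal]
    intro hu
    exact (hu.map π).ne_zero h0
  have hN : N = ⊤ := by
    haveI : Module.Finite T (ET R A T) := ⟨⟨Finset.univ.image fun i => cst T (φ i), eq_top_iff.mpr fun h _ => by
      rw [eq_sum_cst hb h]
      exact sum_mem fun i _ => Submodule.smul_mem _ _ (Submodule.subset_span (by simp))⟩⟩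
    refine top_le_iff.mp (Submodule.le_of_le_smul_of_le_jacobson_bot (I := IsLocalRing.maximalIdeal T)
      Module.Finite.fg_top (IsLocalRing.maximalIdeal_le_jacobson ⊥) fun h _ => ?_)
    rw [eq_sum_cst hb h]
    refine sum_mem fun i _ => Submodule.smul_mem _ _ ?_
    let h1 : ET R A T := ∑ j : Fin p, lift (MvPolynomial.X (Sum.inr (i, j))) • φT ^ (j : ℕ)
    refine Submodule.mem_sup.mpr ⟨h1, sum_mem fun j _ => N.smul_mem _ (Submodule.subset_span ⟨j, rfl⟩),
      cst T (φ i) - h1, hker _ ?_, by abel⟩
    rw [map_sub, hpush_cst, hcoef i, sub_eq_zero]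
    simp only [h1, map_sum, hpush_smul, map_pow, hφT, lift, hπ, ev, MvPolynomial.aeval_X, Sum.elim_inr]
  have hcommT : ∀ s t : ET R A T, s * t = t * s := fun s t => by
    have hs : s ∈ N := hN ▸ Submodule.mem_top
    have ht : t ∈ N := hN ▸ Submodule.mem_top
    induction hs, ht using Submodule.span_induction₂ with
    | mem_mem x y hx hy =>
      obtain ⟨i, rfl⟩ := hx
      obtain ⟨j, rfl⟩ := hy
      exact ((Commute.refl φT).pow_pow _ _).eq
    | zero_left y hy => simp
    | zero_right x hx => simp
    | add_left x y z _ _ _ h1 h2 => rw [add_mul, h1, h2, mul_add]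
    | add_right x y z _ _ _ h1 h2 => rw [mul_add, h1, h2, add_mul]
    | smul_left r x y _ _ h => rw [smul_mul_assoc, h, mul_smul_comm]
    | smul_right r x y _ _ h => rw [mul_smul_comm, h, smul_mul_assoc]
  have hzero : algebraMap R T (c.ofConv x) = 0 := by
    have h := hcommT (push (Algebra.ofId R T) f) (push (Algebra.ofId R T) g)
    rw [← map_mul, ← map_mul, ← sub_eq_zero, ← map_sub] at h
    exact LinearMap.congr_fun (congrArg WithConv.ofConv h) x
  rw [IsScalarTower.algebraMap_apply R (MvPolynomial σ R) T, IsLocalization.map_eq_zero_iff P.primeCompl] at hzero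
  obtain ⟨⟨s, hs⟩, hsx⟩ := hzero
  refine hs (show ev s = 0 from ?_)
  rw [MvPolynomial.as_sum s, map_sum]
  refine Finset.sum_eq_zero fun d _ => ?_
  have hd : MvPolynomial.coeff d s ∈ m := hle (by
    have h := congrArg (MvPolynomial.coeff d) hsx
    rw [MvPolynomial.algebraMap_eq, mul_comm, MvPolynomial.coeff_C_mul, MvPolynomial.coeff_zero, mul_comm] at h
    simpa [Submodule.mem_colon_singleton] using h)
  rw [show ev (MvPolynomial.monomial d (MvPolynomial.coeff d s)) =
    algebraMap R K (MvPolynomial.coeff d s) * _ from MvPolynomial.aeval_monomial _ _ _,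
    IsScalarTower.algebraMap_apply R (R ⧸ m) K, Ideal.Quotient.algebraMap_eq,
    Ideal.Quotient.eq_zero_iff_mem.mpr hd, map_zero, zero_mul]

/-- **Groups of prime order are commutative.** -/
theorem isCocomm : Coalgebra.IsCocomm R A := isCocomm_of_dual_comm (dual_mul_comm hrk)

/-- and killed by their order. -/
theorem convPow_id_eq_one : toConv (AlgHom.id R A) ^ p = 1 := by
  haveI := isCocomm hrk
  exact H20Comod.Deligne.convPow_id_eq_one R A p hrk

end

noncomputable section PowConv

variable {R : Type u} [CommRing R] {A : Type u} [CommRing A] [HopfAlgebra R A]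
  {K : Type u} [CommRing K] [Algebra R K]

/-- Base change commutes with the power maps. -/
theorem powConv_one_tmul (n : ℕ) (a : A) :
    SGA3b.powConv K (K ⊗[R] A) n ((1 : K) ⊗ₜ[R] a) = (1 : K) ⊗ₜ[R] SGA3b.powConv R A n a := by
  have hsucc : ∀ (S B : Type u) [CommRing S] [CommRing B] [HopfAlgebra S B] (b : B)
      (r : Coalgebra.Repr S b (B × B)) (m : ℕ),
      SGA3b.powConv S B (m + 1) b = ∑ i ∈ r.index, SGA3b.powConv S B m (r.left i) * r.right i := by
    intro S B _ _ _ b r m
    rw [show SGA3b.powConv S B (m + 1) = (toConv (AlgHom.id S B) ^ m * toConv (AlgHom.id S B)).ofConv from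
      congrArg WithConv.ofConv (pow_succ _ _)]
    exact r.convMul_apply (toConv (SGA3b.powConv S B m).toLinearMap) (toConv LinearMap.id)
  induction n generalizing a with
  | zero =>
    show algebraMap K (K ⊗[R] A) (counit (R := K) ((1 : K) ⊗ₜ[R] a)) = 1 ⊗ₜ algebraMap R A (counit a)
    rw [counit_one_tmul, ← IsScalarTower.algebraMap_apply]
    exact ((Algebra.TensorProduct.includeRight : A →ₐ[R] K ⊗[R] A).commutes _).symm
  | succ n ih =>
    rw [hsucc R A a (ℛ R a) n, tmul_sum]
    have h := hsucc K (K ⊗[R] A) ((1 : K) ⊗ₜ[R] a)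
    rw [show SGA3b.powConv K (K ⊗[R] A) (n + 1) =
      (toConv (AlgHom.id K (K ⊗[R] A)) ^ n * toConv (AlgHom.id K (K ⊗[R] A))).ofConv from
      congrArg WithConv.ofConv (pow_succ _ _)]
    refine ((reprOneTmul (ℛ R a)).convMul_apply (toConv (SGA3b.powConv K (K ⊗[R] A) n).toLinearMap)
      (toConv LinearMap.id)).trans (Finset.sum_congr rfl fun i _ => ?_)
    show SGA3b.powConv K (K ⊗[R] A) n ((1 : K) ⊗ₜ[R] _) * ((1 : K) ⊗ₜ[R] _) = _
    rw [ih, Algebra.TensorProduct.tmul_mul_tmul, one_mul]

end PowConv

end Groth.Agent.H20OT
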