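import Groth.Agent.H20OT.OrderP
import Mathlib.RingTheory.HopfAlgebra.Quotient
import Mathlib.RingTheory.HopfAlgebra.GroupLike
import Mathlib.RingTheory.LocalRing.RingHom.Basic
import Mathlib.RingTheory.Artinian.Ring
import Mathlib.FieldTheory.IsAlgClosed.Basic

/-!
Simple local finite commutative group schemes: `α_p` and `μ_p`.
-/

set_option autoImplicit false

universe u v

open TensorProduct WithConv Coalgebra

namespace Groth.Agent.H20OT

noncomputable section

section Local

variable {k : Type u} [Field k] {A : Type v} [CommRing A] [HopfAlgebra k A]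

theorem aug_eq_maximalIdeal [IsLocalRing A] : aug k A = IsLocalRing.maximalIdeal A :=
  IsLocalRing.eq_maximalIdeal (RingHom.ker_isMaximal_of_surjective _ fun c =>
    ⟨algebraMap k A c, AlgHom.commutes _ c⟩)

theorem isNilpotent_of_counit_eq_zero [Module.Finite k A] [IsLocalRing A] {a : A}
    (ha : counit (R := k) a = 0) : IsNilpotent a := by
  haveI : IsArtinianRing A := IsArtinianRing.of_finite k A
  obtain ⟨n, hn⟩ := IsArtinianRing.isNilpotent_jacobson_bot (R := A)
  refine ⟨n, ?_⟩
  have hm : a ∈ (⊥ : Ideal A).jacobson := by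
    rw [IsLocalRing.jacobson_eq_maximalIdeal ⊥ bot_ne_top, ← aug_eq_maximalIdeal (k := k)]
    exact ha
  have := Ideal.pow_mem_pow hm n
  rwa [hn, Ideal.zero_eq_bot, Ideal.mem_bot] at this

theorem sub_algebraMap_counit_mem_aug (a : A) : a - algebraMap k A (counit (R := k) a) ∈ aug k A := by
  rw [RingHom.mem_ker, map_sub, AlgHom.commutes, Bialgebra.counitAlgHom_apply, Algebra.algebraMap_self,
    RingHom.id_apply, sub_self]

theorem exists_pointDer_of_notMem_sq {x : A} (hx : counit (R := k) x = 0) (hx2 : x ∉ aug k A ^ 2) :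
    ∃ δ : A →ₗ[k] k, IsPointDer δ ∧ δ x = 1 := by
  let V : Submodule k A := (aug k A ^ 2).restrictScalars k ⊔ k ∙ (1 : A)
  have hnot : x ∉ V := by
    intro h
    obtain ⟨m, hm, c, hc, hxe⟩ := Submodule.mem_sup.mp h
    obtain ⟨r, rfl⟩ := Submodule.mem_span_singleton.mp hc
    have hm0 : counit (R := k) m = 0 := Ideal.pow_le_self two_ne_zero hm
    rw [← hxe, map_add, hm0, zero_add, map_smul, Bialgebra.counit_one, smul_eq_mul, mul_one] at hx
    rw [hx, zero_smul, add_zero] at hxe
    exact hx2 (hxe ▸ hm)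
  obtain ⟨φ, hφx, hφ⟩ := Submodule.exists_le_ker_of_notMem hnot
  refine ⟨(φ x)⁻¹ • φ, fun a b => ?_, by rw [LinearMap.smul_apply, smul_eq_mul, inv_mul_cancel₀ hφx]⟩
  have h1 : φ 1 = 0 := hφ (Submodule.mem_sup_right (Submodule.mem_span_singleton_self _))
  have h2 : φ ((a - algebraMap k A (counit (R := k) a)) * (b - algebraMap k A (counit (R := k) b))) = 0 := by
    refine hφ (Submodule.mem_sup_left ?_)
    rw [Submodule.restrictScalars_mem, pow_two]
    exact Ideal.mul_mem_mul (sub_algebraMap_counit_mem_aug a) (sub_algebraMap_counit_mem_aug b)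
  have e : (a - algebraMap k A (counit (R := k) a)) * (b - algebraMap k A (counit (R := k) b)) =
      a * b - counit (R := k) b • a - counit (R := k) a • b + (counit (R := k) a * counit (R := k) b) • (1 : A) := by
    simp only [Algebra.smul_def, map_mul, mul_one]; ring
  rw [e, map_add, map_sub, map_sub, map_smul, map_smul, map_smul, h1, smul_eq_mul, smul_eq_mul, smul_zero,
    add_zero] at h2
  simp only [LinearMap.smul_apply, smul_eq_mul]
  linear_combination (φ x)⁻¹ * h2

theorem exists_pointDer_of_isLocalRing [Module.Finite k A] [IsLocalRing A] (hA : 1 < Module.finrank k A) :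
    ∃ δ : A →ₗ[k] k, IsPointDer δ ∧ δ ≠ 0 := by
  haveI : IsArtinianRing A := IsArtinianRing.of_finite k A
  by_contra hno
  push Not at hno
  have hsq : aug k A ≤ aug k A ^ 2 := fun x hx => by
    by_contra hx2
    obtain ⟨δ, hδ, hδx⟩ := exists_pointDer_of_notMem_sq (k := k) hx hx2
    rw [hno δ hδ, LinearMap.zero_apply] at hδx
    exact zero_ne_one hδx
  have hbot : aug k A = ⊥ := by
    obtain ⟨n, hn⟩ := IsArtinianRing.isNilpotent_jacobson_bot (R := A)
    rw [IsLocalRing.jacobson_eq_maximalIdeal ⊥ bot_ne_top, ← aug_eq_maximalIdeal (k := k)] at hn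
    have hpow : ∀ m, aug k A ≤ aug k A ^ (m + 1) := fun m => by
      induction m with
      | zero => rw [pow_one]
      | succ m ih =>
        rw [pow_succ _ (m + 1)]
        exact hsq.trans ((pow_two (aug k A)).le.trans (Ideal.mul_mono ih le_rfl))
    exact le_bot_iff.mp ((hpow n).trans ((Ideal.pow_le_pow_right n.le_succ).trans hn.le))
  have hsurj : Function.Surjective (Algebra.linearMap k A) := fun a => ⟨counit (R := k) a, by
    have := sub_algebraMap_counit_mem_aug (k := k) a
    rw [hbot, Ideal.mem_bot, sub_eq_zero] at this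
    exact this.symm⟩
  have := (Algebra.linearMap k A).finrank_le_finrank_of_surjective hsurj
  rw [Module.finrank_self] at this
  omega

theorem span_pow_eq_top_of_aug_le {x : A} {n : ℕ} (hx : aug k A ≤ Ideal.span {x}) (hn : x ^ n = 0) :
    Submodule.span k (Set.range fun i : Fin n => x ^ (i : ℕ)) = ⊤ := by
  have key : ∀ d m, m + d = n → ∀ a : A,
      x ^ m * a ∈ Submodule.span k (Set.range fun i : Fin n => x ^ (i : ℕ)) := by
    intro d
    induction d with
    | zero => intro m hm a; rw [show m = n by omega, hn, zero_mul]; exact zero_mem _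
    | succ d ih =>
      intro m hm a
      obtain ⟨b, hb⟩ := Ideal.mem_span_singleton'.mp (hx (sub_algebraMap_counit_mem_aug (k := k) a))
      have e : x ^ m * a = counit (R := k) a • x ^ m + x ^ (m + 1) * b := by
        rw [Algebra.smul_def, pow_succ, mul_assoc (x ^ m) x b, mul_comm x b, hb]; ring
      rw [e]
      exact add_mem (Submodule.smul_mem _ _ (Submodule.subset_span ⟨⟨m, by omega⟩, rfl⟩)) (ih (m + 1) (by omega) b)
  refine eq_top_iff.mpr fun a _ => ?_
  simpa using key n 0 (by omega) a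

theorem isHopfIdeal_span_singleton {x : A} (hε : counit (R := k) x = 0) {u v : A}
    (hΔ : comul (R := k) x = x ⊗ₜ[k] u + v ⊗ₜ[k] x) (hS : HopfAlgebra.antipode k x ∈ Ideal.span {x}) :
    (Ideal.span {x}).IsHopfIdeal k := by
  let π : A →ₐ[k] A ⧸ Ideal.span {x} := Ideal.Quotient.mkₐ k _
  have hπ : π x = 0 := Ideal.Quotient.eq_zero_iff_mem.mpr (Ideal.mem_span_singleton_self x)
  refine { counit_eq_zero := fun y hy => ?_, map_mkQ_comul_eq_zero := fun y hy => ?_, antipode_mem := fun y hy => ?_ }
  · obtain ⟨r, rfl⟩ := Ideal.mem_span_singleton'.mp hy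
    rw [Bialgebra.counit_mul, hε, mul_zero]
  · obtain ⟨r, rfl⟩ := Ideal.mem_span_singleton'.mp hy
    show Algebra.TensorProduct.map π π (comul (R := k) (r * x)) = 0
    rw [Bialgebra.comul_mul, map_mul, hΔ, map_add, Algebra.TensorProduct.map_tmul,
      Algebra.TensorProduct.map_tmul, hπ, TensorProduct.zero_tmul, TensorProduct.tmul_zero, add_zero, mul_zero]
  · obtain ⟨r, rfl⟩ := Ideal.mem_span_singleton'.mp hy
    rw [HopfAlgebra.antipode_mul_distrib]
    exact Ideal.mul_mem_left _ _ hS

theorem linearIndependent_pow_pointDer (p : ℕ) [hp : Fact p.Prime] [CharP k p] {δ : A →ₗ[k] k} (hδ : IsPointDer δ)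
    {x : A} (hx : counit (R := k) x = 0) (hxδ : δ x = 1) :
    LinearIndependent k (fun i : Fin p => x ^ (i : ℕ)) := by
  classical
  refine linearIndependent_iff'.mpr fun s c hc j hj => ?_
  by_contra hne
  obtain ⟨i, hi, hmin⟩ := Finset.exists_min_image (s.filter fun i => c i ≠ 0) id
    ⟨j, Finset.mem_filter.mpr ⟨hj, hne⟩⟩
  obtain ⟨his, hci⟩ := Finset.mem_filter.mp hi
  have h := congrArg (fun f => counit (R := k) ((invDer hδ : A → A)^[(i : ℕ)] f)) hc
  simp only [← Derivation.coeFn_coe, ← Module.End.pow_apply, map_sum, map_smul, map_zero, smul_eq_mul] at h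
  rw [Finset.sum_eq_single i] at h
  · have hmem := iterate_pow_sub_mem hδ hx hxδ (i : ℕ)
    rw [RingHom.mem_ker, map_sub, AlgHom.commutes, Bialgebra.counitAlgHom_apply, sub_eq_zero,
      Algebra.algebraMap_self, RingHom.id_apply] at hmem
    rw [Module.End.pow_apply] at h
    rw [show (invDer hδ : A →ₗ[k] A) = (invDer hδ).toLinearMap from rfl] at h
    have h' : c i * ((i : ℕ).factorial : k) = 0 := by rw [← hmem]; exact h
    refine hci ((mul_eq_zero.mp h').resolve_right ?_)
    intro h0
    rw [CharP.cast_eq_zero_iff k p, hp.out.dvd_factorial] at h0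
    exact not_le.mpr i.2 h0
  · intro b hb hbi
    by_cases hcb : c b = 0
    · rw [hcb, zero_mul]
    have hlt : (i : ℕ) < b := lt_of_le_of_ne (hmin b (Finset.mem_filter.mpr ⟨hb, hcb⟩)) fun h =>
      hbi (Fin.ext h.symm)
    have := iterate_mem_of_lt hδ hx hxδ hlt 1
    rw [mul_one, RingHom.mem_ker, Bialgebra.counitAlgHom_apply] at this
    rw [Module.End.pow_apply]
    exact mul_eq_zero_of_right _ this
  · intro h'; exact absurd his h'

end Local

section Classify

variable {k : Type u} [Field k] {A : Type u} [CommRing A] [HopfAlgebra k A] [Module.Finite k A]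
  [IsLocalRing A] (p : ℕ) [hp : Fact p.Prime] [CharP k p]

omit [Module.Finite k A] [IsLocalRing A] in
theorem counit_of_primitive {x : A} (hx : comul (R := k) x = x ⊗ₜ[k] 1 + 1 ⊗ₜ[k] x) :
    counit (R := k) x = 0 := by
  haveI := (Bialgebra.counitAlgHom k A).toRingHom.domain_nontrivial
  have h := congrArg (TensorProduct.lid k A) (Coalgebra.rTensor_counit_comul (R := k) x)
  rw [hx, map_add, LinearMap.rTensor_tmul, LinearMap.rTensor_tmul, map_add, TensorProduct.lid_tmul,
    TensorProduct.lid_tmul, TensorProduct.lid_tmul, Bialgebra.counit_one, one_smul, add_eq_right,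
    ← Algebra.algebraMap_eq_smul_one] at h
  exact (map_eq_zero_iff _ (algebraMap k A).injective).mp h

omit [Module.Finite k A] [IsLocalRing A] in
theorem antipode_of_primitive {x : A} (hx : comul (R := k) x = x ⊗ₜ[k] 1 + 1 ⊗ₜ[k] x) :
    HopfAlgebra.antipode k x = -x := by
  have h := HopfAlgebra.mul_antipode_rTensor_comul_apply (R := k) x
  rw [hx, map_add, LinearMap.rTensor_tmul, LinearMap.rTensor_tmul, map_add, LinearMap.mul'_apply,
    LinearMap.mul'_apply, HopfAlgebra.antipode_one, mul_one, one_mul, counit_of_primitive hx, map_zero] at h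
  exact eq_neg_of_add_eq_zero_left h

omit [IsLocalRing A] [Module.Finite k A] in
theorem comul_pow_char_of_primitive {x : A} (hx : comul (R := k) x = x ⊗ₜ[k] 1 + 1 ⊗ₜ[k] x) :
    comul (R := k) (x ^ p) = (x ^ p) ⊗ₜ[k] 1 + 1 ⊗ₜ[k] (x ^ p) := by
  haveI := (Bialgebra.counitAlgHom k A).toRingHom.domain_nontrivial
  haveI : CharP (A ⊗[k] A) p := by
    haveI : Nontrivial (A ⊗[k] A) :=
      ((Algebra.TensorProduct.lift (Bialgebra.counitAlgHom k A) (Bialgebra.counitAlgHom k A)
          fun _ _ => .all _ _).toRingHom).domain_nontrivial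
    exact charP_of_injective_algebraMap (algebraMap k (A ⊗[k] A)).injective p
  rw [Bialgebra.comul_pow, hx, add_pow_char, Algebra.TensorProduct.tmul_pow, Algebra.TensorProduct.tmul_pow, one_pow]

theorem exists_alphaP_generator_of_simple [Coalgebra.IsCocomm k A]
    (hdual : IsLocalRing (WithConv (A →ₗ[k] k))) (hA : 1 < Module.finrank k A)
    (hsimple : ∀ I : Ideal A, I.IsHopfIdeal k → I = ⊥ ∨ I = RingHom.ker (Bialgebra.counitAlgHom k A)) :
    ∃ x : A, comul (R := k) x = x ⊗ₜ[k] (1 : A) + (1 : A) ⊗ₜ[k] x ∧ x ^ p = 0 ∧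
      LinearIndependent k (fun i : Fin p => x ^ (i : ℕ)) ∧ Module.finrank k A = p := by
  haveI : IsLocalRing (CartDual.D k A) := hdual
  have hD : 1 < Module.finrank k (CartDual.D k A) := by
    rwa [(WithConv.linearEquiv k (A →ₗ[k] k)).finrank_eq, Subspace.dual_finrank_eq]
  obtain ⟨d, hd, hd0⟩ := exists_pointDer_of_isLocalRing (k := k) hD
  obtain ⟨y, hy0, hy⟩ := exists_primitive_of_pointDer hd hd0
  obtain ⟨x, hx0, hx, hxp⟩ : ∃ x : A, x ≠ 0 ∧ comul (R := k) x = x ⊗ₜ[k] 1 + 1 ⊗ₜ[k] x ∧ x ^ p = 0 := by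
    obtain ⟨n, hn⟩ := isNilpotent_of_counit_eq_zero (k := k) (counit_of_primitive hy)
    have hex : ∃ i, y ^ p ^ i = 0 := ⟨n, pow_eq_zero_of_le (Nat.lt_pow_self hp.out.one_lt).le hn⟩
    have hprim : ∀ i, comul (R := k) (y ^ p ^ i) = (y ^ p ^ i) ⊗ₜ[k] 1 + 1 ⊗ₜ[k] (y ^ p ^ i) := by
      intro i
      induction i with
      | zero => simpa using hy
      | succ i ih => rw [pow_succ, pow_mul]; exact comul_pow_char_of_primitive p ih
    classical
    have h0 : Nat.find hex ≠ 0 := fun h => hy0 (by simpa [h] using Nat.find_spec hex)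
    obtain ⟨i, hi⟩ := Nat.exists_eq_succ_of_ne_zero h0
    refine ⟨y ^ p ^ i, Nat.find_min hex (by omega), hprim i, ?_⟩
    rw [← pow_mul, ← pow_succ]
    have hsp := Nat.find_spec hex
    rw [hi] at hsp
    exact hsp
  have hε := counit_of_primitive hx
  have hI := isHopfIdeal_span_singleton hε hx
    (by rw [antipode_of_primitive hx]; exact neg_mem (Ideal.mem_span_singleton_self x))
  have haug : Ideal.span {x} = aug k A := (hsimple _ hI).resolve_left fun h =>
    hx0 (by rw [← Ideal.mem_bot, ← h]; exact Ideal.mem_span_singleton_self x)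
  have hspan := span_pow_eq_top_of_aug_le haug.ge hxp
  have hx2 : x ∉ aug k A ^ 2 := fun h => by
    rw [← haug, Ideal.span_singleton_pow, Ideal.mem_span_singleton'] at h
    obtain ⟨a, ha⟩ := h
    have hu : IsUnit (1 - a * x) :=
      IsNilpotent.isUnit_one_sub ((Commute.all _ _).isNilpotent_mul_left ⟨p, hxp⟩)
    exact hx0 (hu.mul_left_eq_zero.mp (by linear_combination -ha))
  obtain ⟨δ, hδ, hδx⟩ := exists_pointDer_of_notMem_sq hε hx2
  have hli : LinearIndependent k (fun i : Fin p => x ^ (i : ℕ)) := linearIndependent_pow_pointDer p hδ hε hδx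
  exact ⟨x, hx, hxp, hli, by rw [← finrank_top k A, ← hspan, finrank_span_eq_card hli, Fintype.card_fin]⟩

theorem exists_muP_generator_of_simple [IsAlgClosed k] [Coalgebra.IsCocomm k A]
    (hdual : IsReduced (WithConv (A →ₗ[k] k))) (hA : 1 < Module.finrank k A)
    (hsimple : ∀ I : Ideal A, I.IsHopfIdeal k → I = ⊥ ∨ I = RingHom.ker (Bialgebra.counitAlgHom k A)) :
    ∃ g : A, IsGroupLikeElem k g ∧ g ^ p = 1 ∧ LinearIndependent k (fun i : Fin p => g ^ (i : ℕ)) ∧
      Module.finrank k A = p := by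
  haveI : IsReduced (CartDual.D k A) := hdual
  haveI : IsArtinianRing (CartDual.D k A) := IsArtinianRing.of_finite k _
  -- a group-like element other than one
  obtain ⟨a, haG, ha1⟩ : ∃ a : A, IsGroupLikeElem k a ∧ a ≠ 1 := by
    by_contra hno
    push Not at hno
    -- every functional vanishing at one is zero
    have hzero : ∀ f : CartDual.D k A, f.ofConv 1 = 0 → f = 0 := by
      intro f hf
      have hn : f ∈ nilradical (CartDual.D k A) := by
        rw [nilradical_eq_sInf, Ideal.mem_sInf]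
        intro J hJ
        haveI : J.IsPrime := hJ
        haveI : J.IsMaximal := IsArtinianRing.isMaximal_of_isPrime J
        obtain ⟨φ, hφ⟩ := exists_point_ker (k := k) J
        obtain ⟨a, ha1, ha2, ha⟩ := exists_groupLike_of_point φ
        rw [← hφ, ha, hno a ⟨ha1, ha2⟩, hf]
      rw [nilradical_eq_zero] at hn
      simpa using hn
    obtain ⟨b, hb⟩ : ∃ b : A, b ∉ k ∙ (1 : A) := by
      by_contra h
      push Not at h
      have := finrank_le_one (1 : A) fun w => Submodule.mem_span_singleton.mp (h w)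
      omega
    obtain ⟨φ, hφb, hφ⟩ := Submodule.exists_le_ker_of_notMem hb
    exact hφb (LinearMap.congr_fun (congrArg WithConv.ofConv
      (hzero (toConv φ) (hφ (Submodule.mem_span_singleton_self _)))) b)
  haveI : Nontrivial A := (Bialgebra.counitAlgHom k A).toRingHom.domain_nontrivial
  haveI : CharP A p := charP_of_injective_algebraMap (algebraMap k A).injective p
  obtain ⟨g, hg, hg1, hgp⟩ : ∃ g : A, IsGroupLikeElem k g ∧ g ≠ 1 ∧ g ^ p = 1 := by
    obtain ⟨n, hn⟩ := isNilpotent_of_counit_eq_zero (k := k) (a := a - 1)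
      (by rw [map_sub, haG.counit_eq_one, Bialgebra.counit_one, sub_self])
    have hex : ∃ i, a ^ p ^ i = 1 := ⟨n, by
      rw [← sub_eq_zero, ← one_pow (p ^ n), ← sub_pow_char_pow]
      exact pow_eq_zero_of_le (Nat.lt_pow_self hp.out.one_lt).le hn⟩
    classical
    have h0 : Nat.find hex ≠ 0 := fun h => ha1 (by simpa [h] using Nat.find_spec hex)
    obtain ⟨i, hi⟩ := Nat.exists_eq_succ_of_ne_zero h0
    refine ⟨a ^ p ^ i, haG.pow, Nat.find_min hex (by omega), ?_⟩
    rw [← pow_mul, ← pow_succ]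
    have hsp := Nat.find_spec hex
    rw [hi] at hsp
    exact hsp
  have hε : counit (R := k) (g - 1) = 0 := by rw [map_sub, hg.counit_eq_one, Bialgebra.counit_one, sub_self]
  have hΔ : comul (R := k) (g - 1) = (g - 1) ⊗ₜ[k] g + 1 ⊗ₜ[k] (g - 1) := by
    rw [map_sub, hg.comul_eq_tmul_self, Bialgebra.comul_one, Algebra.TensorProduct.one_def, sub_tmul, tmul_sub]
    abel
  have hI := isHopfIdeal_span_singleton hε hΔ (by
    refine Ideal.mem_span_singleton'.mpr ⟨-HopfAlgebra.antipode k g, ?_⟩
    rw [map_sub, HopfAlgebra.antipode_one, mul_sub, neg_mul, hg.antipode_mul_cancel]; ring)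
  have haug : Ideal.span {g - 1} = aug k A := (hsimple _ hI).resolve_left fun h =>
    hg1 (sub_eq_zero.mp (by rw [← Ideal.mem_bot, ← h]; exact Ideal.mem_span_singleton_self _))
  have hspan := span_pow_eq_top_of_aug_le (n := p) haug.ge (by rw [sub_pow_char, hgp, one_pow, sub_self])
  have hord : orderOf g = p := orderOf_eq_prime hgp hg1
  have hinj : Function.Injective fun i : Fin p => g ^ (i : ℕ) := fun i j h =>
    Fin.ext (pow_injOn_Iio_orderOf (by rw [hord]; exact i.2) (by rw [hord]; exact j.2) h)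
  have hli : LinearIndependent k (fun i : Fin p => g ^ (i : ℕ)) :=
    (linearIndepOn_isGroupLikeElem (R := k) (A := A)).comp (fun i : Fin p => (⟨g ^ (i : ℕ), hg.pow⟩ : {a : A | IsGroupLikeElem k a}))
      fun i j h => hinj (congrArg Subtype.val h)
  refine ⟨g, hg, hgp, hli, le_antisymm ?_ ?_⟩
  · rw [← finrank_top k A, ← hspan]
    exact (finrank_range_le_card _).trans (Fintype.card_fin p).le
  · simpa using hli.fintype_card_le_finrank

end Classify

end

end Groth.Agent.H20OT
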