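import Groth.Agent.H20OT.OrderP
import Groth.Agent.H20OT.PthLine
import Mathlib.RingTheory.Bialgebra.TensorProduct
import Mathlib.Algebra.BigOperators.Intervals
import Mathlib.Algebra.Polynomial.Div
import Mathlib.Algebra.Polynomial.Roots
import Mathlib.Data.Nat.Choose.Dvd

/-!
A non-reduced finite group scheme over an algebraically closed field of characteristic `p` contains `μ_p` or `α_p`.
-/

set_option autoImplicit false

universe u v

open TensorProduct WithConv Coalgebra

namespace Groth.Agent.H20OT

noncomputable section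

section Conv

variable {k : Type u} [Field k] {A : Type v} [CommRing A] [Bialgebra k A]

theorem dual2_mul_tmul (f g : WithConv (A ⊗[k] A →ₗ[k] k)) (a b : A) :
    (f * g).ofConv (a ⊗ₜ b) = ∑ i ∈ (ℛ k a).index, ∑ j ∈ (ℛ k b).index,
      f.ofConv ((ℛ k a).left i ⊗ₜ (ℛ k b).left j) * g.ofConv ((ℛ k a).right i ⊗ₜ (ℛ k b).right j) :=
  (((ℛ k a).tmul (ℛ k b)).convMul_apply f g).trans
    (Finset.sum_product' (ℛ k a).index (ℛ k b).index fun i j =>
      f.ofConv ((ℛ k a).left i ⊗ₜ (ℛ k b).left j) * g.ofConv ((ℛ k a).right i ⊗ₜ (ℛ k b).right j))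

variable (k A) in
/-- a functional in the first variable -/
def iFst : WithConv (A →ₗ[k] k) →ₐ[k] WithConv (A ⊗[k] A →ₗ[k] k) :=
  AlgHom.ofLinearMap
    { toFun := fun f => toConv (LinearMap.mul' k k ∘ₗ TensorProduct.map f.ofConv counit)
      map_add' := fun f g => WithConv.ofConv_injective (TensorProduct.ext' fun a b => by simp [add_mul])
      map_smul' := fun c f => WithConv.ofConv_injective (TensorProduct.ext' fun a b => by simp [mul_assoc]) }
    (WithConv.ofConv_injective (TensorProduct.ext' fun a b => by simp [LinearMap.convOne_apply, mul_comm]))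
    (fun f g => WithConv.ofConv_injective (TensorProduct.ext' fun a b => by
      rw [dual2_mul_tmul]
      simp only [LinearMap.coe_mk, AddHom.coe_mk, ofConv_toConv, LinearMap.coe_comp, Function.comp_apply,
        TensorProduct.map_tmul, LinearMap.mul'_apply, (ℛ k a).convMul_apply]
      conv_lhs => rw [← Coalgebra.sum_counit_smul (ℛ k b), map_sum, Finset.sum_mul]
      refine Finset.sum_congr rfl fun i _ => ?_
      rw [Finset.mul_sum]
      refine Finset.sum_congr rfl fun j _ => ?_
      rw [map_smul, smul_eq_mul]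
      ring))

theorem iFst_tmul (f : WithConv (A →ₗ[k] k)) (a b : A) :
    (iFst k A f).ofConv (a ⊗ₜ b) = f.ofConv a * counit (R := k) b := rfl

variable (k A) in
/-- a functional in the second variable -/
def iSnd : WithConv (A →ₗ[k] k) →ₐ[k] WithConv (A ⊗[k] A →ₗ[k] k) :=
  AlgHom.ofLinearMap
    { toFun := fun f => toConv (LinearMap.mul' k k ∘ₗ TensorProduct.map counit f.ofConv)
      map_add' := fun f g => WithConv.ofConv_injective (TensorProduct.ext' fun a b => by simp [mul_add])
      map_smul' := fun c f => WithConv.ofConv_injective (TensorProduct.ext' fun a b => by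
        simp [mul_left_comm]) }
    (WithConv.ofConv_injective (TensorProduct.ext' fun a b => by simp [LinearMap.convOne_apply, mul_comm]))
    (fun f g => WithConv.ofConv_injective (TensorProduct.ext' fun a b => by
      rw [dual2_mul_tmul]
      simp only [LinearMap.coe_mk, AddHom.coe_mk, ofConv_toConv, LinearMap.coe_comp, Function.comp_apply,
        TensorProduct.map_tmul, LinearMap.mul'_apply, (ℛ k b).convMul_apply]
      conv_lhs => rw [← Coalgebra.sum_counit_smul (ℛ k a), map_sum, Finset.sum_mul]
      refine Finset.sum_congr rfl fun i _ => ?_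
      rw [Finset.mul_sum]
      refine Finset.sum_congr rfl fun j _ => ?_
      rw [map_smul, smul_eq_mul]
      ring))

theorem iSnd_tmul (f : WithConv (A →ₗ[k] k)) (a b : A) :
    (iSnd k A f).ofConv (a ⊗ₜ b) = counit (R := k) a * f.ofConv b := rfl

theorem iFst_mul_iSnd (f g : WithConv (A →ₗ[k] k)) (a b : A) :
    (iFst k A f * iSnd k A g).ofConv (a ⊗ₜ b) = f.ofConv a * g.ofConv b := by
  rw [dual2_mul_tmul]
  simp only [iFst_tmul, iSnd_tmul]
  have e : ∀ i j, f.ofConv ((ℛ k a).left i) * counit (R := k) ((ℛ k b).left j) *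
      (counit (R := k) ((ℛ k a).right i) * g.ofConv ((ℛ k b).right j)) =
      (counit (R := k) ((ℛ k a).right i) • f.ofConv ((ℛ k a).left i)) *
      (counit (R := k) ((ℛ k b).left j) • g.ofConv ((ℛ k b).right j)) := fun i j => by
    simp only [smul_eq_mul]; ring
  simp only [e, ← Finset.sum_mul_sum, ← map_smul, ← map_sum]
  rw [Coalgebra.sum_counit_smul]
  congr 2
  have := congrArg (TensorProduct.rid k A) (Coalgebra.sum_tmul_counit_eq (ℛ k a))
  simp only [map_sum, TensorProduct.rid_tmul, one_smul] at this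
  exact this

theorem iSnd_mul_iFst (f g : WithConv (A →ₗ[k] k)) (a b : A) :
    (iSnd k A g * iFst k A f).ofConv (a ⊗ₜ b) = f.ofConv a * g.ofConv b := by
  rw [dual2_mul_tmul]
  simp only [iFst_tmul, iSnd_tmul]
  have e : ∀ i j, counit (R := k) ((ℛ k a).left i) * g.ofConv ((ℛ k b).left j) *
      (f.ofConv ((ℛ k a).right i) * counit (R := k) ((ℛ k b).right j)) =
      (counit (R := k) ((ℛ k a).left i) • f.ofConv ((ℛ k a).right i)) *
      (counit (R := k) ((ℛ k b).right j) • g.ofConv ((ℛ k b).left j)) := fun i j => by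
    simp only [smul_eq_mul]; ring
  simp only [e, ← Finset.sum_mul_sum, ← map_smul, ← map_sum]
  rw [Coalgebra.sum_counit_smul]
  congr 2
  have := congrArg (TensorProduct.rid k A) (Coalgebra.sum_tmul_counit_eq (ℛ k b))
  simp only [map_sum, TensorProduct.rid_tmul, one_smul] at this
  exact this

theorem commute_iFst_iSnd (f g : WithConv (A →ₗ[k] k)) : Commute (iFst k A f) (iSnd k A g) :=
  WithConv.ofConv_injective (TensorProduct.ext' fun a b => by rw [iFst_mul_iSnd, iSnd_mul_iFst])

variable (k A) in
/-- composing with the multiplication -/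
def preMul : WithConv (A →ₗ[k] k) →ₐ[k] WithConv (A ⊗[k] A →ₗ[k] k) :=
  AlgHom.ofLinearMap
    { toFun := fun f => toConv (f.ofConv ∘ₗ LinearMap.mul' k A)
      map_add' := fun f g => WithConv.ofConv_injective (TensorProduct.ext' fun a b => by simp)
      map_smul' := fun c f => WithConv.ofConv_injective (TensorProduct.ext' fun a b => by simp) }
    (WithConv.ofConv_injective (TensorProduct.ext' fun a b => by simp [LinearMap.convOne_apply, mul_comm]))
    (fun f g => WithConv.ofConv_injective
      (LinearMap.convMul_comp_coalgHom_distrib f g (Bialgebra.mulCoalgHom k A)))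

theorem preMul_tmul (f : WithConv (A →ₗ[k] k)) (a b : A) : (preMul k A f).ofConv (a ⊗ₜ b) = f.ofConv (a * b) := rfl

theorem mul_apply_eq_lift (f g : WithConv (A →ₗ[k] k)) (a : A) :
    (f * g).ofConv a = ∑ i ∈ (ℛ k a).index, f.ofConv ((ℛ k a).left i) * g.ofConv ((ℛ k a).right i) :=
  (ℛ k a).convMul_apply f g

variable (k A) in
/-- evaluation at `1` -/
def evalOne : WithConv (A →ₗ[k] k) →ₐ[k] k :=
  AlgHom.ofLinearMap
    { toFun := fun f => f.ofConv 1
      map_add' := fun f g => LinearMap.add_apply _ _ _
      map_smul' := fun c f => rfl }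
    (by show (1 : WithConv (A →ₗ[k] k)).ofConv 1 = 1; rw [LinearMap.convOne_apply, Bialgebra.counit_one, map_one])
    (fun f g => by
      show (f * g).ofConv 1 = f.ofConv 1 * g.ofConv 1
      rw [LinearMap.convMul_apply, Bialgebra.comul_one, Algebra.TensorProduct.one_def, TensorProduct.map_tmul,
        LinearMap.mul'_apply])

theorem evalOne_apply (f : WithConv (A →ₗ[k] k)) : evalOne k A f = f.ofConv 1 := rfl

end Conv

section SplitPoly

open Polynomial

variable (p : ℕ) [hp : Fact p.Prime] (k : Type u) [Field k] [CharP k p]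

/-- the indicator polynomial of an element of the prime field -/
def splitPoly (j : ZMod p) : k[X] := 1 - (X - C (ZMod.castHom (dvd_refl p) k j)) ^ (p - 1)

theorem eval_splitPoly (i j : ZMod p) :
    (splitPoly p k j).eval (ZMod.castHom (dvd_refl p) k i) = if i = j then 1 else 0 := by
  rw [splitPoly, eval_sub, eval_one, eval_pow, eval_sub, eval_X, eval_C, ← map_sub]
  split_ifs with h
  · rw [h, sub_self, map_zero, zero_pow (Nat.sub_ne_zero_of_lt hp.out.one_lt), sub_zero]
  · rw [← map_pow, ZMod.pow_card_sub_one_eq_one (sub_ne_zero.mpr h), map_one, sub_self]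

theorem sum_splitPoly : ∑ j, splitPoly p k j = 1 := by
  classical
  have hdeg : ∀ j, (splitPoly p k j).natDegree ≤ p - 1 := fun j => by
    refine (natDegree_sub_le _ _).trans (max_le (by simp) ?_)
    rw [natDegree_pow, natDegree_X_sub_C, mul_one]
  refine eq_of_natDegree_lt_card_of_eval_eq (ι := ZMod p) _ _ (RingHom.injective (ZMod.castHom (dvd_refl p) k))
    (fun i => ?_) ?_
  · rw [eval_finsetSum, eval_one, Finset.sum_congr rfl fun j _ => eval_splitPoly p k i j]
    simp
  · rw [ZMod.card]
    refine max_lt (lt_of_le_of_lt (natDegree_sum_le_of_forall_le _ _ fun j _ => hdeg j)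
      (Nat.sub_lt hp.out.pos one_pos)) (by simp [hp.out.pos])

variable {p k} {S : Type v} [CommRing S] [Algebra k S]

theorem sub_mul_splitPoly_eq_zero {t : S} (ht : t ^ p = t) (j : ZMod p) :
    (t - algebraMap k S (ZMod.castHom (dvd_refl p) k j)) * aeval t (splitPoly p k j) = 0 := by
  rcases subsingleton_or_nontrivial S with _ | _
  · exact Subsingleton.elim _ _
  haveI : CharP S p := charP_of_injective_algebraMap (algebraMap k S).injective p
  rw [splitPoly, map_sub, map_one, map_pow, map_sub, aeval_X, aeval_C, mul_sub, mul_one, ← pow_succ',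
    Nat.sub_add_cancel hp.out.pos, sub_pow_char, ht, ← map_pow, ← map_pow, ZMod.pow_card, sub_self]

theorem mul_splitPoly_eq {t : S} (ht : t ^ p = t) (j : ZMod p) (Q : S[X]) :
    Q.eval t * aeval t (splitPoly p k j) =
      Q.eval (algebraMap k S (ZMod.castHom (dvd_refl p) k j)) * aeval t (splitPoly p k j) := by
  obtain ⟨r, hr⟩ := sub_dvd_eval_sub t (algebraMap k S (ZMod.castHom (dvd_refl p) k j)) Q
  rw [← sub_eq_zero, ← sub_mul, hr, mul_right_comm, sub_mul_splitPoly_eq_zero ht, zero_mul]

theorem aeval_splitPoly_mul {t : S} (ht : t ^ p = t) (i j : ZMod p) :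
    aeval t (splitPoly p k i) * aeval t (splitPoly p k j) = if i = j then aeval t (splitPoly p k j) else 0 := by
  have h := mul_splitPoly_eq (k := k) ht j ((splitPoly p k i).map (algebraMap k S))
  simp only [eval_map, ← aeval_def] at h
  rw [aeval_algebraMap_apply_eq_algebraMap_eval, eval_splitPoly] at h
  rw [h]
  split_ifs with h1 h2 h3
  · rw [map_one, one_mul]
  · exact absurd h1.symm h2
  · exact absurd h3.symm h1
  · rw [map_zero, zero_mul]

theorem aeval_splitPoly_add {t u : S} (ht : t ^ p = t) (hu : u ^ p = u) (n : ZMod p) :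
    aeval (t + u) (splitPoly p k n) =
      ∑ i, aeval t (splitPoly p k i) * aeval u (splitPoly p k (n - i)) := by
  classical
  have hone : ∀ s : S, ∑ i, aeval s (splitPoly p k i) = 1 := fun s => by rw [← map_sum, sum_splitPoly, map_one]
  have key : ∀ i j, aeval (t + u) (splitPoly p k n) * (aeval t (splitPoly p k i) * aeval u (splitPoly p k j)) =
      if i + j = n then aeval t (splitPoly p k i) * aeval u (splitPoly p k j) else 0 := by
    intro i j
    have e1 : ∀ x y : S, (aeval (X + C y : S[X]) (splitPoly p k n)).eval x = aeval (x + y) (splitPoly p k n) := by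
      intro x y
      have := aeval_algHom_apply ((Polynomial.aeval x : S[X] →ₐ[S] S).restrictScalars k) (X + C y : S[X])
        (splitPoly p k n)
      simpa [coe_aeval_eq_eval] using this.symm
    rw [← mul_assoc, ← e1 t u, mul_splitPoly_eq ht i, e1, mul_right_comm, add_comm, ← e1 u,
      mul_splitPoly_eq hu j, e1, ← map_add, ← map_add, aeval_algebraMap_apply_eq_algebraMap_eval, eval_splitPoly,
      add_comm j i]
    split_ifs
    · rw [map_one, one_mul, mul_comm]
    · rw [map_zero, zero_mul, zero_mul]
  calc aeval (t + u) (splitPoly p k n)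
      = aeval (t + u) (splitPoly p k n) * ((∑ i, aeval t (splitPoly p k i)) * ∑ j, aeval u (splitPoly p k j)) := by
        rw [hone, hone, mul_one, mul_one]
    _ = ∑ i, ∑ j, if i + j = n then aeval t (splitPoly p k i) * aeval u (splitPoly p k j) else 0 := by
        rw [Finset.sum_mul_sum, Finset.mul_sum]
        refine Finset.sum_congr rfl fun i _ => ?_
        rw [Finset.mul_sum]
        exact Finset.sum_congr rfl fun j _ => key i j
    _ = _ := Finset.sum_congr rfl fun i _ => by
        rw [Finset.sum_eq_single (n - i)]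
        · rw [if_pos (by abel)]
        · intro j _ hj; rw [if_neg]; intro h; exact hj (by rw [← h]; abel)
        · simp

end SplitPoly

section Build

variable (p : ℕ) [hp : Fact p.Prime] {k : Type u} [Field k] [CharP k p]
  {A : Type v} [CommRing A] [HopfAlgebra k A]

theorem preMul_eq {e : WithConv (A →ₗ[k] k)} (he : IsPointDer e.ofConv) : preMul k A e = iFst k A e + iSnd k A e :=
  WithConv.ofConv_injective (TensorProduct.ext' fun a b => by
    rw [WithConv.ofConv_add, LinearMap.add_apply, preMul_tmul, iFst_tmul, iSnd_tmul, he])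

theorem pointDer_pow_mul {e : WithConv (A →ₗ[k] k)} (he : IsPointDer e.ofConv) (n : ℕ) (a b : A) :
    (e ^ n).ofConv (a * b) =
      ∑ m ∈ Finset.range (n + 1), (n.choose m : k) * ((e ^ m).ofConv a * (e ^ (n - m)).ofConv b) := by
  rw [← preMul_tmul, map_pow, preMul_eq he, (commute_iFst_iSnd e e).add_pow, WithConv.ofConv_sum,
    LinearMap.sum_apply]
  refine Finset.sum_congr rfl fun m _ => ?_
  rw [← map_pow, ← map_pow, ← (n.choose m).cast_comm, ← nsmul_eq_mul, ← Nat.cast_smul_eq_nsmul k,
    WithConv.ofConv_smul, LinearMap.smul_apply, iFst_mul_iSnd, smul_eq_mul]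

theorem isPointDer_pow_char {e : WithConv (A →ₗ[k] k)} (he : IsPointDer e.ofConv) : IsPointDer (e ^ p).ofConv := by
  intro a b
  rw [pointDer_pow_mul he, Finset.sum_range_succ, Finset.sum_eq_single 0]
  · rw [Nat.choose_zero_right, Nat.choose_self, Nat.cast_one, one_mul, one_mul, Nat.sub_zero, Nat.sub_self, pow_zero e,
      LinearMap.convOne_apply, LinearMap.convOne_apply, Algebra.algebraMap_self, RingHom.id_apply, RingHom.id_apply]
    ring
  · intro m hm hm0
    rw [(CharP.cast_eq_zero_iff k p _).mpr (Nat.Prime.dvd_choose_self hp.out hm0 (Finset.mem_range.mp hm)), zero_mul]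
  · intro h; exact absurd (Finset.mem_range.mpr hp.out.pos) h

theorem pointDer_pow_one {e : WithConv (A →ₗ[k] k)} (he : IsPointDer e.ofConv) (n : ℕ) (hn : n ≠ 0) :
    (e ^ n).ofConv 1 = 0 := by
  rw [← evalOne_apply, map_pow, evalOne_apply, pointDer_one he, zero_pow hn]

theorem exists_alphaP_of_pointDer {e : WithConv (A →ₗ[k] k)} (he : IsPointDer e.ofConv) (hep : e ^ p = 0)
    (hne : e ≠ 0) : ∃ f : A →ₐc[k] AlphaP.A p k, Function.Surjective f := by
  classical
  have hvanish : ∀ n, p ≤ n → ∀ a : A, (e ^ n).ofConv a = 0 := fun n hn a => by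
    rw [show n = p + (n - p) by omega, pow_add, hep, zero_mul]
    rfl
  have hfac : ∀ n, n < p → ((n.factorial : ℕ) : k) ≠ 0 := fun n hn h => by
    rw [CharP.cast_eq_zero_iff k p, hp.out.dvd_factorial] at h
    omega
  let co : ℕ → A → k := fun n a => ((n.factorial : k))⁻¹ * (e ^ n).ofConv a
  have hchoose : ∀ m n, m ≤ n → n < p →
      ((n.factorial : k))⁻¹ * (n.choose m : k) = (m.factorial : k)⁻¹ * ((n - m).factorial : k)⁻¹ := by
    intro m n hm hn
    have h1 := hfac n hn
    have h2 := hfac m (lt_of_le_of_lt hm hn)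
    have h3 := hfac (n - m) (lt_of_le_of_lt (Nat.sub_le _ _) hn)
    have h4 : (n.choose m : k) * (m.factorial : k) * ((n - m).factorial : k) = (n.factorial : k) := by
      exact_mod_cast congrArg (Nat.cast : ℕ → k) (Nat.choose_mul_factorial_mul_factorial hm)
    field_simp
    linear_combination h4
  have hcomul : ∀ n, n < p → ∀ a b, co n (a * b) = ∑ m ∈ Finset.range (n + 1), co m a * co (n - m) b := by
    intro n hn a b
    simp only [co, pointDer_pow_mul he, Finset.mul_sum]
    refine Finset.sum_congr rfl fun m hm => ?_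
    rw [← mul_assoc, hchoose m n (Finset.mem_range_succ_iff.mp hm) hn]
    ring
  let L : A →ₗ[k] AlphaP.A p k :=
    { toFun := fun a => ∑ n ∈ Finset.range p, co n a • AlphaP.x p k ^ n
      map_add' := fun a b => by simp only [co, map_add, mul_add, add_smul, Finset.sum_add_distrib]
      map_smul' := fun c a => by
        simp only [co, map_smul, smul_eq_mul, RingHom.id_apply, Finset.smul_sum, smul_smul]
        exact Finset.sum_congr rfl fun n _ => by rw [mul_left_comm] }
  have hL : ∀ a, L a = ∑ n ∈ Finset.range p, co n a • AlphaP.x p k ^ n := fun a => rfl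
  have hone : L 1 = 1 := by
    rw [hL, Finset.sum_eq_single 0]
    · simp [co, LinearMap.convOne_apply]
    · intro n _ hn; simp only [co, pointDer_pow_one he n hn, mul_zero, zero_smul]
    · intro h; exact absurd (Finset.mem_range.mpr hp.out.pos) h
  have hmul : ∀ a b, L (a * b) = L a * L b := by
    intro a b
    rw [hL, hL, hL, Finset.sum_mul_sum]
    calc ∑ n ∈ Finset.range p, co n (a * b) • AlphaP.x p k ^ n
        = ∑ n ∈ Finset.range p, ∑ m ∈ Finset.range (n + 1),
            (co m a * co (n - m) b) • AlphaP.x p k ^ (m + (n - m)) := by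
          refine Finset.sum_congr rfl fun n hn => ?_
          rw [hcomul n (Finset.mem_range.mp hn), Finset.sum_smul]
          exact Finset.sum_congr rfl fun m hm => by
            rw [Nat.add_sub_cancel' (Finset.mem_range_succ_iff.mp hm)]
      _ = ∑ m ∈ Finset.range p, ∑ j ∈ Finset.range (p - m), (co m a * co j b) • AlphaP.x p k ^ (m + j) :=
          Finset.sum_range_diag_flip p fun m j => (co m a * co j b) • AlphaP.x p k ^ (m + j)
      _ = _ := by
          refine Finset.sum_congr rfl fun m _ => ?_
          rw [Finset.sum_subset (Finset.range_mono (Nat.sub_le p m)) fun j _ hj => by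
            rw [pow_eq_zero_of_le (by simp at hj; omega) (AlphaP.x_pow p k), smul_zero]]
          exact Finset.sum_congr rfl fun j _ => by rw [smul_mul_smul_comm, pow_add]
  let Φ : A →ₐ[k] AlphaP.A p k := AlgHom.ofLinearMap L hone hmul
  have hΦ : ∀ a, Φ a = ∑ n ∈ Finset.range p, co n a • AlphaP.x p k ^ n := fun a => rfl
  have hcounit : ∀ a, counit (R := k) (Φ a) = counit (R := k) a := by
    intro a
    rw [hΦ, map_sum, Finset.sum_eq_single 0]
    · simp [co, LinearMap.convOne_apply]
    · intro n _ hn; rw [map_smul, alphaP_counit_pow p hn, smul_zero]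
    · intro h; exact absurd (Finset.mem_range.mpr hp.out.pos) h
  let ψ : A →ₐc[k] AlphaP.A p k := BialgHom.ofAlgHom Φ (AlgHom.ext hcounit) (AlgHom.ext fun a => by
    simp only [AlgHom.comp_apply, Bialgebra.comulAlgHom_apply]
    rw [← (ℛ k a).eq, map_sum]
    simp only [Algebra.TensorProduct.map_tmul, hΦ, TensorProduct.sum_tmul, TensorProduct.tmul_sum, map_sum, map_smul,
      alphaP_comul_pow, Finset.smul_sum, smul_tmul_smul]
    calc ∑ l ∈ (ℛ k a).index, ∑ j ∈ Finset.range p, ∑ i ∈ Finset.range p,
          (co i ((ℛ k a).left l) * co j ((ℛ k a).right l)) • ((AlphaP.x p k ^ i) ⊗ₜ[k] (AlphaP.x p k ^ j))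
        = ∑ i ∈ Finset.range p, ∑ j ∈ Finset.range p,
          ((i.factorial : k)⁻¹ * (j.factorial : k)⁻¹ * (e ^ (i + j)).ofConv a) •
            ((AlphaP.x p k ^ i) ⊗ₜ[k] (AlphaP.x p k ^ j)) := by
          rw [Finset.sum_comm]
          conv_rhs => rw [Finset.sum_comm]
          refine Finset.sum_congr rfl fun j _ => ?_
          rw [Finset.sum_comm]
          refine Finset.sum_congr rfl fun i _ => ?_
          rw [← Finset.sum_smul, pow_add e, mul_apply_eq_lift, Finset.mul_sum]
          exact congrArg (· • _) (Finset.sum_congr rfl fun l _ => by simp only [co]; ring)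
      _ = ∑ i ∈ Finset.range p, ∑ j ∈ Finset.range (p - i),
          ((i.factorial : k)⁻¹ * (j.factorial : k)⁻¹ * (e ^ (i + j)).ofConv a) •
            ((AlphaP.x p k ^ i) ⊗ₜ[k] (AlphaP.x p k ^ j)) := by
          refine Finset.sum_congr rfl fun i _ => (Finset.sum_subset (Finset.range_mono (Nat.sub_le p i))
            fun j _ hj => ?_).symm
          rw [hvanish _ (by simp at hj; omega), mul_zero, zero_smul]
      _ = ∑ n ∈ Finset.range p, ∑ m ∈ Finset.range (n + 1),
          ((m.factorial : k)⁻¹ * ((n - m).factorial : k)⁻¹ * (e ^ (m + (n - m))).ofConv a) •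
            ((AlphaP.x p k ^ m) ⊗ₜ[k] (AlphaP.x p k ^ (n - m))) :=
          (Finset.sum_range_diag_flip p fun i j =>
            ((i.factorial : k)⁻¹ * (j.factorial : k)⁻¹ * (e ^ (i + j)).ofConv a) •
              ((AlphaP.x p k ^ i) ⊗ₜ[k] (AlphaP.x p k ^ j))).symm
      _ = _ := by
          refine Finset.sum_congr rfl fun n hn => Finset.sum_congr rfl fun m hm => ?_
          have hm' := Finset.mem_range_succ_iff.mp hm
          rw [← Nat.cast_smul_eq_nsmul k (n.choose m), smul_smul, Nat.add_sub_cancel' hm',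
            ← hchoose m n hm' (Finset.mem_range.mp hn)]
          congr 1
          simp only [co]
          ring)
  refine ⟨ψ, ?_⟩
  -- an element of the image which is a unit times the variable
  obtain ⟨a, ha⟩ : ∃ a, e.ofConv a ≠ 0 := by
    by_contra h; push Not at h; exact hne (WithConv.ofConv_injective (LinearMap.ext h))
  let a' := a - algebraMap k A (counit (R := k) a)
  have hεa : counit (R := k) a' = 0 := by simp [a', Bialgebra.counit_algebraMap]
  have hea : e.ofConv a' ≠ 0 := by simpa [a', map_sub, pointDer_algebraMap he] using ha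
  let c := e.ofConv a'
  obtain ⟨z, hz⟩ : ∃ z, Φ a' = c • AlphaP.x p k + AlphaP.x p k ^ 2 * z := by
    refine ⟨∑ n ∈ Finset.range (p - 2), co (n + 2) a' • AlphaP.x p k ^ n, ?_⟩
    rw [hΦ, show Finset.range p = Finset.range (p - 2 + 1 + 1) by rw [show p - 2 + 1 + 1 = p by
      have := hp.out.two_le; omega], Finset.sum_range_succ', Finset.sum_range_succ', Finset.mul_sum]
    simp only [co, c, Nat.factorial_zero, Nat.factorial_one, Nat.cast_one, inv_one, one_mul, pow_zero e, pow_one,
      zero_add, LinearMap.convOne_apply, hεa, map_zero, zero_smul, add_zero]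
    rw [add_comm]
    congr 1
    exact Finset.sum_congr rfl fun n _ => by rw [mul_smul_comm, ← pow_add, add_comm 2 n]
  have hwz : Φ a' = AlphaP.x p k * (algebraMap k _ c + AlphaP.x p k * z) := by
    rw [hz, mul_add, Algebra.smul_def]; ring
  have hstep : ∀ d m, m + d = p → ∀ w, ∃ b, Φ b = AlphaP.x p k ^ m * w := by
    intro d
    induction d with
    | zero => intro m hm w; exact ⟨0, by rw [map_zero, show m = p by omega, AlphaP.x_pow, zero_mul]⟩
    | succ d ih =>
      intro m hm w
      obtain ⟨cw, hcw⟩ := alphaP_eq_sum p w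
      let w' := ∑ i : Fin p, if (i : ℕ) = 0 then 0 else cw i • AlphaP.x p k ^ ((i : ℕ) - 1)
      have hw : w = algebraMap k _ (cw ⟨0, hp.out.pos⟩) + AlphaP.x p k * w' := by
        rw [hcw, Finset.mul_sum, ← Finset.add_sum_erase _ _ (Finset.mem_univ (⟨0, hp.out.pos⟩ : Fin p))]
        congr 1
        · simp [Algebra.algebraMap_eq_smul_one]
        · rw [← Finset.add_sum_erase _ _ (Finset.mem_univ (⟨0, hp.out.pos⟩ : Fin p))]
          rw [if_pos rfl, mul_zero, zero_add]
          refine Finset.sum_congr rfl fun i hi => ?_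
          have h0 : (i : ℕ) ≠ 0 := fun h => (Finset.ne_of_mem_erase hi) (Fin.ext h)
          rw [if_neg h0, mul_smul_comm, ← pow_succ', Nat.sub_add_cancel (Nat.pos_of_ne_zero h0)]
      obtain ⟨b1, hb1⟩ := ih (m + 1) (by omega) w'
      obtain ⟨s, hs⟩ : ∃ s, (algebraMap k _ c + AlphaP.x p k * z) ^ m = algebraMap k _ (c ^ m) + AlphaP.x p k * s := by
        obtain ⟨s, hs⟩ := sub_dvd_pow_sub_pow (algebraMap k _ c + AlphaP.x p k * z) (algebraMap k _ c) m
        exact ⟨z * s, by rw [map_pow, ← sub_eq_iff_eq_add', hs]; ring⟩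
      obtain ⟨b2, hb2⟩ := ih (m + 1) (by omega) s
      refine ⟨(cw ⟨0, hp.out.pos⟩ * (c ^ m)⁻¹) • (a' ^ m - b2) + b1, ?_⟩
      rw [map_add, map_smul, map_sub, map_pow, hwz, hb1, hb2, hw, mul_pow, hs]
      have hc : algebraMap k (AlphaP.A p k) (c ^ m)⁻¹ * algebraMap k _ (c ^ m) = 1 := by
        rw [← map_mul, inv_mul_cancel₀ (pow_ne_zero _ hea), map_one]
      rw [Algebra.smul_def, map_mul, pow_succ]
      linear_combination (algebraMap k (AlphaP.A p k) (cw ⟨0, hp.out.pos⟩) * AlphaP.x p k ^ m) * hc
  intro w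
  obtain ⟨b, hb⟩ := hstep p 0 (by omega) w
  exact ⟨b, by rw [pow_zero, one_mul] at hb; exact hb⟩

open Polynomial in
theorem exists_muP_of_pointDer {e : WithConv (A →ₗ[k] k)} (he : IsPointDer e.ofConv) (hep : e ^ p = e)
    (hne : e ≠ 0) : ∃ f : A →ₐc[k] MonoidAlgebra k (Multiplicative (ZMod p)), Function.Surjective f := by
  classical
  let π : ZMod p → WithConv (A →ₗ[k] k) := fun j => aeval e (splitPoly p k j)
  have hcomm1 : ∀ x ∈ ({e} : Set (WithConv (A →ₗ[k] k))), ∀ y ∈ ({e} : Set _), x * y = y * x := by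
    rintro x rfl y rfl; rfl
  have horth : ∀ i j, π i * π j = if i = j then π j else 0 := by
    letI := Algebra.adjoinCommRingOfComm k hcomm1
    let t : Algebra.adjoin k ({e} : Set (WithConv (A →ₗ[k] k))) := ⟨e, Algebra.subset_adjoin rfl⟩
    have ht : t ^ p = t := Subtype.ext (by simpa using hep)
    intro i j
    have hval : ∀ i, (Algebra.adjoin k ({e} : Set (WithConv (A →ₗ[k] k)))).val (aeval t (splitPoly p k i)) = π i :=
      fun i => (aeval_algHom_apply _ _ _).symm
    rw [← hval, ← hval, ← map_mul, aeval_splitPoly_mul ht]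
    split_ifs <;> simp
  have hsum : ∑ j, π j = 1 := by simp only [π]; rw [← map_sum, sum_splitPoly, map_one]
  have hπone : ∀ j, (π j).ofConv 1 = if (0 : ZMod p) = j then 1 else 0 := fun j => by
    rw [← evalOne_apply, show evalOne k A (π j) = _ from (aeval_algHom_apply (evalOne k A) e _).symm, evalOne_apply,
      pointDer_one he, ← map_zero (ZMod.castHom (dvd_refl p) k), coe_aeval_eq_eval, eval_splitPoly]
    simp
  have hπmul : ∀ n a b, (π n).ofConv (a * b) = ∑ i, (π i).ofConv a * (π (n - i)).ofConv b := by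
    intro n a b
    let T := iFst k A e
    let U := iSnd k A e
    have hcomm2 : ∀ x ∈ ({T, U} : Set (WithConv (A ⊗[k] A →ₗ[k] k))), ∀ y ∈ ({T, U} : Set _), x * y = y * x := by
      rintro x (rfl | rfl) y (rfl | rfl)
      · rfl
      · exact commute_iFst_iSnd e e
      · exact (commute_iFst_iSnd e e).symm
      · rfl
    letI := Algebra.adjoinCommRingOfComm k hcomm2
    let S := Algebra.adjoin k ({T, U} : Set (WithConv (A ⊗[k] A →ₗ[k] k)))
    let t : S := ⟨T, Algebra.subset_adjoin (Set.mem_insert _ _)⟩
    let u : S := ⟨U, Algebra.subset_adjoin (Set.mem_insert_of_mem _ rfl)⟩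
    have ht : t ^ p = t := Subtype.ext (by
      show T ^ p = T
      rw [← map_pow, hep])
    have hu : u ^ p = u := Subtype.ext (by
      show U ^ p = U
      rw [← map_pow, hep])
    have hS : ∀ (x : S) (q : k[X]), S.val (aeval x q) = aeval (x : WithConv (A ⊗[k] A →ₗ[k] k)) q := fun x q =>
      (aeval_algHom_apply S.val x q).symm
    have h := congrArg S.val (aeval_splitPoly_add (k := k) ht hu n)
    simp only [map_sum, map_mul, hS] at h
    change aeval (T + U) (splitPoly p k n) = ∑ i, aeval T (splitPoly p k i) * aeval U (splitPoly p k (n - i)) at h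
    rw [← preMul_eq he, aeval_algHom_apply (preMul k A)] at h
    simp only [T, U, aeval_algHom_apply] at h
    rw [← preMul_tmul, show preMul k A (π n) = _ from h, WithConv.ofConv_sum, LinearMap.sum_apply]
    exact Finset.sum_congr rfl fun i _ => iFst_mul_iSnd _ _ _ _
  let G := Multiplicative (ZMod p)
  let L : A →ₗ[k] MonoidAlgebra k G :=
    { toFun := fun a => ∑ j : ZMod p, MonoidAlgebra.single (Multiplicative.ofAdd j) ((π j).ofConv a)
      map_add' := fun a b => by simp only [map_add, MonoidAlgebra.single_add, Finset.sum_add_distrib]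
      map_smul' := fun c a => by
        simp only [map_smul, RingHom.id_apply, Finset.smul_sum, MonoidAlgebra.smul_single] }
  have hL : ∀ a, L a = ∑ j : ZMod p, MonoidAlgebra.single (Multiplicative.ofAdd j) ((π j).ofConv a) := fun a => rfl
  have hone : L 1 = 1 := by
    rw [hL, Finset.sum_eq_single 0]
    · rw [hπone, if_pos rfl, ofAdd_zero, MonoidAlgebra.one_def]
    · intro j _ hj; rw [hπone, if_neg (Ne.symm hj), MonoidAlgebra.single_zero]
    · simp
  have hmul : ∀ a b, L (a * b) = L a * L b := by
    intro a b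
    rw [hL, hL, hL, Finset.sum_mul_sum]
    simp only [hπmul, MonoidAlgebra.single_mul_single, ← ofAdd_add]
    calc ∑ n, MonoidAlgebra.single (Multiplicative.ofAdd n) (∑ i, (π i).ofConv a * (π (n - i)).ofConv b)
        = ∑ n : ZMod p, ∑ i : ZMod p,
            MonoidAlgebra.single (Multiplicative.ofAdd n) ((π i).ofConv a * (π (n - i)).ofConv b) := by
          refine Finset.sum_congr rfl fun n _ => ?_
          exact map_sum (MonoidAlgebra.lsingle (R := k) (Multiplicative.ofAdd n)) _ _
      _ = _ := by
          rw [Finset.sum_comm]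
          refine Finset.sum_congr rfl fun i _ => ?_
          exact Fintype.sum_equiv (Equiv.subRight i) _ _ fun n => by simp
  let Φ : A →ₐ[k] MonoidAlgebra k G := AlgHom.ofLinearMap L hone hmul
  let ψ : A →ₐc[k] MonoidAlgebra k G := BialgHom.ofAlgHom Φ (AlgHom.ext fun a => by
      show counit (R := k) (L a) = counit (R := k) a
      rw [hL, map_sum]
      simp only [MonoidAlgebra.counit_single, CommSemiring.counit_apply]
      rw [← LinearMap.sum_apply, ← WithConv.ofConv_sum, hsum, LinearMap.convOne_apply, Algebra.algebraMap_self,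
        RingHom.id_apply]) (AlgHom.ext fun a => by
      simp only [AlgHom.comp_apply, Bialgebra.comulAlgHom_apply]
      show Algebra.TensorProduct.map Φ Φ (comul (R := k) a) = comul (R := k) (L a)
      rw [← (ℛ k a).eq, map_sum]
      simp only [Algebra.TensorProduct.map_tmul]
      change ∑ l ∈ (ℛ k a).index, L ((ℛ k a).left l) ⊗ₜ[k] L ((ℛ k a).right l) = _
      simp only [hL, map_sum, MonoidAlgebra.comul_single, CommSemiring.comul_apply, TensorProduct.map_tmul,
        MonoidAlgebra.lsingle_apply, TensorProduct.sum_tmul, TensorProduct.tmul_sum]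
      have hs : ∀ (g : G) (r : k), MonoidAlgebra.single g r = r • MonoidAlgebra.single g (1 : k) := fun g r => by simp
      conv_lhs => arg 2; ext l; arg 2; ext j; arg 2; ext i; rw [hs (Multiplicative.ofAdd i) _, hs (Multiplicative.ofAdd j) _, smul_tmul_smul]
      rw [Finset.sum_comm]
      refine Finset.sum_congr rfl fun j _ => ?_
      rw [Finset.sum_comm]
      simp only [← Finset.sum_smul, ← mul_apply_eq_lift]
      rw [Finset.sum_eq_single j]
      · rw [horth, if_pos rfl, hs _ ((π j).ofConv a), tmul_smul, smul_tmul']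
      · intro i _ hi
        rw [horth, if_neg hi]
        exact zero_smul _ _
      · simp)
  refine ⟨ψ, ?_⟩
  -- every idempotent is nonzero
  let S := Finset.univ.filter fun j => π j ≠ 0
  have hexist : ∀ i, π i ≠ 0 → ∃ x : A, ∀ j, (π j).ofConv x = if j = i then 1 else 0 := by
    intro i hi
    by_contra hno
    let W : A →ₗ[k] (ZMod p → k) := LinearMap.pi fun j => (π j).ofConv
    have hnot : (Pi.single i 1 : ZMod p → k) ∉ LinearMap.range W := by
      rintro ⟨x, hx⟩
      exact hno ⟨x, fun j => (congrFun hx j).trans (Pi.single_apply i 1 j)⟩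
    obtain ⟨φ, hφi, hφ⟩ := Submodule.exists_le_ker_of_notMem hnot
    have hzero : ∑ j, φ (Pi.single j 1) • π j = 0 := by
      refine WithConv.ofConv_injective (LinearMap.ext fun x => ?_)
      have h1 := LinearMap.mem_ker.mp (hφ ⟨x, rfl⟩)
      rw [pi_eq_sum_univ' (W x), map_sum] at h1
      rw [WithConv.ofConv_sum, LinearMap.sum_apply]
      refine Eq.trans (Finset.sum_congr rfl fun j _ => ?_) h1
      rw [map_smul, WithConv.ofConv_smul, LinearMap.smul_apply, smul_eq_mul, smul_eq_mul, mul_comm]
      rfl
    have h2 := congrArg (· * π i) hzero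
    simp only [Finset.sum_mul, smul_mul_assoc, zero_mul, horth, smul_ite, smul_zero, Finset.sum_ite_eq',
      Finset.mem_univ, if_true] at h2
    exact hφi ((smul_eq_zero.mp h2).resolve_right hi)
  obtain ⟨i0, hi0, hπi0⟩ : ∃ i, i ≠ 0 ∧ π i ≠ 0 := by
    by_contra h
    push Not at h
    have h0 : π 0 = 1 := by rw [← hsum, Finset.sum_eq_single 0 (fun j _ hj => h j hj) (by simp)]
    have hkill : e * π 0 = 0 := by
      letI := Algebra.adjoinCommRingOfComm k hcomm1
      let S1 := Algebra.adjoin k ({e} : Set (WithConv (A →ₗ[k] k)))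
      let t : S1 := ⟨e, Algebra.subset_adjoin rfl⟩
      have ht : t ^ p = t := Subtype.ext (by simpa using hep)
      have := congrArg S1.val (sub_mul_splitPoly_eq_zero (k := k) ht 0)
      rw [map_zero, map_zero, sub_zero, map_mul, map_zero, ← aeval_algHom_apply] at this
      exact this
    rw [h0, mul_one] at hkill
    exact hne hkill
  have hall : ∀ j, π j ≠ 0 := by
    have hadd : ∀ i j, π i ≠ 0 → π j ≠ 0 → π (i + j) ≠ 0 := by
      intro i j hi hj h0
      obtain ⟨x, hx⟩ := hexist i hi
      obtain ⟨y, hy⟩ := hexist j hj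
      have := hπmul (i + j) x y
      rw [h0, Finset.sum_eq_single i (fun l _ hl => by rw [hx, if_neg hl, zero_mul]) (by simp), hx, hy, if_pos rfl,
        if_pos (by abel), one_mul] at this
      exact zero_ne_one this
    have hmult : ∀ n : ℕ, π ((n + 1 : ℕ) * i0) ≠ 0 := by
      intro n
      induction n with
      | zero => simpa using hπi0
      | succ n ih => rw [Nat.cast_succ, add_mul, one_mul]; exact hadd _ _ ih hπi0
    intro j
    obtain ⟨m, hm⟩ : ∃ m : ℕ, ((m + 1 : ℕ) : ZMod p) * i0 = j := by
      refine ⟨(j * i0⁻¹ - 1).val, ?_⟩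
      rw [Nat.cast_succ, ZMod.natCast_zmod_val, sub_add_cancel, mul_assoc, inv_mul_cancel₀ hi0, mul_one]
    exact hm ▸ hmult m
  intro w
  induction w using MonoidAlgebra.induction_linear with
  | zero => exact ⟨0, map_zero _⟩
  | add f g hf hg =>
    obtain ⟨x, rfl⟩ := hf
    obtain ⟨y, rfl⟩ := hg
    exact ⟨x + y, map_add _ _ _⟩
  | single g r =>
    obtain ⟨x, hx⟩ := hexist (Multiplicative.toAdd g) (hall _)
    refine ⟨r • x, ?_⟩
    show L (r • x) = _
    rw [hL, Finset.sum_eq_single (Multiplicative.toAdd g)]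
    · rw [map_smul, hx, if_pos rfl, smul_eq_mul, mul_one, ofAdd_toAdd]
    · intro j _ hj; rw [map_smul, hx, if_neg hj, smul_zero, MonoidAlgebra.single_zero]
    · simp

theorem exists_surjective_muP_or_alphaP [IsAlgClosed k] [Module.Finite k A] (hr : ¬ IsReduced A) :
    (∃ f : A →ₐc[k] MonoidAlgebra k (Multiplicative (ZMod p)), Function.Surjective f) ∨
      (∃ f : A →ₐc[k] AlphaP.A p k, Function.Surjective f) := by
  let P : Submodule k (WithConv (A →ₗ[k] k)) :=
    { carrier := {e | IsPointDer e.ofConv}
      zero_mem' := fun a b => by simp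
      add_mem' := fun {f g} hf hg a b => by
        simp only [WithConv.ofConv_add, LinearMap.add_apply, hf a b, hg a b]; ring
      smul_mem' := fun c f hf a b => by
        simp only [WithConv.ofConv_smul, LinearMap.smul_apply, smul_eq_mul, hf a b]; ring }
  haveI : Module.Finite k (WithConv (A →ₗ[k] k)) :=
    Module.Finite.equiv (WithConv.linearEquiv k (A →ₗ[k] k)).symm
  obtain ⟨δ, hδ, hne⟩ := exists_pointDer_of_not_isReduced (k := k) hr
  have hP : P ≠ ⊥ := (Submodule.ne_bot_iff _).mpr ⟨toConv δ, hδ, fun h => hne (congrArg WithConv.ofConv h)⟩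
  obtain ⟨w, hw, hw0, c, hc⟩ := exists_pow_char_eq_smul p P (fun u hu => isPointDer_pow_char p hu) hP
  by_cases hc0 : c = 0
  · exact Or.inr (exists_alphaP_of_pointDer p hw (by rw [hc, hc0, zero_smul]) hw0)
  · refine Or.inl ?_
    obtain ⟨s, hs⟩ := IsAlgClosed.exists_pow_nat_eq c⁻¹ (Nat.sub_pos_of_lt hp.out.one_lt)
    have hs0 : s ≠ 0 := fun h => by
      rw [h, zero_pow (Nat.sub_ne_zero_of_lt hp.out.one_lt)] at hs
      exact inv_ne_zero hc0 hs.symm
    refine exists_muP_of_pointDer p (e := s • w) (P.smul_mem s hw) ?_ (smul_ne_zero hs0 hw0)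
    rw [smul_pow, hc, smul_smul]
    congr 1
    rw [← Nat.succ_pred_eq_of_pos hp.out.pos, pow_succ, show p.pred = p - 1 from rfl, hs]
    field_simp

end Build

end

end Groth.Agent.H20OT
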